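import Cfsg.Agent.Lib.M22Order.Model

/-!
# The local data of a simple group of order 443520

An elementary abelian subgroup `E` of order 16 with coordinates in the symplectic space, together
with the facts on its normalizer from which the graph on 77 points is built.
-/

set_option autoImplicit false

namespace Cfsg.Agent.M22Order

open Subgroup

universe u

/-- The local data. -/
structure Frame (G : Type u) [Group G] where
  /-- The elementary abelian subgroup of order 16. -/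
  E : Subgroup G
  /-- Coordinates. -/
  φ : G → Model.Vec
  card_E : Nat.card E = 16
  φ_mul : ∀ x ∈ E, ∀ y ∈ E, φ (x * y) = φ x + φ y
  φ_eq_zero : ∀ x ∈ E, φ x = 0 → x = 1
  φ_surj : ∀ v, ∃ x ∈ E, φ x = v
  cen_E : centralizer (E : Set G) = E
  card_K : Nat.card (normalizer (E : Set G)) = 5760
  form_inv : ∀ k ∈ normalizer (E : Set G), ∀ x ∈ E, ∀ y ∈ E,
    Model.form (φ (k * x * k⁻¹)) (φ (k * y * k⁻¹)) = Model.form (φ x) (φ y)
  cen_le : ∀ t ∈ E, t ≠ 1 → centralizer ({t} : Set G) ≤ normalizer (E : Set G)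
  unique : ∀ t ∈ E, t ≠ 1 → ∀ g : G, g * t * g⁻¹ ∈ E → g ∈ normalizer (E : Set G)
  every : ∀ t : G, orderOf t = 2 → ∃ g : G, g * t * g⁻¹ ∈ E
  flag : ∀ t ∈ E, ∀ x ∈ E, ∀ t' ∈ E, ∀ x' ∈ E, t ≠ 1 → t' ≠ 1 → x ≠ 1 → x ≠ t → x' ≠ 1 → x' ≠ t' →
    Model.form (φ t) (φ x) = 0 → Model.form (φ t') (φ x') = 0 →
      ∃ k ∈ normalizer (E : Set G), k * t * k⁻¹ = t' ∧ (k * x * k⁻¹ = x' ∨ k * x * k⁻¹ = t' * x')
  outside : ∀ s ∈ normalizer (E : Set G), s ∉ E → orderOf s = 2 →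
    Nat.card (E ⊓ centralizer ({s} : Set G) : Subgroup G) = 4 ∧
      ∀ x ∈ E ⊓ centralizer ({s} : Set G), ∀ y ∈ E ⊓ centralizer ({s} : Set G),
        Model.form (φ x) (φ y) = 0
  card_commuting : ∀ t ∈ E, t ≠ 1 → Nat.card {u : G // orderOf u = 2 ∧ Commute u t ∧ u ≠ t} = 50

end Cfsg.Agent.M22Order
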