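import Cfsg.Agent.Lib.M22Order.Form
import Cfsg.Agent.Lib.M22Order.Frame

/-!
# Simple groups of order 443520: existence of the local data
-/

set_option autoImplicit false
set_option linter.style.haveILetI false
set_option linter.unusedSectionVars false

namespace Cfsg.Agent.M22Order

open Subgroup
open Cfsg.Agent.M12Order (cen card_fixed_mod)

universe u

variable {G : Type u} [Group G] [Finite G]

namespace Setup

variable (S : Setup G) [IsSimpleGroup G] (hcard : Nat.card G = 443520)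

include hcard

theorem frm_invariant {k x z : G} (hk : Commute k S.t) (hx : x = S.t) :
    frm x (k * z * k⁻¹) = frm x z := by
  subst hx
  conv_lhs => rw [show S.t = k * S.t * k⁻¹ by rw [hk.eq, mul_inv_cancel_right]]
  exact frm_conj k S.t z

/-- The perpendicular of `t`. -/
noncomputable def perp : Subgroup G where
  carrier := {z | z ∈ S.E ∧ frm S.t z = 0}
  one_mem' := ⟨one_mem _, frm_one _⟩
  mul_mem' := fun {a b} ha hb => ⟨mul_mem ha.1 hb.1, by
    rw [S.frm_t_mul hcard ha.1 hb.1, ha.2, hb.2, add_zero]⟩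
  inv_mem' := fun {a} ha => by
    rw [inv_eq_of_mul_eq_one_right (S.sq hcard ha.1)]
    exact ha

theorem mem_perp {z : G} : z ∈ S.perp hcard ↔ z ∈ S.E ∧ frm S.t z = 0 := Iff.rfl

theorem perp_cases {z : G} (hz : z ∈ S.perp hcard) : ∃ m ∈ S.A, z = m ∨ z = S.t * m := by
  obtain ⟨u, hu, hu1, hut⟩ := S.exists_u hcard
  obtain ⟨m, hm, h⟩ := S.exists_coset hcard hu hu1 hut hz.1
  obtain ⟨-, -, a3, a4⟩ := S.frm_coset hcard hu hu1 hut hm
  rcases h with e | e | e | e
  · exact ⟨m, hm, Or.inl e⟩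
  · exact ⟨m, hm, Or.inr e⟩
  · exact absurd (hz.2.symm.trans (e ▸ a3)) (by decide)
  · exact absurd (hz.2.symm.trans (e ▸ a4)) (by decide)

theorem A_le_perp : S.A ≤ S.perp hcard := fun m hm => by
  obtain ⟨u, hu, hu1, hut⟩ := S.exists_u hcard
  exact ⟨S.A_le hcard hm, (S.frm_coset hcard hu hu1 hut hm).1⟩

theorem t_mem_perp : S.t ∈ S.perp hcard := ⟨S.D_le hcard (S.t_mem_D hcard), frm_self _⟩

theorem eight_le_perp : 8 ≤ Nat.card (S.perp hcard) := by
  classical
  have h2 : ((S.A : Set G) ∪ (fun m => S.t * m) '' (S.A : Set G)) ⊆ (S.perp hcard : Set G) := by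
    rintro z (hz | ⟨m, hm, rfl⟩)
    · exact S.A_le_perp hcard hz
    · exact mul_mem (S.t_mem_perp hcard) (S.A_le_perp hcard hm)
  have hd : Disjoint (S.A : Set G) ((fun m => S.t * m) '' (S.A : Set G)) := by
    refine Set.disjoint_left.2 ?_
    rintro z hz ⟨m, hm, rfl⟩
    refine S.t_ne hcard (S.eq_one_of_D_A hcard (S.t_mem_D hcard) ?_)
    have := mul_mem hz (S.A.inv_mem hm)
    rwa [mul_inv_cancel_right] at this
  have h3 := Set.ncard_le_ncard h2
  rw [Set.ncard_union_eq hd, Set.ncard_image_of_injective _ (mul_right_injective S.t),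
    ← Nat.card_coe_set_eq, ← Nat.card_coe_set_eq,
    show Nat.card ((S.A : Subgroup G) : Set G) = 4 from S.card_A hcard] at h3
  exact h3

/-- Nothing outside `E` centralizes the perpendicular of `t`. -/
theorem centralizer_perp : centralizer ((S.perp hcard : Subgroup G) : Set G) = S.E := by
  classical
  set W := centralizer ((S.perp hcard : Subgroup G) : Set G) with hW
  have hEW : S.E ≤ W := fun x hx => mem_centralizer_iff.2 fun z hz => S.comm hcard hz.1 hx
  have hWC : W ≤ centralizer ({S.t} : Set G) := fun x hx => mem_centralizer_singleton_iff.2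
    (mem_centralizer_iff.1 hx S.t (S.t_mem_perp hcard)).symm
  have h3 : ¬ 3 ∣ Nat.card W := by
    intro hd
    haveI : Fact (Nat.Prime 3) := ⟨Nat.prime_three⟩
    obtain ⟨⟨x, hxW⟩, hx⟩ := exists_prime_orderOf_dvd_card' (G := W) 3 hd
    rw [Subgroup.orderOf_mk] at hx
    have hle : S.perp hcard ≤ centralizer ({x} : Set G) := fun y hy =>
      mem_centralizer_singleton_iff.2 (mem_centralizer_iff.1 hxW y hy)
    have h36 : Nat.card (S.perp hcard) ∣ 36 := cen_three hcard hx ▸ card_dvd_of_le hle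
    have h16 : Nat.card (S.perp hcard) ∣ 16 := S.card_E hcard ▸ card_dvd_of_le fun y hy => hy.1
    have h4 : Nat.card (S.perp hcard) ∣ 4 := by simpa using Nat.dvd_gcd h36 h16
    have := Nat.le_of_dvd (by norm_num) h4
    have := S.eight_le_perp hcard
    omega
  have hrW : ∀ x ∈ W, S.r * x * S.r⁻¹ ∈ W := by
    intro x hx
    rw [hW, mem_centralizer_iff] at hx ⊢
    intro z hz
    have hz' : S.r⁻¹ * z * S.r ∈ S.perp hcard := by
      refine ⟨by simpa using S.conj_P hcard (inv_mem S.hrP) hz.1, ?_⟩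
      have := S.frm_invariant hcard (z := z) S.hrt.inv_left rfl
      rw [inv_inv] at this
      rw [this]
      exact hz.2
    have h1 := commute_conj S.r (show Commute (S.r⁻¹ * z * S.r) x from hx _ hz')
    simpa [mul_assoc, Commute, SemiconjBy] using h1
  have hWR : W ≤ S.R :=
    S.hR.absorb S.r S.hr S.hrt W hWC (S.isPGroup_of_not_three hcard hWC h3) hrW
  have hge := Nat.le_of_dvd Nat.card_pos (S.card_E hcard ▸ card_dvd_of_le hEW)
  rcases card_invariant hcard S.ht S.hR S.hr S.hrt hWR ((S.D_le hcard).trans hEW) hrW with h | h | h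
  · omega
  · exact (eq_of_le_of_card_ge hEW (by rw [h, S.card_E hcard])).symm
  · exfalso
    have hRW : W = S.R := eq_of_le_of_card_ge hWR (by rw [h, S.hR.card])
    refine not_big hcard S.ha ?_
    refine (show 64 ∣ Nat.card W by rw [h]).trans (card_dvd_of_le fun x hx => ?_)
    exact mem_centralizer_iff.2 fun z hz => mem_centralizer_iff.1 hx z (S.A_le_perp hcard hz)

theorem outside {s : G} (hs : s ∈ normalizer (S.E : Set G)) (hsE : s ∉ S.E) (ho : orderOf s = 2) :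
    Nat.card (S.E ⊓ centralizer ({s} : Set G) : Subgroup G) = 4 ∧
      ∀ x ∈ S.E ⊓ centralizer ({s} : Set G), ∀ y ∈ S.E ⊓ centralizer ({s} : Set G), frm x y = 0 := by
  classical
  have hss : s * s = 1 := by rw [← pow_two, ← ho, pow_orderOf_eq_one]
  have hsi : s⁻¹ = s := inv_eq_of_mul_eq_one_right hss
  set T := S.E ⊓ centralizer ({s} : Set G) with hT
  have hc : ∀ z ∈ S.E, s * z * s⁻¹ ∈ S.E := fun z hz => conj_mem_of_mem_normalizer hs hz
  -- `z ↦ z * s z s⁻¹`
  let F : S.E →* S.E :=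
    { toFun := fun z => ⟨(z : G) * (s * z * s⁻¹), mul_mem z.2 (hc z z.2)⟩
      map_one' := Subtype.ext (by simp)
      map_mul' := fun x y => Subtype.ext (by
        show (x : G) * y * (s * (x * y) * s⁻¹) = x * (s * x * s⁻¹) * (y * (s * y * s⁻¹))
        rw [show s * ((x : G) * y) * s⁻¹ = (s * x * s⁻¹) * (s * y * s⁻¹) by group,
          mul_assoc, ← mul_assoc (y : G), (S.comm hcard y.2 (hc x x.2)).eq]
        group) }
  have hker : F.ker = T.subgroupOf S.E := by
    ext ⟨z, hz⟩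
    rw [MonoidHom.mem_ker, mem_subgroupOf, hT, mem_inf, mem_centralizer_singleton_iff, Subtype.ext_iff]
    show z * (s * z * s⁻¹) = 1 ↔ z ∈ S.E ∧ z * s = s * z
    constructor
    · intro h
      refine ⟨hz, ?_⟩
      have := (eq_inv_of_mul_eq_one_right h).trans (inv_eq_of_mul_eq_one_right (S.sq hcard hz))
      exact (mul_inv_eq_iff_eq_mul.1 this).symm
    · rintro ⟨-, h⟩
      rw [← h, mul_inv_cancel_right, S.sq hcard hz]
  have hrange : ∀ y ∈ F.range, (y : G) ∈ T := by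
    rintro _ ⟨⟨z, hz⟩, rfl⟩
    refine mem_inf.2 ⟨mul_mem hz (hc z hz), mem_centralizer_singleton_iff.2 ?_⟩
    have h2 : s * (z * (s * z * s⁻¹)) * s⁻¹ = z * (s * z * s⁻¹) := by
      calc s * (z * (s * z * s⁻¹)) * s⁻¹ = (s * z * s⁻¹) * ((s * s) * z * (s * s)⁻¹) := by group
        _ = (s * z * s⁻¹) * z := by rw [hss]; group
        _ = z * (s * z * s⁻¹) := (S.comm hcard hz (hc z hz)).symm.eq
    exact (mul_inv_eq_iff_eq_mul.1 h2).symm
  -- orders
  have hmul : Nat.card F.ker * Nat.card F.range = 16 := by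
    rw [← S.card_E hcard, ← F.ker.card_mul_index, index_ker]
  have hkerT : Nat.card F.ker = Nat.card T := by
    rw [hker]; exact Nat.card_congr (subgroupOfEquivOfLe inf_le_left).toEquiv
  have hrle : Nat.card F.range ≤ Nat.card T :=
    Nat.card_le_card_of_injective (fun y : F.range => (⟨(y : S.E), hrange y y.2⟩ : T))
      fun y y' e => Subtype.ext (Subtype.ext (congrArg Subtype.val e :))
  rw [hkerT] at hmul
  have hTd : Nat.card T ∣ 16 := ⟨_, hmul.symm⟩
  obtain ⟨k, hk, hkT⟩ := (Nat.dvd_prime_pow Nat.prime_two (m := 4)).1 hTd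
  -- invariance
  have hinv : ∀ x ∈ S.E, ∀ y ∈ S.E, frm (s * x * s⁻¹) (s * y * s⁻¹) = frm x y :=
    fun x _ y _ => frm_conj s x y
  have hperp : ∀ w ∈ T, ∀ z ∈ S.E, frm w (z * (s * z * s⁻¹)) = 0 := by
    intro w hw z hz
    rw [S.frm_mul hcard (mem_inf.1 hw).1 hz (hc z hz)]
    have : frm w (s * z * s⁻¹) = frm w z := by
      have h := hinv w (mem_inf.1 hw).1 z hz
      rwa [show s * w * s⁻¹ = w by
        rw [← mem_centralizer_singleton_iff.1 (mem_inf.1 hw).2, mul_inv_cancel_right]] at h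
    rw [this, ← two_mul, show (2 : ZMod 2) = 0 by decide, zero_mul]
  have h16 : Nat.card T ≠ 16 := fun h => hsE (by
    rw [← S.centralizer_E hcard]
    refine mem_centralizer_iff.2 fun z hz => ?_
    have heq : T = S.E := eq_of_le_of_card_ge inf_le_left (by rw [h, S.card_E hcard])
    exact mem_centralizer_singleton_iff.1 (mem_inf.1 ((SetLike.ext_iff.1 heq z).2 hz)).2)
  have h8 : Nat.card T ≠ 8 := by
    intro h
    obtain ⟨⟨z₀, hz₀⟩, hz₀r, hz₀1⟩ : ∃ y ∈ F.range, y ≠ 1 := by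
      by_contra hno
      push Not at hno
      rw [show F.range = ⊥ from (eq_bot_iff_forall _).2 hno, card_bot, h] at hmul
      omega
    have hz₀1' : z₀ ≠ 1 := fun e => hz₀1 (Subtype.ext e)
    obtain ⟨⟨z, hz⟩, hze⟩ := hz₀r
    have hze' : z * (s * z * s⁻¹) = z₀ := congrArg Subtype.val hze
    obtain ⟨g, hg, hgt⟩ := S.trans hcard hz₀ hz₀1'
    set s' := g⁻¹ * s * g with hs'
    -- `s'` centralizes the perpendicular of `t`
    have hsub : ∀ w ∈ T, g⁻¹ * w * g ∈ S.perp hcard ∧ Commute s' (g⁻¹ * w * g) := by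
      intro w hw
      refine ⟨⟨by simpa using conj_mem_of_mem_normalizer (inv_mem hg) (mem_inf.1 hw).1, ?_⟩, ?_⟩
      · have h1 := hperp w hw z hz
        rw [hze', ← hgt, frm_comm] at h1
        have h2 : frm (g * S.t * g⁻¹) (g * (g⁻¹ * w * g) * g⁻¹) = frm S.t (g⁻¹ * w * g) := frm_conj _ _ _
        rw [show g * (g⁻¹ * w * g) * g⁻¹ = w by group, h1] at h2
        exact h2.symm
      · have := commute_conj g⁻¹ (show Commute s w from
          (mem_centralizer_singleton_iff.1 (mem_inf.1 hw).2).symm)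
        rwa [inv_inv] at this
    have hle : Nat.card (S.perp hcard) ≤ 8 := by
      have hd : Nat.card (S.perp hcard) ∣ 16 := S.card_E hcard ▸ card_dvd_of_le fun y hy => hy.1
      have hne : Nat.card (S.perp hcard) ≠ 16 := fun e => by
        obtain ⟨u, hu, hu1, hut⟩ := S.exists_u hcard
        have hup : u ∈ S.perp hcard := (SetLike.ext_iff.1 (eq_of_le_of_card_ge
          (fun y hy => hy.1 : S.perp hcard ≤ S.E) (by rw [e, S.card_E hcard])) u).2 (S.D_le hcard hu)
        have := (S.frm_coset hcard hu hu1 hut (one_mem S.A)).2.2.1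
        rw [mul_one, hup.2] at this
        exact absurd this (by decide)
      obtain ⟨j, hj, e⟩ := (Nat.dvd_prime_pow Nat.prime_two (m := 4)).1 hd
      rw [e] at hne ⊢
      interval_cases j <;> omega
    have hs'W : s' ∈ centralizer ((S.perp hcard : Subgroup G) : Set G) := by
      have hbij : Function.Bijective (fun w : T => (⟨g⁻¹ * w * g, (hsub w w.2).1⟩ : S.perp hcard)) := by
        have hinj : Function.Injective
            (fun w : T => (⟨g⁻¹ * w * g, (hsub w w.2).1⟩ : S.perp hcard)) :=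
          fun w w' e => Subtype.ext (mul_left_cancel (mul_right_cancel (congrArg Subtype.val e :)))
        refine (Nat.bijective_iff_injective_and_card _).2 ⟨hinj, ?_⟩
        have := Nat.card_le_card_of_injective _ hinj
        omega
      refine mem_centralizer_iff.2 fun y hy => ?_
      obtain ⟨w, hw⟩ := hbij.2 ⟨y, hy⟩
      have hw' : g⁻¹ * (w : G) * g = y := congrArg Subtype.val hw
      exact hw' ▸ (hsub w w.2).2.symm.eq
    rw [S.centralizer_perp hcard] at hs'W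
    refine hsE ?_
    have := conj_mem_of_mem_normalizer hg hs'W
    rwa [hs', show g * (g⁻¹ * s * g) * g⁻¹ = s by group] at this
  have hT4 : Nat.card T = 4 := by
    rw [hkT] at hmul hrle h16 h8 ⊢
    interval_cases k <;> omega
  refine ⟨hT4, fun x hx y hy => ?_⟩
  let inc : F.range → T := fun w => ⟨((w : S.E) : G), hrange (w : S.E) w.2⟩
  have hinj : Function.Injective inc :=
    fun w w' e => Subtype.ext (Subtype.ext (congrArg Subtype.val e :))
  have hsurj : Function.Surjective inc :=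
    ((Nat.bijective_iff_injective_and_card inc).2 ⟨hinj, by rw [hT4] at hmul ⊢; omega⟩).2
  obtain ⟨⟨_, ⟨z, rfl⟩⟩, hw⟩ := hsurj ⟨y, hy⟩
  have hw' : (z : G) * (s * z * s⁻¹) = y := congrArg Subtype.val hw
  rw [← hw']
  exact hperp x hx z z.2

theorem exists_power {x x' : G} (hx : x ∈ S.perp hcard) (hx1 : x ≠ 1) (hxt : x ≠ S.t)
    (hx' : x' ∈ S.perp hcard) (hx1' : x' ≠ 1) (hxt' : x' ≠ S.t) :
    ∃ i : ℕ, S.r ^ i * x * (S.r ^ i)⁻¹ = x' ∨ S.r ^ i * x * (S.r ^ i)⁻¹ = S.t * x' := by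
  obtain ⟨m, hm, e⟩ := S.perp_cases hcard hx
  obtain ⟨m', hm', e'⟩ := S.perp_cases hcard hx'
  have hm1 : m ≠ 1 := fun h => by
    rcases e with e | e <;> rw [h] at e
    · exact hx1 e
    · exact hxt (by rw [e, mul_one])
  have hm1' : m' ≠ 1 := fun h => by
    rcases e' with e' | e' <;> rw [h] at e'
    · exact hx1' e'
    · exact hxt' (by rw [e', mul_one])
  obtain ⟨i, hi⟩ := S.A_cycle hcard hm hm1 hm' hm1'
  refine ⟨i, ?_⟩
  have htt : S.t * S.t = 1 := (exists_four hcard S.hr).2.1 _ (S.t_mem_D hcard)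
  have hti : S.r ^ i * S.t * (S.r ^ i)⁻¹ = S.t := by
    rw [(S.hrt.pow_left i).eq, mul_inv_cancel_right]
  have hsplit : S.r ^ i * (S.t * m) * (S.r ^ i)⁻¹ = S.t * m' := by
    calc S.r ^ i * (S.t * m) * (S.r ^ i)⁻¹
        = (S.r ^ i * S.t * (S.r ^ i)⁻¹) * (S.r ^ i * m * (S.r ^ i)⁻¹) := by group
      _ = _ := by rw [hti, hi]
  rcases e with e | e <;> rcases e' with e' | e' <;> rw [e, e']
  · exact Or.inl hi
  · exact Or.inr (by rw [hi, ← mul_assoc, htt, one_mul])
  · exact Or.inr hsplit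
  · exact Or.inl hsplit

theorem flag {x y x' y' : G} (hx : x ∈ S.E) (hy : y ∈ S.E) (hx' : x' ∈ S.E) (hy' : y' ∈ S.E)
    (hx1 : x ≠ 1) (hx1' : x' ≠ 1) (hy1 : y ≠ 1) (hyx : y ≠ x) (hy1' : y' ≠ 1) (hyx' : y' ≠ x')
    (h : frm x y = 0) (h' : frm x' y' = 0) :
    ∃ k ∈ normalizer (S.E : Set G), k * x * k⁻¹ = x' ∧ (k * y * k⁻¹ = y' ∨ k * y * k⁻¹ = x' * y') := by
  obtain ⟨g, hg, rfl⟩ := S.trans hcard hx hx1
  obtain ⟨g', hg', rfl⟩ := S.trans hcard hx' hx1'
  have key : ∀ (c v : G), c ∈ normalizer (S.E : Set G) → v ∈ S.E → v ≠ 1 → v ≠ c * S.t * c⁻¹ →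
      frm (c * S.t * c⁻¹) v = 0 →
      c⁻¹ * v * c ∈ S.perp hcard ∧ c⁻¹ * v * c ≠ 1 ∧ c⁻¹ * v * c ≠ S.t := by
    intro c v hc hv hv1 hvt hf
    refine ⟨⟨by simpa using conj_mem_of_mem_normalizer (inv_mem hc) hv, ?_⟩, fun e => hv1 ?_,
      fun e => hvt ?_⟩
    · have h2 := frm_conj c S.t (c⁻¹ * v * c)
      rw [show c * (c⁻¹ * v * c) * c⁻¹ = v by group, hf] at h2
      exact h2.symm
    · calc v = c * (c⁻¹ * v * c) * c⁻¹ := by group
        _ = 1 := by rw [e]; group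
    · calc v = c * (c⁻¹ * v * c) * c⁻¹ := by group
        _ = _ := by rw [e]
  obtain ⟨p1, p2, p3⟩ := key g y hg hy hy1 hyx h
  obtain ⟨q1, q2, q3⟩ := key g' y' hg' hy' hy1' hyx' h'
  obtain ⟨i, hi⟩ := S.exists_power hcard p1 p2 p3 q1 q2 q3
  have hri : S.r ^ i ∈ normalizer (S.E : Set G) := pow_mem (S.P_le hcard S.hrP) i
  refine ⟨g' * S.r ^ i * g⁻¹, mul_mem (mul_mem hg' hri) (inv_mem hg), ?_, ?_⟩
  · calc g' * S.r ^ i * g⁻¹ * (g * S.t * g⁻¹) * (g' * S.r ^ i * g⁻¹)⁻¹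
        = g' * (S.r ^ i * S.t * (S.r ^ i)⁻¹) * g'⁻¹ := by group
      _ = _ := by rw [(S.hrt.pow_left i).eq, mul_inv_cancel_right]
  · have e : g' * S.r ^ i * g⁻¹ * y * (g' * S.r ^ i * g⁻¹)⁻¹ =
        g' * (S.r ^ i * (g⁻¹ * y * g) * (S.r ^ i)⁻¹) * g'⁻¹ := by group
    rcases hi with hi | hi <;> rw [e, hi]
    · exact Or.inl (by group)
    · exact Or.inr (by group)

/-- A symplectic basis. -/
theorem exists_basis : ∃ b₁ b₂ b₃ b₄ : G, b₁ ∈ S.E ∧ b₂ ∈ S.E ∧ b₃ ∈ S.E ∧ b₄ ∈ S.E ∧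
    frm b₁ b₂ = 1 ∧ frm b₃ b₄ = 1 ∧ frm b₁ b₃ = 0 ∧ frm b₁ b₄ = 0 ∧ frm b₂ b₃ = 0 ∧ frm b₂ b₄ = 0 := by
  classical
  obtain ⟨u, hu, hu1, hut⟩ := S.exists_u hcard
  have hUE := S.D_le hcard hu
  have htE := (S.t_mem_perp hcard).1
  have htu : frm S.t u = 1 := by
    have := (S.frm_coset hcard hu hu1 hut (one_mem S.A)).2.2.1
    rwa [mul_one] at this
  let F : S.E →* Multiplicative (ZMod 2 × ZMod 2) :=
    { toFun := fun z => Multiplicative.ofAdd (frm S.t z, frm u z)
      map_one' := by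
        show Multiplicative.ofAdd (frm S.t (1 : G), frm u (1 : G)) = 1
        rw [frm_one, frm_one]; rfl
      map_mul' := fun a b => by
        show Multiplicative.ofAdd (frm S.t ((a : G) * b), frm u ((a : G) * b)) = _
        rw [S.frm_mul hcard htE a.2 b.2, S.frm_mul hcard hUE a.2 b.2]; rfl }
  obtain ⟨⟨b₃, hb₃⟩, hker, hb₃1⟩ : ∃ z ∈ F.ker, z ≠ 1 := by
    by_contra hno
    push Not at hno
    have hmul := F.ker.card_mul_index
    rw [show F.ker = ⊥ from (eq_bot_iff_forall _).2 hno, card_bot, one_mul, S.card_E hcard] at hmul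
    have hle : (⊥ : Subgroup S.E).index ≤ 4 := by
      rw [← show F.ker = ⊥ from (eq_bot_iff_forall _).2 hno, index_ker]
      refine (Nat.le_of_dvd ?_ (card_subgroup_dvd_card _)).trans ?_
      · exact Nat.card_pos
      · simp
    omega
  have hF : (frm S.t b₃, frm u b₃) = (0, 0) := congrArg Multiplicative.toAdd (MonoidHom.mem_ker.1 hker)
  obtain ⟨h13, h23⟩ := Prod.mk.injEq _ _ _ _ ▸ hF
  have hb₃1' : b₃ ≠ 1 := fun e => hb₃1 (Subtype.ext e)
  obtain ⟨w, hw, hw1⟩ := S.exists_frm_one hcard hb₃ hb₃1'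
  let pw : ZMod 2 → G → G := fun c x => if c = 0 then 1 else x
  have hpw : ∀ c x, x ∈ S.E → pw c x ∈ S.E := fun c x hx => by
    show (if c = 0 then 1 else x) ∈ S.E
    split_ifs
    · exact one_mem _
    · exact hx
  have hpv : ∀ a c x, a ∈ S.E → x ∈ S.E → frm a (pw c x) = c * frm a x := by
    intro a c x _ _
    show frm a (if c = 0 then 1 else x) = _
    rcases (show c = 0 ∨ c = 1 by revert c; decide) with rfl | rfl
    · rw [if_pos rfl, frm_one, zero_mul]
    · rw [if_neg (by decide), one_mul]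
  set p := pw (frm u w) S.t with hp
  set q := pw (frm S.t w) u with hq
  have hpE : p ∈ S.E := hpw _ _ htE
  have hqE : q ∈ S.E := hpw _ _ hUE
  have h2 : ∀ x : ZMod 2, x + x = 0 := by decide
  refine ⟨S.t, u, b₃, w * p * q, htE, hUE, hb₃, mul_mem (mul_mem hw hpE) hqE, htu, ?_, h13, ?_, h23, ?_⟩
  · rw [S.frm_mul hcard hb₃ (mul_mem hw hpE) hqE, S.frm_mul hcard hb₃ hw hpE, hpv _ _ _ hb₃ htE,
      hpv _ _ _ hb₃ hUE, frm_comm b₃ S.t, frm_comm b₃ u, h13, h23, mul_zero, mul_zero, hw1, add_zero,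
      add_zero]
  · rw [S.frm_mul hcard htE (mul_mem hw hpE) hqE, S.frm_mul hcard htE hw hpE, hpv _ _ _ htE htE,
      hpv _ _ _ htE hUE, frm_self, htu, mul_zero, mul_one, add_zero, h2]
  · rw [S.frm_mul hcard hUE (mul_mem hw hpE) hqE, S.frm_mul hcard hUE hw hpE, hpv _ _ _ hUE htE,
      hpv _ _ _ hUE hUE, frm_self, frm_comm u S.t, htu, mul_zero, mul_one, add_zero, h2]

theorem frm_left_mul {a b z : G} (ha : a ∈ S.E) (hb : b ∈ S.E) (hz : z ∈ S.E) :
    frm (a * b) z = frm a z + frm b z := by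
  rw [frm_comm, S.frm_mul hcard hz ha hb, frm_comm z a, frm_comm z b]

/-- The coordinates. -/
theorem exists_coords : ∃ φ : G → Model.Vec, (∀ x ∈ S.E, ∀ y ∈ S.E, φ (x * y) = φ x + φ y) ∧
    (∀ x ∈ S.E, φ x = 0 → x = 1) ∧ (∀ v, ∃ x ∈ S.E, φ x = v) ∧
      ∀ x ∈ S.E, ∀ y ∈ S.E, Model.form (φ x) (φ y) = frm x y := by
  classical
  obtain ⟨b₁, b₂, b₃, b₄, h₁, h₂, h₃, h₄, e12, e34, e13, e14, e23, e24⟩ := S.exists_basis hcard
  set φ : G → Model.Vec := fun z => (frm b₂ z, frm b₁ z, frm b₄ z, frm b₃ z) with hφ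
  have hmul : ∀ x ∈ S.E, ∀ y ∈ S.E, φ (x * y) = φ x + φ y := fun x hx y hy => by
    simp only [hφ, S.frm_mul hcard h₁ hx hy, S.frm_mul hcard h₂ hx hy, S.frm_mul hcard h₃ hx hy,
      S.frm_mul hcard h₄ hx hy, Prod.mk_add_mk]
  have hv1 : φ b₁ = (1, 0, 0, 0) := by
    simp only [hφ, frm_comm b₂ b₁, frm_comm b₄ b₁, frm_comm b₃ b₁, e12, e14, e13, frm_self]
  have hv2 : φ b₂ = (0, 1, 0, 0) := by
    simp only [hφ, frm_comm b₄ b₂, frm_comm b₃ b₂, e12, e24, e23, frm_self]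
  have hv3 : φ b₃ = (0, 0, 1, 0) := by
    simp only [hφ, frm_comm b₄ b₃, e34, e13, e23, frm_self]
  have hv4 : φ b₄ = (0, 0, 0, 1) := by
    simp only [hφ, e34, e14, e24, frm_self]
  let pw : ZMod 2 → G → G := fun c x => if c = 0 then 1 else x
  let ψ : Model.Vec → G := fun v => pw v.1 b₁ * pw v.2.1 b₂ * pw v.2.2.1 b₃ * pw v.2.2.2 b₄
  have hpw : ∀ c x, x ∈ S.E → pw c x ∈ S.E := fun c x hx => by
    show (if c = 0 then 1 else x) ∈ S.E
    split_ifs
    · exact one_mem _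
    · exact hx
  have hφ1 : φ 1 = 0 := by simp only [hφ, frm_one]; rfl
  have hψE : ∀ v, ψ v ∈ S.E := fun v =>
    mul_mem (mul_mem (mul_mem (hpw _ _ h₁) (hpw _ _ h₂)) (hpw _ _ h₃)) (hpw _ _ h₄)
  have hφψ : ∀ v, φ (ψ v) = v := by
    intro v
    have hp : ∀ c x, φ (pw c x) = if c = 0 then 0 else φ x := fun c x => by
      show φ (if c = 0 then 1 else x) = _
      split_ifs
      · exact hφ1
      · rfl
    show φ (pw v.1 b₁ * pw v.2.1 b₂ * pw v.2.2.1 b₃ * pw v.2.2.2 b₄) = v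
    rw [hmul _ (mul_mem (mul_mem (hpw _ _ h₁) (hpw _ _ h₂)) (hpw _ _ h₃)) _ (hpw _ _ h₄),
      hmul _ (mul_mem (hpw _ _ h₁) (hpw _ _ h₂)) _ (hpw _ _ h₃),
      hmul _ (hpw _ _ h₁) _ (hpw _ _ h₂), hp, hp, hp, hp, hv1, hv2, hv3, hv4]
    clear hφ1 hmul hv1 hv2 hv3 hv4 hp
    revert v
    decide
  have hbij : Function.Bijective (fun v => (⟨ψ v, hψE v⟩ : S.E)) :=
    (Nat.bijective_iff_injective_and_card _).2
      ⟨fun v w e => by rw [← hφψ v, ← hφψ w, show ψ v = ψ w from congrArg Subtype.val e],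
        by rw [S.card_E hcard, Nat.card_eq_fintype_card]; rfl⟩
  have hψφ : ∀ z ∈ S.E, ψ (φ z) = z := by
    intro z hz
    obtain ⟨v, hv⟩ := hbij.2 ⟨z, hz⟩
    have hv' : ψ v = z := congrArg Subtype.val hv
    rw [← hv', hφψ]
  refine ⟨φ, hmul, fun x hx e => ?_, fun v => ⟨ψ v, hψE v, hφψ v⟩, fun x hx y hy => ?_⟩
  · rw [← hψφ x hx, e]
    show pw (0 : ZMod 2) b₁ * pw (0 : ZMod 2) b₂ * pw (0 : ZMod 2) b₃ * pw (0 : ZMod 2) b₄ = 1
    simp [pw]
  · conv_rhs => rw [← hψφ y hy]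
    have hp : ∀ c w, frm x (pw c w) = c * frm x w := fun c w => by
      show frm x (if c = 0 then 1 else w) = _
      rcases (show c = 0 ∨ c = 1 by revert c; decide) with rfl | rfl
      · rw [if_pos rfl, frm_one, zero_mul]
      · rw [if_neg (by decide), one_mul]
    show Model.form (φ x) (φ y) =
      frm x (pw (φ y).1 b₁ * pw (φ y).2.1 b₂ * pw (φ y).2.2.1 b₃ * pw (φ y).2.2.2 b₄)
    rw [S.frm_mul hcard hx (mul_mem (mul_mem (hpw _ _ h₁) (hpw _ _ h₂)) (hpw _ _ h₃)) (hpw _ _ h₄),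
      S.frm_mul hcard hx (mul_mem (hpw _ _ h₁) (hpw _ _ h₂)) (hpw _ _ h₃),
      S.frm_mul hcard hx (hpw _ _ h₁) (hpw _ _ h₂), hp, hp, hp, hp, frm_comm x b₁, frm_comm x b₂,
      frm_comm x b₃, frm_comm x b₄]
    simp only [hφ, Model.form]
    ring

end Setup

variable [IsSimpleGroup G] (hcard : Nat.card G = 443520)

include hcard

/-- **A simple group of order 443520 has the local data.** -/
theorem exists_frame : Nonempty (Frame G) := by
  obtain ⟨S⟩ := exists_setup hcard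
  obtain ⟨φ, hmul, hzero, hsurj, hform⟩ := S.exists_coords hcard
  exact ⟨{
    E := S.E, φ := φ
    card_E := S.card_E hcard
    φ_mul := hmul, φ_eq_zero := hzero, φ_surj := hsurj
    cen_E := S.centralizer_E hcard
    card_K := (S.orbit_eq hcard).2
    form_inv := fun k hk x hx y hy => by
      rw [hform _ (conj_mem_of_mem_normalizer hk hx) _ (conj_mem_of_mem_normalizer hk hy), hform x hx y hy,
        frm_conj]
    cen_le := fun x hx hx1 => S.cen_le hcard hx hx1
    unique := fun x hx hx1 g hg => S.unique hcard hx hx1 hg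
    every := fun x hx => by
      obtain ⟨g, hg⟩ := isConj_iff.1 (isConj_involution hcard hx S.ht)
      exact ⟨g, hg ▸ S.D_le hcard (S.t_mem_D hcard)⟩
    flag := fun x hx y hy x' hx' y' hy' h1 h1' h2 h3 h2' h3' f f' =>
      S.flag hcard hx hy hx' hy' h1 h1' h2 h3 h2' h3' (hform x hx y hy ▸ f) (hform x' hx' y' hy' ▸ f')
    outside := fun s hs hsE ho => by
      obtain ⟨h4, hiso⟩ := S.outside hcard hs hsE ho
      exact ⟨h4, fun x hx y hy => (hform x (mem_inf.1 hx).1 y (mem_inf.1 hy).1).trans (hiso x hx y hy)⟩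
    card_commuting := fun x hx hx1 => card_commuting_involutions hcard (S.orderOf_mem hcard hx hx1) }⟩

end Cfsg.Agent.M22Order
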