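import Cfsg.Agent.Lib.M22Order.Cases

/-!
# Simple groups of order 443520: the irreducible characters and their values at an involution
-/

set_option autoImplicit false
set_option linter.style.haveILetI false
set_option linter.unusedSectionVars false

namespace Cfsg.Agent.M22Order

open Subgroup
open Cfsg.Agent.Characters Cfsg.Agent.Blocks Cfsg.Agent.PrimeBlock
open Cfsg.Agent.SmallSimple
open Cfsg.Agent.M12Order (cen cls iv iv_eq iv_spec iv_triv)
open scoped ComplexConjugate

universe u

theorem target_functional : ∀ a ∈ target, ∀ b ∈ target, a.1 = b.1 → a.2 = b.2 := by decide +kernel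

/-- The value at an involution, by degree. -/
def valOf (d : ℕ) : ℤ :=
  if d = 21 then 5 else if d = 45 then -3 else if d = 55 then 7 else if d = 99 then 3
  else if d = 154 then 10 else if d = 210 then 2 else if d = 231 then 7 else if d = 280 then -8
  else 1

theorem target_val : ∀ a ∈ target, a.2 = valOf a.1 := by decide +kernel

variable {G : Type u} [Group G] [Finite G] [IsSimpleGroup G] (hcard : Nat.card G = 443520)

include hcard

theorem card_five (P : Sylow 5 G) : Nat.card (centralizer ((P : Subgroup G) : Set G)) = 5 :=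
  (card_centralizer_five_seven hcard).1 P

theorem card_seven (P : Sylow 7 G) : Nat.card (centralizer ((P : Subgroup G) : Set G)) = 7 :=
  (card_centralizer_five_seven hcard).2 P

theorem not_dvd_cen_five {g : G} (hg : g ≠ 1) (h : ¬ 5 ∣ orderOf g) : ¬ 5 ∣ cen g :=
  not_dvd_cen (card_five hcard) (fun Q => card_sylow hcard (Or.inl rfl) Q) hg h

theorem not_dvd_cen_seven {g : G} (hg : g ≠ 1) (h : ¬ 7 ∣ orderOf g) : ¬ 7 ∣ cen g :=
  not_dvd_cen (card_seven hcard) (fun Q => card_sylow hcard (Or.inr (Or.inl rfl)) Q) hg h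

/-- Ten non-trivial characters with known values at every involution. -/
theorem exists_known : ∃ U : List (Cfsg.IrrCharacter G), U.Nodup ∧ trivIrr G ∉ U ∧
    ∀ t : G, orderOf t = 2 → cen t = 384 ∧ (U.map fun χ => (deg χ, iv t χ)).Perm target := by
  classical
  have hG := not_comm hcard
  obtain ⟨P, D, R, hM, hK, hC11, hN11⟩ := exists_row_eleven hcard
  obtain ⟨Q⟩ : Nonempty (Sylow 7 G) := inferInstance
  obtain ⟨D7, ht7, hts7⟩ := exists_pblock' hG (by norm_num) Q
    (card_sylow hcard (Or.inr (Or.inl rfl)) Q)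
  obtain ⟨he7, hN7⟩ : D7.e = 3 ∧ Nat.card (normalizer ((Q : Subgroup G) : Set G)) = 21 := by
    rcases sylow_seven hcard Q D7 ht7 hts7 with ⟨h, -, h'⟩ | ⟨c, hc, h, -⟩
    · exact ⟨h, h'⟩
    · rw [card_seven hcard] at h
      simp only [ec7, List.mem_cons, List.not_mem_nil, or_false, Prod.mk.injEq] at hc
      omega
  obtain ⟨R7, hR7⟩ := exists_prow hcard (Or.inr (Or.inl rfl)) ht7 hts7 (c := 1)
    (by rw [card_seven hcard]) (by norm_num) cand7 fun χ _ _ s _ h => cand7_eq ▸ h
  rw [he7, rows7_eq] at hR7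
  have hK7 : R7.ys.length = 2 := by rw [R7.len_ys, he7]
  obtain ⟨P5⟩ : Nonempty (Sylow 5 G) := inferInstance
  obtain ⟨D5, ht5, hts5⟩ := exists_pblock' hG (by norm_num) P5 (card_sylow hcard (Or.inl rfl) P5)
  have he5 : D5.e = 4 := by
    rcases sylow_five hcard P5 D5 with ⟨h, -, -⟩ | ⟨c', h2, h, -⟩
    · exact h
    · rw [card_five hcard] at h; omega
  obtain ⟨R5, hR5⟩ := exists_prow hcard (Or.inl rfl) ht5 hts5 (c := 1) (by rw [card_five hcard])
    (by norm_num) cand5 fun χ _ _ s _ h => cand5_eq ▸ h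
  rw [he5, rows5_eq] at hR5
  have hK5 : R5.ys.length = 1 := by rw [R5.len_ys, he5]
  set U₁ := R.all ++ R7.all.filter (fun χ => deg χ % 11 == 0) with hU₁
  set U := U₁ ++ R5.all.filter (fun χ => deg χ % 77 == 0) with hU
  have hnd₁ : U₁.Nodup := List.nodup_append.2 ⟨R.nodup, R7.nodup.filter _, fun a ha b hb e => by
    rw [List.mem_filter, beq_iff_eq] at hb
    exact R.not_dvd_deg ha (e ▸ Nat.dvd_of_mod_eq_zero hb.2)⟩
  have htr₁ : trivIrr G ∉ U₁ := fun h => by
    rcases List.mem_append.1 h with h | h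
    · exact R.ne_triv h rfl
    · exact R7.ne_triv (List.mem_filter.1 h).1 rfl
  have hnd : U.Nodup := List.nodup_append.2 ⟨hnd₁, R5.nodup.filter _, fun a ha b hb e => by
    rw [List.mem_filter, beq_iff_eq] at hb
    have h77 : 77 ∣ deg a := e ▸ Nat.dvd_of_mod_eq_zero hb.2
    rcases List.mem_append.1 ha with h | h
    · exact R.not_dvd_deg h ((by norm_num : 11 ∣ 77).trans h77)
    · exact R7.not_dvd_deg (List.mem_filter.1 h).1 ((by norm_num : 7 ∣ 77).trans h77)⟩
  have htr : trivIrr G ∉ U := fun h => by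
    rcases List.mem_append.1 h with h | h
    · exact htr₁ h
    · exact R5.ne_triv (List.mem_filter.1 h).1 rfl
  have hcov : ∀ χ : Cfsg.IrrCharacter G, χ ≠ trivIrr G → ¬ 77 ∣ deg χ → χ ∈ U₁ := fun χ hne h => by
    by_cases h11 : 11 ∣ deg χ
    · refine List.mem_append_right _ (List.mem_filter.2
        ⟨R7.mem_all_of_not_dvd (card_seven hcard Q) hne fun h' => h ?_,
          by simp [Nat.mod_eq_zero_of_dvd h11]⟩)
      exact Nat.Coprime.mul_dvd_of_dvd_of_dvd (by norm_num : Nat.Coprime 7 11) h' h11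
    · exact List.mem_append_left _ (R.mem_all_of_not_dvd hC11 hne h11)
  refine ⟨U, hnd, htr, fun t ht => ?_⟩
  have ht1 : t ≠ 1 := fun h => by rw [h, orderOf_one] at ht; omega
  have hcs2 : cen t ∈ cs2 := by
    have key := List.all_eq_true.1 mem_cs2 _ (cen_mem_divs hcard t)
    simpa [Nat.mod_eq_zero_of_dvd (two_dvd_cen hcard ht), ← Nat.dvd_iff_mod_eq_zero,
      involution_not_eleven hcard ht, not_dvd_cen_five hcard ht1 (by rw [ht]; norm_num),
      not_dvd_cen_seven hcard ht1 (by rw [ht]; norm_num)] using key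
  have key := List.all_eq_true.1 (scanIV R.M hM) R7.M hR7
  rw [Row.agree_apply R.toRow R7.toRow 11 7 hK hK7
    (fun χ hχ _ h => R7.mem_all_of_not_dvd (card_seven hcard Q) (R.ne_triv hχ) h)
    (fun χ hχ h _ => R.mem_all_of_not_dvd hC11 (R7.ne_triv hχ) h)] at key
  simp only [Bool.not_true, Bool.false_or] at key
  have key1 := List.all_eq_true.1 key R5.M hR5
  rw [Row.agree_apply R.toRow R5.toRow 11 5 hK hK5
    (fun χ hχ _ h => R5.mem_all_of_not_dvd (card_five hcard P5) (R.ne_triv hχ) h)
    (fun χ hχ h _ => R.mem_all_of_not_dvd hC11 (R5.ne_triv hχ) h),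
    Row.agree_apply R7.toRow R5.toRow 7 5 hK7 hK5
    (fun χ hχ _ h => R5.mem_all_of_not_dvd (card_five hcard P5) (R7.ne_triv hχ) h)
    (fun χ hχ h _ => R7.mem_all_of_not_dvd (card_seven hcard Q) (R5.ne_triv hχ) h)] at key1
  simp only [Bool.not_true, Bool.false_or] at key1
  have key2 := all11_iv hcard R hK hC11 hN11 ht (List.all_eq_true.1 key1 (cen t) hcs2)
    fun χ _ s _ => rfl
  have key3 := allV_iv hcard (by norm_num) R7 ht hK7 key2 fun χ hχ s hs =>
    opts1_iv hcard ht 11 R.all (R7.ne_triv hχ)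
      (fun h => R.mem_all_of_not_dvd hC11 (R7.ne_triv hχ) h) hs
  rw [(quad_iv_ok hcard R7 (by norm_num) (card_seven hcard Q) ht).2.2 (by rw [hN7]; norm_num)] at key3
  simp only [bne_self_eq_false, Bool.false_or] at key3
  rw [fresh_map 11 (fun χ : Cfsg.IrrCharacter G => deg χ), ← List.map_append, ← hU₁] at key3
  have key4 := allV_iv hcard (by norm_num) R5 ht hK5 key3 fun χ hχ s hs =>
    opts1_iv hcard ht 77 U₁ (R5.ne_triv hχ) (hcov χ (R5.ne_triv hχ)) hs
  obtain ⟨q1, q2, -⟩ := quad_iv_ok hcard R5 (by norm_num) (card_five hcard P5) ht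
  rw [fresh_map 77 (fun χ : Cfsg.IrrCharacter G => deg χ), ← List.map_append, ← hU, q2,
    decide_eq_false q1, csOK_iv hcard ht hnd htr] at key4
  simpa [List.isPerm_iff] using key4

/-- **Every involution has centralizer of order 384.** -/
theorem cen_involution {t : G} (ht : orderOf t = 2) : cen t = 384 := by
  obtain ⟨U, -, -, h⟩ := exists_known hcard
  exact (h t ht).1

/-- **There is one class of involutions.** -/
theorem isConj_involution {s t : G} (hs : orderOf s = 2) (ht : orderOf t = 2) : IsConj s t := by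
  classical
  by_contra hne
  have hG := not_comm hcard
  obtain ⟨U, hnd, htr, h⟩ := exists_known hcard
  have hv : ∀ x : G, orderOf x = 2 → ∀ χ ∈ U, iv x χ = valOf (deg χ) := fun x hx χ hχ =>
    target_val _ ((h x hx).2.subset (List.mem_map.2 ⟨χ, hχ, rfl⟩))
  obtain ⟨hle, -⟩ := cauchy_rest hne (insert (trivIrr G) U.toFinset) (iv s) (iv t)
    (fun χ _ => iv_spec hG hs χ) fun χ _ => iv_spec hG ht χ
  have hsum : ∀ x y : G, orderOf x = 2 → orderOf y = 2 →
      ∑ χ ∈ insert (trivIrr G) U.toFinset, iv x χ * iv y χ = 383 := by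
    intro x y hx hy
    rw [Finset.sum_insert (by simpa using htr), List.sum_toFinset _ hnd, iv_triv, iv_triv]
    have e : U.map (fun χ => iv x χ * iv y χ) =
        (U.map fun χ => (deg χ, iv x χ)).map fun a => a.2 * a.2 := by
      rw [List.map_map]
      exact List.map_congr_left fun χ hχ => by simp [hv x hx χ hχ, hv y hy χ hχ]
    rw [e, ((h x hx).2.map _).sum_eq]
    decide
  rw [hsum s t hs ht, hsum s s hs hs, hsum t t ht ht, cen_involution hcard hs,
    cen_involution hcard ht] at hle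
  norm_num at hle

end Cfsg.Agent.M22Order
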