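import Cfsg.Agent.Lib.Involutions.TICount.Base
import Cfsg.Agent.Lib.M12Order.TwoBasic

/-!
# Elementary lemmas for the local analysis
-/

set_option autoImplicit false
set_option linter.style.haveILetI false
set_option linter.unusedSectionVars false

namespace Cfsg.Agent.M22Order

open Subgroup

universe u

variable {G : Type u} [Group G] [Finite G]

/-- A subgroup acting freely by conjugation on a set divides its cardinality. -/
theorem dvd_card_of_free_conj (P : Subgroup G) (X : Set G) (hinv : ∀ p ∈ P, ∀ x ∈ X, p * x * p⁻¹ ∈ X)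
    (hfree : ∀ p ∈ P, ∀ x ∈ X, p * x * p⁻¹ = x → p = 1) : Nat.card P ∣ X.ncard := by
  letI : MulAction P X :=
    { smul := fun p x => ⟨(p : G) * x * (p : G)⁻¹, hinv p p.2 x x.2⟩
      one_smul := fun x => Subtype.ext (show ((1 : P) : G) * (x : G) * ((1 : P) : G)⁻¹ = x by simp)
      mul_smul := fun p q x => Subtype.ext (show ((p * q : P) : G) * (x : G) * ((p * q : P) : G)⁻¹ =
        (p : G) * ((q : G) * x * (q : G)⁻¹) * (p : G)⁻¹ by rw [Subgroup.coe_mul]; group) }
  rw [← Nat.card_coe_set_eq]
  exact Cfsg.Agent.Involutions.TICount.card_dvd_of_free fun p x h =>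
    Subtype.ext (hfree p p.2 x x.2 (congrArg Subtype.val h))

/-- The image of a subgroup of a subgroup. -/
theorem card_map_subtype {C : Subgroup G} (K : Subgroup C) :
    Nat.card (K.map C.subtype) = Nat.card K :=
  card_map_of_injective C.subtype_injective

/-- The centralizer inside a subgroup. -/
theorem card_centralizer_subgroup {C : Subgroup G} (r : C) :
    Nat.card (centralizer ({r} : Set C)) =
      Nat.card (centralizer ({(r : G)} : Set G) ⊓ C : Subgroup G) := by
  rw [← card_map_subtype]
  refine congrArg (fun K : Subgroup G => Nat.card K) ?_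
  ext x
  simp only [mem_map, mem_inf, mem_centralizer_singleton_iff, Subgroup.coe_subtype]
  constructor
  · rintro ⟨y, hy, rfl⟩
    exact ⟨congrArg Subtype.val hy, y.2⟩
  · rintro ⟨h, hx⟩
    exact ⟨⟨x, hx⟩, Subtype.ext h, rfl⟩

/-- A normalizing element conjugates within the subgroup. -/
theorem mem_normalizer_of_conj {H : Subgroup G} {g : G} (h : ∀ x ∈ H, g * x * g⁻¹ ∈ H) :
    g ∈ normalizer (H : Set G) := by
  have : H.map (MulAut.conj g).toMonoidHom = H := by
    refine eq_of_le_of_card_ge ?_ ?_
    · rintro _ ⟨x, hx, rfl⟩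
      exact h x hx
    · rw [card_map_of_injective (MulAut.conj g).injective]
  rw [mem_normalizer_iff]
  intro x
  refine ⟨h x, fun hx => ?_⟩
  change g * x * g⁻¹ ∈ H at hx
  rw [← this] at hx
  obtain ⟨y, hy, hxy⟩ := hx
  change g * y * g⁻¹ = g * x * g⁻¹ at hxy
  rw [← mul_left_cancel (mul_right_cancel hxy)]
  exact hy

/-- Conjugation by an element of the normalizer. -/
theorem conj_mem_of_mem_normalizer {H : Subgroup G} {g : G} (hg : g ∈ normalizer (H : Set G)) {x : G}
    (hx : x ∈ H) : g * x * g⁻¹ ∈ H :=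
  (mem_normalizer_iff.1 hg x).1 hx

theorem commute_conj {a b : G} (g : G) (h : Commute a b) :
    Commute (g * a * g⁻¹) (g * b * g⁻¹) := by
  have := h.map (MulAut.conj g).toMonoidHom
  simpa using this

theorem orderOf_conj (g x : G) : orderOf (g * x * g⁻¹) = orderOf x :=
  MulEquiv.orderOf_eq (MulAut.conj g) x

end Cfsg.Agent.M22Order
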