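import Cfsg.Agent.Lib.M22Order.NoSquare

/-!
# Simple groups of order 443520: the elementary subgroup of order 16 and its normalizer
-/

set_option autoImplicit false
set_option linter.style.haveILetI false
set_option linter.unusedSectionVars false

namespace Cfsg.Agent.M22Order

open Subgroup
open scoped Pointwise
open Cfsg.Agent.M12Order (cen card_fixed_mod)

universe u

variable {G : Type u} [Group G] [Finite G]

/-- An orbit under conjugation and its stabilizer. -/
theorem ncard_conj_orbit (K : Subgroup G) {t : G} (ht : t ∈ K) :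
    {x : G | ∃ k ∈ K, k * t * k⁻¹ = x}.ncard * Nat.card (centralizer ({t} : Set G) ⊓ K : Subgroup G) =
      Nat.card K := by
  have h := Cfsg.Agent.SmallSimple.Basic.card_centralizer_mul_card_class (G := K) (⟨t, ht⟩ : K)
  rw [card_centralizer_subgroup] at h
  rw [← h, mul_comm]
  congr 1
  rw [← Nat.card_coe_set_eq]
  refine Nat.card_congr
    { toFun := fun x => ⟨⟨x.1, by obtain ⟨k, hk, e⟩ := x.2; rw [← e]; exact mul_mem (mul_mem hk ht) (inv_mem hk)⟩,
        isConj_iff.2 (by obtain ⟨k, hk, e⟩ := x.2; exact ⟨⟨k, hk⟩, Subtype.ext e⟩)⟩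
      invFun := fun y => ⟨y.1.1, by
        obtain ⟨k, e⟩ := isConj_iff.1 y.2
        exact ⟨k, k.2, congrArg Subtype.val e⟩⟩
      left_inv := fun x => rfl
      right_inv := fun y => rfl }

variable (G) in
/-- An involution, an element of order three commuting with it, and a second commuting four group. -/
structure Setup where
  /-- the involution -/
  t : G
  /-- the element of order three -/
  r : G
  /-- the second element of order three -/
  a : G
  /-- the core -/
  R : Subgroup G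
  /-- the Sylow subgroup -/
  P : Subgroup G
  ht : orderOf t = 2
  hr : orderOf r = 3
  hrt : Commute r t
  hR : Core t R
  hP : Nat.card P = 9
  hrP : r ∈ P
  hPc : ∀ a ∈ P, ∀ b ∈ P, Commute a b
  haP : a ∈ P
  ha : orderOf a = 3
  har : a ∉ zpowers r
  hra : Com r a

namespace Setup

variable (S : Setup G)

/-- The four group of `r`. -/
abbrev D : Subgroup G := fourGroup S.r

/-- The four group of `a`. -/
abbrev A : Subgroup G := fourGroup S.a

/-- The elementary subgroup of order 16. -/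
def E : Subgroup G := S.R ⊓ centralizer ((fourGroup S.r : Subgroup G) : Set G)

section

variable [IsSimpleGroup G] (hcard : Nat.card G = 443520)

include hcard

theorem t_mem_D : S.t ∈ S.D := t_mem_four hcard S.ht S.hR S.hr S.hrt

theorem card_D : Nat.card S.D = 4 := (exists_four hcard S.hr).1

theorem card_A : Nat.card S.A = 4 := (exists_four hcard S.ha).1

theorem card_E : Nat.card S.E = 16 := by
  rcases card_R0 hcard S.ht S.hR S.hr S.hrt with h | h
  · exact h
  · exact absurd ((big_iff hcard S.ht S.hR S.hr S.hrt).2 h) (not_big hcard S.hr)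

theorem D_le : S.D ≤ S.E := four_le_R0 hcard S.ht S.hR S.hr S.hrt S.hP S.hrP S.hPc

theorem A_le : S.A ≤ S.E :=
  ((fixed_cases hcard S.ht S.hR S.hr S.hrt S.hP S.hrP S.hPc S.haP S.ha S.har).resolve_right
    fun h => h.1 S.hra).2

theorem D_inf_A : S.D ⊓ S.A = ⊥ :=
  four_inf_four hcard S.ht S.hR S.hr S.hrt S.hP S.hrP S.hPc S.haP S.har

theorem E_le_R : S.E ≤ S.R := inf_le_left

theorem E_le_C : S.E ≤ centralizer ({S.t} : Set G) := inf_le_left.trans S.hR.le

theorem exists_mul {x : G} (hx : x ∈ S.E) : ∃ d ∈ S.D, ∃ m ∈ S.A, x = d * m := by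
  classical
  set f : S.D × S.A → S.E := fun z => ⟨(z.1 : G) * z.2,
    mul_mem (S.D_le hcard z.1.2) (S.A_le hcard z.2.2)⟩ with hf
  have hinj : Function.Injective f := by
    rintro ⟨⟨d, hd⟩, ⟨m, hm⟩⟩ ⟨⟨d', hd'⟩, ⟨m', hm'⟩⟩ h
    have h' : d * m = d' * m' := congrArg Subtype.val h
    have h1 : d'⁻¹ * d = m' * m⁻¹ := by
      rw [eq_mul_inv_iff_mul_eq, mul_assoc, h', inv_mul_cancel_left]
    have h2 : d'⁻¹ * d ∈ S.D ⊓ S.A :=
      mem_inf.2 ⟨mul_mem (inv_mem hd') hd, h1 ▸ mul_mem hm' (inv_mem hm)⟩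
    rw [S.D_inf_A hcard, mem_bot] at h2
    have hdd : d' = d := inv_mul_eq_one.1 h2
    subst hdd
    have hmm : m = m' := mul_left_cancel h'
    subst hmm
    rfl
  obtain ⟨⟨d, m⟩, hdm⟩ := ((Nat.bijective_iff_injective_and_card f).2
    ⟨hinj, by rw [Nat.card_prod, S.card_D hcard, S.card_A hcard, S.card_E hcard]⟩).2 ⟨x, hx⟩
  exact ⟨d, d.2, m, m.2, (congrArg Subtype.val hdm).symm⟩

theorem comm_D_A {d m : G} (hd : d ∈ S.D) (hm : m ∈ S.A) : Commute d m :=
  mem_centralizer_iff.1 (mem_inf.1 (S.A_le hcard hm)).2 d hd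

theorem sq {x : G} (hx : x ∈ S.E) : x * x = 1 := by
  obtain ⟨d, hd, m, hm, rfl⟩ := S.exists_mul hcard hx
  calc d * m * (d * m) = d * (m * d) * m := by group
    _ = (d * d) * (m * m) := by rw [← (S.comm_D_A hcard hd hm).eq]; group
    _ = 1 := by rw [(exists_four hcard S.hr).2.1 d hd, (exists_four hcard S.ha).2.1 m hm, one_mul]

theorem comm {x y : G} (hx : x ∈ S.E) (hy : y ∈ S.E) : Commute x y :=
  calc x * y = (x * y)⁻¹ := eq_inv_of_mul_eq_one_left (S.sq hcard (mul_mem hx hy))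
    _ = y⁻¹ * x⁻¹ := mul_inv_rev x y
    _ = y * x := by
      rw [inv_eq_of_mul_eq_one_right (S.sq hcard hx), inv_eq_of_mul_eq_one_right (S.sq hcard hy)]

theorem orderOf_mem {x : G} (hx : x ∈ S.E) (hx1 : x ≠ 1) : orderOf x = 2 :=
  orderOf_two_of_sq (S.sq hcard hx) hx1

theorem conj_P {p x : G} (hp : p ∈ S.P) (hx : x ∈ S.E) : p * x * p⁻¹ ∈ S.E :=
  conj_mem_R0 hcard S.ht S.hR S.hr S.hrt S.hP S.hrP S.hPc (S.hPc p hp S.r S.hrP) hx

/-- A 2-group without elements of order three inside the centralizer. -/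
theorem isPGroup_of_not_three {W : Subgroup G} (hW : W ≤ centralizer ({S.t} : Set G))
    (h3 : ¬ 3 ∣ Nat.card W) : IsPGroup 2 W := by
  have hd : Nat.card W ∣ 2 ^ 7 * 3 := by
    rw [show 2 ^ 7 * 3 = cen S.t by rw [cen_involution hcard S.ht]; norm_num]
    exact card_dvd_of_le hW
  obtain ⟨k, -, hk⟩ := (Nat.dvd_prime_pow Nat.prime_two).1
    (Nat.Coprime.dvd_of_dvd_mul_right ((Nat.coprime_comm).1 (Nat.prime_three.coprime_iff_not_dvd.2 h3)) hd)
  exact IsPGroup.of_card hk

/-- **`E` is self-centralizing.** -/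
theorem centralizer_E : centralizer ((S.E : Subgroup G) : Set G) = S.E := by
  classical
  set W := centralizer ((S.E : Subgroup G) : Set G) with hW
  have hEW : S.E ≤ W := fun x hx => mem_centralizer_iff.2 fun y hy => S.comm hcard hy hx
  have hWD : W ≤ centralizer ((fourGroup S.r : Subgroup G) : Set G) :=
    centralizer_le (SetLike.coe_subset_coe.2 (S.D_le hcard))
  have hWC : W ≤ centralizer ({S.t} : Set G) :=
    hWD.trans (centralizer_four_le hcard S.ht S.hR S.hr S.hrt)
  have h3 : ¬ 3 ∣ Nat.card W := by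
    intro hd
    haveI : Fact (Nat.Prime 3) := ⟨Nat.prime_three⟩
    obtain ⟨⟨x, hxW⟩, hx⟩ := exists_prime_orderOf_dvd_card' (G := W) 3 hd
    rw [Subgroup.orderOf_mk] at hx
    have h16 : 16 ∣ cen x := S.card_E hcard ▸ card_dvd_of_le fun y hy =>
      mem_centralizer_singleton_iff.2 (mem_centralizer_iff.1 hxW y hy)
    rw [cen_three hcard hx] at h16
    omega
  refine le_antisymm (fun x hx => mem_inf.2 ⟨?_, hWD hx⟩) hEW
  refine S.hR.absorb S.r S.hr S.hrt W hWC (S.isPGroup_of_not_three hcard hWC h3) (fun y hy => ?_) hx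
  rw [mem_centralizer_iff] at hy ⊢
  intro z hz
  have hz' : S.r⁻¹ * z * S.r ∈ S.E := by
    have := S.conj_P hcard (inv_mem S.hrP) hz
    simpa using this
  have h1 := commute_conj S.r (show Commute (S.r⁻¹ * z * S.r) y from hy _ hz')
  simpa [mul_assoc, Commute, SemiconjBy] using h1

/-- The normalizer of `⟨r⟩` in the centralizer of `t`. -/
def L : Subgroup G := centralizer ({S.t} : Set G) ⊓ normalizer (zpowers S.r : Set G)

theorem card_L : Nat.card S.L = 24 := by
  classical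
  have h := card_normalizer_three hcard S.hr S.ht S.hrt
  rw [← card_map_subtype] at h
  rw [← h]
  refine congrArg (fun K : Subgroup G => Nat.card K) ?_
  set r' : centralizer ({S.t} : Set G) := ⟨S.r, mem_centralizer_singleton_iff.2 S.hrt⟩ with hr'
  have hz : ∀ y : centralizer ({S.t} : Set G), y ∈ zpowers r' ↔ (y : G) ∈ zpowers S.r := fun y => by
    simp only [mem_zpowers_iff, Subtype.ext_iff]
    simp [hr']
  ext x
  simp only [L, mem_inf, mem_map, Subgroup.coe_subtype]
  constructor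
  · rintro ⟨hxC, hxN⟩
    exact ⟨⟨x, hxC⟩, mem_normalizer_of_conj fun y hy => (hz _).2
      (conj_mem_of_mem_normalizer hxN ((hz y).1 hy)), rfl⟩
  · rintro ⟨y, hy, rfl⟩
    refine ⟨y.2, mem_normalizer_of_conj fun z hz' => ?_⟩
    have hzC : z ∈ centralizer ({S.t} : Set G) := by
      obtain ⟨k, rfl⟩ := mem_zpowers_iff.1 hz'
      exact zpow_mem (mem_centralizer_singleton_iff.2 S.hrt) k
    exact (hz _).1 (conj_mem_of_mem_normalizer hy ((hz ⟨z, hzC⟩).2 hz'))

theorem L_conj_D {l x : G} (hl : l ∈ S.L) (hx : x ∈ S.D) : l * x * l⁻¹ ∈ S.D := by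
  obtain ⟨k, hk⟩ := mem_zpowers_iff.1 (conj_mem_of_mem_normalizer (mem_inf.1 hl).2 (mem_zpowers S.r))
  refine (exists_four hcard S.hr).2.2 _ ?_ 1 ?_
  · have h : Commute (l * x * l⁻¹) (l * S.r * l⁻¹) :=
      commute_conj l (mem_centralizer_singleton_iff.1 (four_le S.r hx))
    have hmem : l * S.r * l⁻¹ ∈ zpowers S.r :=
      conj_mem_of_mem_normalizer (mem_inf.1 hl).2 (mem_zpowers S.r)
    have heq : zpowers (l * S.r * l⁻¹) = zpowers S.r := eq_of_le_of_card_ge (zpowers_le.2 hmem)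
      (by rw [Nat.card_zpowers, Nat.card_zpowers, orderOf_conj])
    obtain ⟨n, hn⟩ := mem_zpowers_iff.1 (heq.symm ▸ mem_zpowers S.r : S.r ∈ zpowers (l * S.r * l⁻¹))
    refine mem_centralizer_singleton_iff.2 ?_
    have := h.zpow_right n
    rw [hn] at this
    exact this
  · rw [pow_one, pow_two]
    calc l * x * l⁻¹ * (l * x * l⁻¹) = l * (x * x) * l⁻¹ := by group
      _ = 1 := by rw [(exists_four hcard S.hr).2.1 x hx]; group

theorem R_normalizes : S.R ≤ normalizer (S.E : Set G) := by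
  classical
  set N := S.R ⊓ normalizer (S.E : Set G) with hN
  have hrN : ∀ y ∈ N, S.r * y * S.r⁻¹ ∈ N := fun y hy => mem_inf.2
    ⟨S.hR.conj S.r S.hrt y (mem_inf.1 hy).1,
      mul_mem (mul_mem (mem_normalizer_of_conj fun _ h => S.conj_P hcard S.hrP h) (mem_inf.1 hy).2)
        (inv_mem (mem_normalizer_of_conj fun _ h => S.conj_P hcard S.hrP h))⟩
  have hEN : S.E ≤ N := le_inf (S.E_le_R hcard) le_normalizer
  have hcN : Nat.card N = 4 ∨ Nat.card N = 16 ∨ Nat.card N = 64 :=
    card_invariant hcard S.ht S.hR S.hr S.hrt inf_le_left ((S.D_le hcard).trans hEN) hrN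
  haveI : Fact (Nat.Prime 2) := ⟨Nat.prime_two⟩
  haveI : Group.IsNilpotent S.R :=
    (isPGroup_core hcard S.ht S.hR S.hr S.hrt le_rfl).isNilpotent
  have hlt : S.E.subgroupOf S.R < ⊤ := by
    refine lt_top_iff_ne_top.2 fun e => ?_
    have h1 := Nat.card_congr (subgroupOfEquivOfLe (S.E_le_R hcard)).toEquiv
    rw [e, card_top, S.hR.card, S.card_E hcard] at h1
    omega
  obtain ⟨x, hxn, hxE⟩ := SetLike.exists_of_lt
    (Group.normalizerCondition_of_isNilpotent (S.E.subgroupOf S.R) hlt)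
  have hxN : (x : G) ∈ N := mem_inf.2 ⟨x.2, mem_normalizer_of_conj fun y hy =>
    (mem_normalizer_iff.1 hxn ⟨y, S.E_le_R hcard hy⟩).1 hy⟩
  have hge := Nat.le_of_dvd Nat.card_pos (S.card_E hcard ▸ card_dvd_of_le hEN)
  rcases hcN with h | h | h
  · omega
  · exact absurd ((eq_of_le_of_card_ge hEN (by rw [h, S.card_E hcard])).symm ▸ hxN) hxE
  · exact (eq_of_le_of_card_ge inf_le_left (by rw [h, S.hR.card]) : N = S.R) ▸ inf_le_right

theorem L_normalizes : S.L ≤ normalizer (S.E : Set G) := fun l hl => mem_normalizer_of_conj fun x hx => by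
  refine mem_inf.2 ⟨S.hR.conj l (mem_centralizer_singleton_iff.1 (mem_inf.1 hl).1) x (mem_inf.1 hx).1, ?_⟩
  refine conj_mem_centralizer_four hcard S.ht S.hR S.hr S.hrt ?_ (mem_inf.1 hx).2
  exact mem_normalizer_of_conj fun y hy => S.L_conj_D hcard hl hy

theorem C_eq : S.R ⊔ S.L = centralizer ({S.t} : Set G) := by
  classical
  refine eq_of_le_of_card_ge (sup_le S.hR.le inf_le_left) ?_
  rw [show Nat.card (centralizer ({S.t} : Set G)) = 384 from cen_involution hcard S.ht]
  have hN : S.R ⊔ S.L ≤ normalizer (S.R : Set G) := sup_le le_normalizer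
    fun l hl => mem_normalizer_of_conj
      (S.hR.conj l (mem_centralizer_singleton_iff.1 (mem_inf.1 hl).1))
  have hle : S.L ⊓ S.R ≤ S.D := by
    rintro x ⟨hxL, hxR⟩
    refine inf_centralizer_le hcard S.ht S.hR S.hr S.hrt le_rfl (mem_inf.2 ⟨hxR, ?_⟩)
    have h1 : x * S.r * x⁻¹ * S.r⁻¹ ∈ S.R := by
      have := mul_mem hxR (S.hR.conj S.r S.hrt _ (inv_mem hxR))
      simpa [mul_assoc] using this
    have h2 : x * S.r * x⁻¹ * S.r⁻¹ ∈ zpowers S.r :=
      mul_mem (conj_mem_of_mem_normalizer (mem_inf.1 hxL).2 (mem_zpowers S.r)) (inv_mem (mem_zpowers S.r))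
    have h3 : S.R ⊓ zpowers S.r = ⊥ := (disjoint_of_coprime_natCard
      (by rw [S.hR.card, Nat.card_zpowers, S.hr]; norm_num)).eq_bot
    exact mem_centralizer_singleton_iff.2
      (mul_inv_eq_iff_eq_mul.1 (mul_inv_eq_one.1 (mem_bot.1 (h3 ▸ mem_inf.2 ⟨h1, h2⟩))))
  have hd := Nat.le_of_dvd (by norm_num) (S.card_D hcard ▸ card_dvd_of_le hle)
  have hmul := relIndex_mul_relIndex ⊥ (S.L ⊓ S.R) S.L bot_le inf_le_left
  rw [relIndex_bot_left, relIndex_bot_left, S.card_L hcard, inf_comm, inf_relIndex_right] at hmul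
  have hge : 6 ≤ S.R.relIndex S.L := by
    rw [inf_comm] at hd
    nlinarith
  have hmul2 := relIndex_mul_relIndex ⊥ S.R (S.R ⊔ S.L) bot_le le_sup_left
  rw [relIndex_bot_left, relIndex_bot_left, S.hR.card] at hmul2
  have hne : S.R.relIndex (S.R ⊔ S.L) ≠ 0 := by
    intro e
    rw [e, mul_zero] at hmul2
    exact Nat.card_pos.ne hmul2
  have := relIndex_le_of_le_right (le_sup_right : S.L ≤ S.R ⊔ S.L) hne
  omega

theorem exists_mul_L {g : G} (hg : Commute g S.t) : ∃ x ∈ S.R, ∃ l ∈ S.L, g = x * l := by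
  have hg' : g ∈ (S.R ⊔ S.L : Subgroup G) := (S.C_eq hcard).symm ▸ mem_centralizer_singleton_iff.2 hg
  have hN : S.L ≤ normalizer (S.R : Set G) := fun l hl => mem_normalizer_of_conj
    (S.hR.conj l (mem_centralizer_singleton_iff.1 (mem_inf.1 hl).1))
  rw [← SetLike.mem_coe, coe_mul_of_right_le_normalizer_left _ _ hN] at hg'
  obtain ⟨x, hx, l, hl, e⟩ := hg'
  exact ⟨x, hx, l, hl, e.symm⟩

/-- **The centralizer of `t` normalizes `E`.** -/
theorem C_le : centralizer ({S.t} : Set G) ≤ normalizer (S.E : Set G) :=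
  S.C_eq hcard ▸ sup_le (S.R_normalizes hcard) (S.L_normalizes hcard)

theorem P_le : S.P ≤ normalizer (S.E : Set G) :=
  fun _ hp => mem_normalizer_of_conj fun _ h => S.conj_P hcard hp h

theorem eq_four {u : G} (hu : u ∈ S.D) (hu1 : u ≠ 1) (hut : u ≠ S.t) {x : G} (hx : x ∈ S.D) :
    x = 1 ∨ x = S.t ∨ x = u ∨ x = S.t * u := by
  have ht1 : S.t ≠ 1 := fun e => by have := S.ht; rw [e, orderOf_one] at this; omega
  have h1 : ({1, S.t, u, S.t * u} : Set G).ncard = 4 := by
    have htu : (1 : G) ≠ S.t * u := fun e => hut (by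
      have h := congrArg (S.t * ·) e
      simp only [mul_one, ← mul_assoc] at h
      rw [show S.t * S.t = 1 from (exists_four hcard S.hr).2.1 _ (S.t_mem_D hcard), one_mul] at h
      exact h.symm)
    rw [Set.ncard_insert_of_notMem (by simp [Ne.symm ht1, Ne.symm hu1, htu]),
      Set.ncard_insert_of_notMem (by
        simp only [Set.mem_insert_iff, Set.mem_singleton_iff, not_or]
        exact ⟨Ne.symm hut, fun e => hu1 ((mul_eq_left).1 e.symm)⟩),
      Set.ncard_pair (fun e => ht1 ((mul_eq_right).1 e.symm))]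
  have hsub : ({1, S.t, u, S.t * u} : Set G) ⊆ (S.D : Set G) := by
    rintro z (rfl | rfl | rfl | rfl)
    exacts [one_mem _, S.t_mem_D hcard, hu, mul_mem (S.t_mem_D hcard) hu]
  have heq : ({1, S.t, u, S.t * u} : Set G) = (S.D : Set G) := Set.eq_of_subset_of_ncard_le hsub
    (by rw [h1, ← Nat.card_coe_set_eq]; exact (S.card_D hcard).le)
  exact (Set.ext_iff.1 heq x).2 hx

theorem exists_u : ∃ u ∈ S.D, u ≠ 1 ∧ u ≠ S.t := by
  by_contra hno
  push Not at hno
  have hle : S.D ≤ zpowers S.t := fun x hx => by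
    by_cases h : x = 1
    · exact h ▸ one_mem _
    · exact (hno x hx h) ▸ mem_zpowers _
  have := card_dvd_of_le hle
  rw [S.card_D hcard, Nat.card_zpowers, S.ht] at this
  omega

theorem fix_u {x u : G} (hx : x ∈ S.R) (hu : u ∈ S.D) (hu1 : u ≠ 1) (hut : u ≠ S.t)
    (hxu : Commute x u) : x ∈ S.E := by
  refine mem_inf.2 ⟨hx, mem_centralizer_iff.2 fun z hz => ?_⟩
  have hxt : Commute x S.t := mem_centralizer_singleton_iff.1 (S.hR.le hx)
  rcases S.eq_four hcard hu hu1 hut hz with rfl | rfl | rfl | rfl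
  · simp
  · exact hxt.symm.eq
  · exact hxu.symm.eq
  · exact (hxt.mul_right hxu).symm.eq

/-- The orbit of `t` under the normalizer of `E`. -/
theorem orbit_eq : {x : G | ∃ k ∈ normalizer (S.E : Set G), k * S.t * k⁻¹ = x} = (S.E : Set G) \ {1} ∧
    Nat.card (normalizer (S.E : Set G)) = 5760 := by
  classical
  set K := normalizer (S.E : Set G) with hK
  have htE : S.t ∈ S.E := S.D_le hcard (S.t_mem_D hcard)
  have ht1 : S.t ≠ 1 := fun e => by have := S.ht; rw [e, orderOf_one] at this; omega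
  set O := {x : G | ∃ k ∈ K, k * S.t * k⁻¹ = x} with hO
  have hsub : O ⊆ (S.E : Set G) \ {1} := by
    rintro x ⟨k, hk, rfl⟩
    exact ⟨conj_mem_of_mem_normalizer hk htE, fun e => ht1 (by simpa using e)⟩
  have hmul := ncard_conj_orbit K (le_normalizer htE : S.t ∈ K)
  rw [inf_eq_left.2 (S.C_le hcard),
    show Nat.card (centralizer ({S.t} : Set G)) = 384 from cen_involution hcard S.ht] at hmul
  have hdK : Nat.card K ∣ 443520 := hcard ▸ card_subgroup_dvd_card K
  have hle : O.ncard ≤ 15 := by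
    refine (Set.ncard_le_ncard hsub).trans ?_
    rw [Set.ncard_sdiff_singleton_of_mem (one_mem _), ← Nat.card_coe_set_eq]
    exact (congrArg (· - 1) (S.card_E hcard)).le
  -- the four group
  have haK : S.a ∈ K := S.P_le hcard S.haP
  have hconjD : ∀ p ∈ S.P, ∀ z ∈ S.D, p * z * p⁻¹ ∈ S.D := fun p hp z hz =>
    conj_mem_of_mem_normalizer
      (commute_normalizes hcard S.ht S.hR S.hr S.hrt (S.hPc p hp S.r S.hrP)) hz
  set v := S.a * S.t * S.a⁻¹ with hv
  have hvD : v ∈ S.D := hconjD _ S.haP _ (S.t_mem_D hcard)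
  have hvO : v ∈ O := ⟨S.a, haK, rfl⟩
  have hv1 : v ≠ 1 := fun e => ht1 (by simpa [hv] using e)
  have hvt : v ≠ S.t := fun e => ht1 (eq_one_of_mem_two hcard S.ht S.hR S.hr S.hrt S.hP S.hrP S.hPc
    S.haP S.har (S.t_mem_D hcard) (mul_inv_eq_iff_eq_mul.1 e).symm)
  set w := S.a * v * S.a⁻¹ with hw
  have hwD : w ∈ S.D := hconjD _ S.haP _ hvD
  have hwO : w ∈ O := ⟨S.a * S.a, mul_mem haK haK, by rw [hw, hv]; group⟩
  have hwt : w = S.t * v := by
    rcases S.eq_four hcard hvD hv1 hvt hwD with e | e | e | e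
    · exact absurd (by simpa [hw] using e) hv1
    · exfalso
      have h3 : S.a * S.a * S.a = 1 := by
        rw [show S.a * S.a * S.a = S.a ^ 3 by simp [pow_succ, mul_assoc], ← S.ha, pow_orderOf_eq_one]
      refine hvt ?_
      calc v = S.a * S.t * S.a⁻¹ := hv
        _ = S.a * w * S.a⁻¹ := by rw [e]
        _ = (S.a * S.a * S.a) * S.t * (S.a * S.a * S.a)⁻¹ := by rw [hw, hv]; group
        _ = S.t := by rw [h3]; group
    · exact absurd (eq_one_of_mem_two hcard S.ht S.hR S.hr S.hrt S.hP S.hrP S.hPc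
        S.haP S.har hvD (mul_inv_eq_iff_eq_mul.1 e).symm) hv1
    · exact e
  have hDO : (S.D : Set G) \ {1} ⊆ O := by
    rintro x ⟨hx, hx1⟩
    rcases S.eq_four hcard hvD hv1 hvt hx with e | e | e | e
    · exact absurd e hx1
    · exact ⟨1, one_mem _, by rw [e]; simp⟩
    · exact e ▸ hvO
    · exact e ▸ hwt ▸ hwO
  have hfree : 3 ∣ (O \ ((S.D : Set G) \ {1})).ncard := by
    have h := dvd_card_of_free_conj (zpowers S.r) (O \ ((S.D : Set G) \ {1})) ?_ ?_
    · rwa [Nat.card_zpowers, S.hr] at h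
    · rintro p hp x ⟨⟨k, hk, rfl⟩, hxD⟩
      have hpP : p ∈ S.P := (zpowers_le.2 S.hrP) hp
      refine ⟨⟨p * k, mul_mem (S.P_le hcard hpP) hk, by group⟩, fun h => hxD ⟨?_, ?_⟩⟩
      · have := hconjD p⁻¹ (inv_mem hpP) _ h.1
        simpa [mul_assoc] using this
      · intro e
        exact ht1 (by simpa using e)
    · rintro p hp x ⟨⟨k, hk, rfl⟩, hxD⟩ hfix
      by_contra hp1
      refine hxD ⟨?_, fun e => ht1 (by simpa using e)⟩
      refine mem_four_of_commute hcard S.ht S.hR S.hr S.hrt S.hP S.hrP S.hPc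
        (conj_mem_of_mem_normalizer hk htE) ?_
      have hpr : zpowers p = zpowers S.r := eq_of_le_of_card_ge (zpowers_le.2 hp) (by
        rw [Nat.card_zpowers, Nat.card_zpowers, S.hr]
        have hd := orderOf_dvd_natCard (⟨p, hp⟩ : zpowers S.r)
        rw [Subgroup.orderOf_mk, Nat.card_zpowers, S.hr] at hd
        rcases (Nat.dvd_prime Nat.prime_three).1 hd with e | e
        · exact absurd (orderOf_eq_one_iff.1 e) hp1
        · omega)
      obtain ⟨n, hn⟩ := mem_zpowers_iff.1 (hpr.symm ▸ mem_zpowers S.r : S.r ∈ zpowers p)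
      exact hn ▸ (Commute.zpow_right (show Commute (k * S.t * k⁻¹) p from
        (mul_inv_eq_iff_eq_mul.1 hfix).symm) n)
  have hD3 : ((S.D : Set G) \ {1}).ncard = 3 := by
    rw [Set.ncard_sdiff_singleton_of_mem (one_mem _), ← Nat.card_coe_set_eq]
    exact congrArg (· - 1) (S.card_D hcard)
  have hsplit := Set.ncard_sdiff_add_ncard_of_subset hDO
  rw [hD3] at hsplit
  have hcase : O.ncard = 3 ∨ O.ncard = 15 := by
    obtain ⟨m, hm⟩ := hdK
    rw [← hmul] at hm
    have hd : O.ncard ∣ 1155 := ⟨m, by nlinarith⟩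
    have h3 : 3 ≤ O.ncard := by omega
    have h3' : O.ncard % 3 = 0 := by omega
    interval_cases h : O.ncard <;> omega
  rcases hcase with h3 | h15
  · exfalso
    have hOD : O = (S.D : Set G) \ {1} :=
      (Set.eq_of_subset_of_ncard_le hDO (by rw [h3, hD3])).symm
    obtain ⟨u, hu, hu1, hut⟩ := S.exists_u hcard
    have hval : ∀ x ∈ S.R, x * u * x⁻¹ = u ∨ x * u * x⁻¹ = S.t * u := by
      intro x hx
      obtain ⟨k, hk, hku⟩ := hDO ⟨hu, hu1⟩
      have hm : x * u * x⁻¹ ∈ O :=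
        ⟨x * k, mul_mem (S.R_normalizes hcard hx) hk, by rw [← hku]; group⟩
      rw [hOD] at hm
      rcases S.eq_four hcard hu hu1 hut hm.1 with e | e | e | e
      · exact absurd e hm.2
      · exfalso
        have hxt : x * S.t * x⁻¹ = S.t := by
          rw [mem_centralizer_singleton_iff.1 (S.hR.le hx), mul_inv_cancel_right]
        exact hut (mul_left_cancel (mul_right_cancel (e.trans hxt.symm)))
      · exact Or.inl e
      · exact Or.inr e
    have h32 : Nat.card S.R ≤ 32 := by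
      by_cases hex : ∃ y ∈ S.R, y * u * y⁻¹ = S.t * u
      · obtain ⟨y, hy, hey⟩ := hex
        have hsub : (S.R : Set G) ⊆ (S.E : Set G) ∪ (fun z => y * z) '' (S.E : Set G) := by
          intro x hx
          rcases hval x hx with e | e
          · exact Or.inl (S.fix_u hcard hx hu hu1 hut (mul_inv_eq_iff_eq_mul.1 e))
          · refine Or.inr ⟨y⁻¹ * x, S.fix_u hcard (mul_mem (inv_mem hy) hx) hu hu1 hut ?_, by simp⟩
            refine mul_inv_eq_iff_eq_mul.1 ?_
            rw [← hey] at e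
            calc y⁻¹ * x * u * (y⁻¹ * x)⁻¹ = y⁻¹ * (x * u * x⁻¹) * y := by group
              _ = u := by rw [e]; group
        have h1 := (Set.ncard_le_ncard hsub).trans (Set.ncard_union_le _ _)
        have h2 := Set.ncard_image_le (f := fun z => y * z) (s := (S.E : Set G))
        simp only [SetLike.coe_sort_coe, ← Nat.card_coe_set_eq] at h1 h2
        rw [S.card_E hcard] at h1 h2
        omega
      · push Not at hex
        have := Nat.le_of_dvd Nat.card_pos (card_dvd_of_le (show S.R ≤ S.E from fun x hx =>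
          S.fix_u hcard hx hu hu1 hut (mul_inv_eq_iff_eq_mul.1 ((hval x hx).resolve_right (hex x hx)))))
        rw [S.card_E hcard] at this
        omega
    rw [S.hR.card] at h32
    omega
  · refine ⟨Set.eq_of_subset_of_ncard_le hsub ?_, by rw [h15] at hmul; omega⟩
    rw [h15, Set.ncard_sdiff_singleton_of_mem (one_mem _), ← Nat.card_coe_set_eq]
    exact (congrArg (· - 1) (S.card_E hcard)).le

theorem trans {x : G} (hx : x ∈ S.E) (hx1 : x ≠ 1) :
    ∃ k ∈ normalizer (S.E : Set G), k * S.t * k⁻¹ = x :=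
  (Set.ext_iff.1 (S.orbit_eq hcard).1 x).2 ⟨hx, hx1⟩

theorem cen_le {x : G} (hx : x ∈ S.E) (hx1 : x ≠ 1) :
    centralizer ({x} : Set G) ≤ normalizer (S.E : Set G) := by
  obtain ⟨k, hk, rfl⟩ := S.trans hcard hx hx1
  intro g hg
  have hc : k⁻¹ * g * k ∈ centralizer ({S.t} : Set G) := by
    have h := commute_conj k⁻¹ (show Commute g (k * S.t * k⁻¹) from mem_centralizer_singleton_iff.1 hg)
    have e1 : k⁻¹ * (k * S.t * k⁻¹) * k⁻¹⁻¹ = S.t := by group
    rw [e1, inv_inv] at h
    exact mem_centralizer_singleton_iff.2 h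
  have h' := mul_mem (mul_mem hk (S.C_le hcard hc)) (inv_mem hk)
  simpa [mul_assoc] using h'

theorem unique {x : G} (hx : x ∈ S.E) (hx1 : x ≠ 1) {g : G} (hg : g * x * g⁻¹ ∈ S.E) :
    g ∈ normalizer (S.E : Set G) := by
  obtain ⟨k, hk, hkx⟩ := S.trans hcard hx hx1
  obtain ⟨k', hk', hkx'⟩ := S.trans hcard hg (fun e => hx1 (by simpa using e))
  have hc : k'⁻¹ * g * k ∈ centralizer ({S.t} : Set G) := by
    refine mem_centralizer_singleton_iff.2 (mul_inv_eq_iff_eq_mul.1 ?_)
    calc k'⁻¹ * g * k * S.t * (k'⁻¹ * g * k)⁻¹ = k'⁻¹ * (g * (k * S.t * k⁻¹) * g⁻¹) * k' := by group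
      _ = S.t := by rw [hkx, ← hkx']; group
  have h' := mul_mem (mul_mem hk' (S.C_le hcard hc)) (inv_mem hk)
  simpa [mul_assoc] using h'

end

end Setup

variable [IsSimpleGroup G] (hcard : Nat.card G = 443520)

include hcard

/-- There is a setup. -/
theorem exists_setup : Nonempty (Setup G) := by
  classical
  haveI : Fact (Nat.Prime 3) := ⟨Nat.prime_three⟩
  obtain ⟨r, hr⟩ := exists_prime_orderOf_dvd_card' (G := G) 3 (by rw [hcard]; norm_num)
  obtain ⟨P, hP, hrP, hPc⟩ := exists_sylow_nine hcard hr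
  obtain ⟨t, R, ht, hrt, hR⟩ := exists_involution_of_three hcard hr
  obtain ⟨y, hyP, hy, hyr⟩ := exists_second hcard ht hR hr hrt hP hrP hPc
  have hry : Commute r y := hPc r hrP y hyP
  have h3 : ∀ z : G, orderOf z = 3 → z ^ 3 = 1 := fun z hz => hz ▸ pow_orderOf_eq_one z
  have hbr : r * y ∉ zpowers r := fun h => hyr (by simpa using mul_mem (inv_mem (mem_zpowers r)) h)
  have hcr : r⁻¹ * y ∉ zpowers r := fun h => hyr (by simpa using mul_mem (mem_zpowers r) h)
  rcases (count_cases hcard ht hR hr hrt hP hrP hPc hy hyP hyr).2 (not_big hcard hr) with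
    ⟨h, -, -⟩ | ⟨-, h, -⟩ | ⟨-, -, h⟩
  · exact ⟨⟨t, r, y, R, P, ht, hr, hrt, hR, hP, hrP, hPc, hyP, hy, hyr, h⟩⟩
  · exact ⟨⟨t, r, r * y, R, P, ht, hr, hrt, hR, hP, hrP, hPc, mul_mem hrP hyP, orderOf_three_of_ne
      (by rw [hry.mul_pow, h3 r hr, h3 y hy, one_mul]) fun e => hbr (e ▸ one_mem _), hbr, h⟩⟩
  · exact ⟨⟨t, r, r⁻¹ * y, R, P, ht, hr, hrt, hR, hP, hrP, hPc, mul_mem (inv_mem hrP) hyP,
      orderOf_three_of_ne (by rw [hry.inv_left.mul_pow, inv_pow, h3 r hr, h3 y hy, inv_one, one_mul])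
        fun e => hcr (e ▸ one_mem _), hcr, h⟩⟩

end Cfsg.Agent.M22Order
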