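import Cfsg.Agent.Lib.M22Order.Data

/-!
# Soundness of the integer searches
-/

set_option autoImplicit false

namespace Cfsg.Agent.M22Order

theorem mem_divs {d : ℕ} (hd : d ∣ 443520) : d ∈ divs := by
  rw [show 443520 = 2 ^ 7 * 3 ^ 2 * 5 ^ 1 * 7 ^ 1 * 11 ^ 1 by norm_num] at hd
  obtain ⟨x, y, hx, hy, rfl⟩ := Nat.dvd_mul.1 hd
  obtain ⟨x, z, hx', hz, rfl⟩ := Nat.dvd_mul.1 hx
  obtain ⟨x, w, hx'', hw, rfl⟩ := Nat.dvd_mul.1 hx'
  obtain ⟨x, v, hx3, hv, rfl⟩ := Nat.dvd_mul.1 hx''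
  obtain ⟨a, ha, rfl⟩ := (Nat.dvd_prime_pow Nat.prime_two).1 hx3
  obtain ⟨b, hb, rfl⟩ := (Nat.dvd_prime_pow Nat.prime_three).1 hv
  obtain ⟨c, hc, rfl⟩ := (Nat.dvd_prime_pow (show Nat.Prime 5 by norm_num)).1 hw
  obtain ⟨g, hg, rfl⟩ := (Nat.dvd_prime_pow (show Nat.Prime 7 by norm_num)).1 hz
  obtain ⟨e, he, rfl⟩ := (Nat.dvd_prime_pow (show Nat.Prime 11 by norm_num)).1 hy
  simp only [divs, List.mem_flatMap, List.mem_map, List.mem_range]
  exact ⟨a, by omega, b, by omega, c, by omega, g, by omega, e, by omega, rfl⟩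

theorem mem_degList {d : ℕ} (hd : d ∣ 443520) (h2 : 2 ≤ d) (hlt : d * d < 443520) : d ∈ degList := by
  have key : (divs.all fun d => !(decide (2 ≤ d ∧ d * d < 443520)) || degList.contains d) = true := by
    decide +kernel
  have h := List.all_eq_true.1 key d (mem_divs hd)
  simpa [h2, hlt] using h

theorem combs_complete : ∀ (X L : List ℤ), (∀ z ∈ L, z ∈ X) →
    ∃ L' ∈ combs X L.length, L'.Perm L
  | [], L, h => by
    obtain rfl : L = [] := List.eq_nil_iff_forall_not_mem.2 fun z hz => by simpa using h z hz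
    exact ⟨[], by simp [combs], List.Perm.refl _⟩
  | a :: X, L, h => by
    have hsplit : (L.filter (fun z => decide (z = a)) ++ L.filter (fun z => !decide (z = a))).Perm L :=
      List.filter_append_perm _ L
    obtain ⟨L', hL', hperm⟩ := combs_complete X (L.filter fun z => !decide (z = a)) fun z hz => by
      simp only [List.mem_filter, Bool.not_eq_true', decide_eq_false_iff_not] at hz
      exact (List.mem_cons.1 (h z hz.1)).resolve_left hz.2
    have hrep : L.filter (fun z => decide (z = a)) =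
        List.replicate (L.filter fun z => decide (z = a)).length a :=
      List.eq_replicate_iff.2 ⟨rfl, fun z hz => by simpa using (List.mem_filter.1 hz).2⟩
    have hlen := hsplit.length_eq
    rw [List.length_append] at hlen
    refine ⟨List.replicate (L.filter fun z => decide (z = a)).length a ++ L', ?_, ?_⟩
    · simp only [combs, List.mem_flatMap, List.mem_range, List.mem_map]
      refine ⟨_, by omega, L', ?_, rfl⟩
      rw [show L.length - (L.filter fun z => decide (z = a)).length =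
        (L.filter fun z => !decide (z = a)).length by omega]
      exact hL'
    · rw [← hrep]
      exact ((List.Perm.append_left _ hperm).trans hsplit)

theorem forceN_eq {β : Type} : ∀ (n : ℕ) (k : ℕ → β), forceN n k = k n
  | 0, _ => rfl
  | _ + 1, _ => rfl

theorem forceI_eq {β : Type} : ∀ (x : ℤ) (k : ℤ → β), forceI x k = k x
  | Int.ofNat _, _ => forceN_eq _ _
  | Int.negSucc _, _ => forceN_eq _ _

theorem forceL_eq {β : Type} : ∀ (l : List ℤ) (k : List ℤ → β), forceL l k = k l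
  | [], _ => rfl
  | a :: l, k => by rw [forceL, forceI_eq, forceL_eq]

theorem forceLL_eq {β : Type} : ∀ (l : List (List ℤ)) (k : List (List ℤ) → β), forceLL l k = k l
  | [], _ => rfl
  | a :: l, k => by rw [forceLL, forceL_eq, forceLL_eq]

theorem allPick_spec : ∀ {ls : List (List ℤ)} {B : ℕ} {k : List ℤ → Bool}, allPick ls B k = true →
    ∀ {us : List ℤ}, List.Forall₂ (fun u l => u ∈ l) us ls →
      (us.map fun u => u.natAbs * u.natAbs).sum ≤ B → k us = true
  | [], B, k, h, us, hu, _ => by cases hu; simpa [allPick] using h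
  | l :: ls, B, k, h, us, hu, hB => by
    obtain ⟨a, as, ha, has, rfl⟩ := List.forall₂_cons_right_iff.1 hu
    simp only [allPick, List.all_eq_true, forceI_eq, forceN_eq, Bool.or_eq_true] at h
    simp only [List.map_cons, List.sum_cons] at hB
    rcases h a ha with h' | h'
    · rw [Nat.blt_eq] at h'; omega
    · exact allPick_spec (k := fun as => k (a :: as)) h' has (by omega)

theorem allV_spec {B K : ℕ} {M : List ℤ} {op : ℤ → List ℤ} {good : List (ℕ × ℤ) → ℤ → Bool}
    (h : allV B K M op good = true) {us : List ℤ}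
    (hu : List.Forall₂ (fun u z => u ∈ op z) us M)
    (hW : 1 + us.sum ∈ op (1 + M.sum)) (hB : (us.map fun u => u.natAbs * u.natAbs).sum ≤ B) :
    good (pairs K M us) (quad M us) = true := by
  simp only [allV, forceL_eq, forceLL_eq, Bool.or_eq_true] at h
  rcases h with h | h
  · rw [List.isEmpty_iff] at h; rw [h] at hW; exact absurd hW (by simp)
  · have h2 := allPick_spec h (List.forall₂_map_right_iff.2 hu) hB
    simp only [forceI_eq, Bool.or_eq_true, Bool.not_eq_true'] at h2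
    rcases h2 with h2 | h2
    · rw [List.contains_iff_mem.2 hW] at h2; exact absurd h2 (by simp)
    · exact h2

theorem sqrtB_spec (C : ℕ) : ∀ (f lo hi : ℕ), lo * lo ≤ C → C < hi * hi → hi - lo ≤ 2 ^ f →
    ∀ {r : ℕ}, r * r ≤ C → r ≤ sqrtB C f lo hi
  | 0, lo, hi, _, h2, h3, r, hr => by
    simp only [sqrtB]
    by_contra hc
    have : hi * hi ≤ r * r := Nat.mul_le_mul (by omega) (by omega)
    omega
  | f + 1, lo, hi, h1, h2, h3, r, hr => by
    simp only [sqrtB, forceN_eq]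
    rw [pow_succ] at h3
    cases hb : Nat.ble ((lo + hi) / 2 * ((lo + hi) / 2)) C
    · have hb' : ¬ (lo + hi) / 2 * ((lo + hi) / 2) ≤ C := fun h => by
        exact absurd hb (by simp [h])
      simp only [cond_false]
      exact sqrtB_spec C f lo _ h1 (by omega) (by omega) hr
    · rw [Nat.ble_eq] at hb
      simp only [cond_true]
      exact sqrtB_spec C f _ hi hb h2 (by omega) hr

theorem mem_opts {C : ℕ} (hC : C < 262144) {z u : ℤ} (h4 : (4 : ℤ) ∣ z - u) (hlt : |u| < |z|)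
    (hsq : u * u ≤ (C : ℤ)) (hdvd : z ∣ ((443520 / C : ℕ) : ℤ) * u) : u ∈ opts C z := by
  have hz : z.natAbs ≠ 0 := fun h => by
    rw [Int.natAbs_eq_zero] at h; subst h; simp at hlt; exact absurd hlt (not_lt.2 (abs_nonneg u))
  simp only [opts, forceN_eq, List.mem_filter, List.mem_map, List.mem_range, memOK, Bool.and_eq_true,
    beq_iff_eq, Nat.blt_eq]
  set K := 443520 / C with hK
  set g := Nat.gcd z.natAbs K with hg
  have hgpos : 0 < g := Nat.gcd_pos_of_pos_left _ (Nat.pos_of_ne_zero hz)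
  set s := z.natAbs / g with hs
  have hspos : 0 < s := Nat.div_pos (Nat.le_of_dvd (Nat.pos_of_ne_zero hz) (Nat.gcd_dvd_left _ _)) hgpos
  have h1 : z.natAbs ∣ K * u.natAbs := by
    have := Int.natAbs_dvd_natAbs.2 hdvd
    rwa [Int.natAbs_mul, Int.natAbs_natCast] at this
  have hsu : s ∣ u.natAbs := by
    refine (Nat.coprime_div_gcd_div_gcd (m := z.natAbs) (n := K) hgpos).dvd_of_dvd_mul_left ?_
    refine Nat.dvd_of_mul_dvd_mul_left hgpos ?_
    rw [← mul_assoc, Nat.mul_div_cancel' (Nat.gcd_dvd_left _ _),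
      Nat.mul_div_cancel' (Nat.gcd_dvd_right _ _)]
    exact h1
  obtain ⟨j, hj⟩ : (s : ℤ) ∣ u := Int.natCast_dvd.2 hsu
  have hr : u.natAbs * u.natAbs ≤ C := by
    have : ((u.natAbs * u.natAbs : ℕ) : ℤ) ≤ C := by
      rw [Nat.cast_mul, Int.natCast_natAbs, abs_mul_abs_self]; exact hsq
    exact_mod_cast this
  have hr' := sqrtB_spec C 9 0 512 (by omega) (by omega) (by norm_num) hr
  have hja : u.natAbs = s * j.natAbs := by rw [hj, Int.natAbs_mul, Int.natAbs_natCast]
  have hjn : j.natAbs ≤ sqrtB C 9 0 512 / s := by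
    rw [Nat.le_div_iff_mul_le hspos, mul_comm, ← hja]; exact hr'
  refine ⟨⟨(j + (sqrtB C 9 0 512 / s : ℕ)).toNat, by omega, ?_⟩, Int.emod_eq_zero_of_dvd h4, ?_⟩
  · rw [Int.toNat_of_nonneg (by omega), add_sub_cancel_right, hj, mul_comm]
  · have : (u.natAbs : ℤ) < z.natAbs := by rwa [Int.natCast_natAbs, Int.natCast_natAbs]
    exact_mod_cast this

section Row

variable {α : Type*} (dg : α → ℕ)

/-- The non-trivial members of a principal block, arranged as a row. -/
structure Row (α : Type*) (dg : α → ℕ) where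
  cs : List α
  ys : List α
  w : α → ℤ
  δ : ℤ
  nodup : (cs ++ ys).Nodup
  w_eq : ∀ χ ∈ cs, w χ = 1 ∨ w χ = -1
  δ_eq : δ = 1 ∨ δ = -1
  ys_ne : ys ≠ []
  rel : ∀ θ ∈ ys, δ * (dg θ : ℤ) = 1 + (cs.map fun χ => w χ * (dg χ : ℤ)).sum
  pos : ∀ χ ∈ cs ++ ys, 0 < dg χ

namespace Row

variable {dg} (R : Row α dg)

/-- All members. -/
def all : List α := R.cs ++ R.ys

/-- The signed degrees. -/
def M : List ℤ := R.cs.map fun χ => R.w χ * (dg χ : ℤ)

/-- The signed values. -/
def us (f : α → ℤ) : List ℤ := R.cs.map fun χ => R.w χ * f χ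

/-- The values fit the relation of the block. -/
def RelV (f : α → ℤ) : Prop := ∀ θ ∈ R.ys, R.δ * f θ = 1 + (R.us f).sum

theorem sm_signed {s : ℤ} (hs : s = 1 ∨ s = -1) {d : ℕ} (hd : 0 < d) (v : ℤ) :
    sm (s * (d : ℤ)) (s * v) = (d, v) := by
  rcases hs with rfl | rfl
  · simp [sm, hd]
  · simp [sm]

theorem natAbs_signed {s : ℤ} (hs : s = 1 ∨ s = -1) (v : ℤ) : (s * v).natAbs = v.natAbs := by
  rcases hs with rfl | rfl <;> simp

theorem pairs_eq {f : α → ℤ} (hf : R.RelV f) :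
    pairs R.ys.length R.M (R.us f) = R.all.map fun χ => (dg χ, f χ) := by
  rw [pairs, all, List.map_append]
  congr 1
  · rw [M, us, List.zipWith_map, List.zipWith_self]
    exact List.map_congr_left fun χ hχ => sm_signed (R.w_eq χ hχ) (R.pos χ (by simp [hχ])) _
  · rw [eq_comm, List.eq_replicate_iff]
    refine ⟨by simp, fun b hb => ?_⟩
    obtain ⟨θ, hθ, rfl⟩ := List.mem_map.1 hb
    rw [M, ← R.rel θ hθ, ← hf θ hθ, sm_signed R.δ_eq (R.pos θ (by simp [hθ]))]

theorem degs_eq : degs R.ys.length R.M = R.all.map dg := by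
  rw [degs, all, List.map_append]
  congr 1
  · rw [M, List.map_map]
    exact List.map_congr_left fun χ hχ => by simp [natAbs_signed (R.w_eq χ hχ)]
  · rw [eq_comm, List.eq_replicate_iff]
    refine ⟨by simp, fun b hb => ?_⟩
    obtain ⟨θ, hθ, rfl⟩ := List.mem_map.1 hb
    rw [M, ← R.rel θ hθ, natAbs_signed R.δ_eq, Int.natAbs_natCast]

theorem allV_apply {B : ℕ} {op : ℤ → List ℤ} {good : List (ℕ × ℤ) → ℤ → Bool}
    (h : allV B R.ys.length R.M op good = true) {f : α → ℤ} (hf : R.RelV f)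
    (hop : ∀ χ ∈ R.all, ∀ s : ℤ, (s = 1 ∨ s = -1) → s * f χ ∈ op (s * (dg χ : ℤ)))
    (hB : (R.cs.map fun χ => f χ * f χ).sum ≤ (B : ℤ)) :
    good (R.all.map fun χ => (dg χ, f χ)) (quad R.M (R.us f)) = true := by
  rw [← R.pairs_eq hf]
  refine allV_spec h ?_ ?_ ?_
  · rw [us, M, List.forall₂_map_left_iff, List.forall₂_map_right_iff, List.forall₂_same]
    exact fun χ hχ => hop χ (by simp [all, hχ]) _ (R.w_eq χ hχ)
  · obtain ⟨θ, hθ⟩ := List.exists_mem_of_ne_nil _ R.ys_ne
    rw [M, ← R.rel θ hθ, ← hf θ hθ]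
    exact hop θ (by simp [all, hθ]) _ R.δ_eq
  · rw [us, List.map_map]
    have : (((R.cs.map ((fun u : ℤ => u.natAbs * u.natAbs) ∘ fun χ => R.w χ * f χ)).sum : ℕ) : ℤ) =
        (R.cs.map fun χ => f χ * f χ).sum := by
      rw [Nat.cast_list_sum, List.map_map]
      refine congrArg List.sum (List.map_congr_left fun χ hχ => ?_)
      simp only [Function.comp_apply, natAbs_signed (R.w_eq χ hχ)]
      rw [Nat.cast_mul, Int.natCast_natAbs, abs_mul_abs_self]
    exact_mod_cast this ▸ hB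

/-- Rearranging the members which are not exceptional. -/
def permCs {l : List α} (h : l.Perm R.cs) : Row α dg where
  cs := l
  ys := R.ys
  w := R.w
  δ := R.δ
  nodup := (h.append_right _).nodup_iff.2 R.nodup
  w_eq := fun χ hχ => R.w_eq χ (h.mem_iff.1 hχ)
  δ_eq := R.δ_eq
  ys_ne := R.ys_ne
  rel := fun θ hθ => by rw [R.rel θ hθ, (h.map _).sum_eq]
  pos := fun χ hχ => R.pos χ ((h.append_right _).mem_iff.1 hχ)

theorem exists_canonical {M' : List ℤ} (h : M'.Perm R.M) :
    ∃ R' : Row α dg, R'.M = M' ∧ R'.ys = R.ys ∧ R'.w = R.w ∧ R'.δ = R.δ ∧ R'.cs.Perm R.cs := by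
  have key : ∀ {l : List α} {m : List ℤ} {g : α → ℤ}, m.Perm (l.map g) →
      ∃ l' : List α, l'.Perm l ∧ l'.map g = m := by
    intro l m g
    induction m generalizing l with
    | nil => intro h; refine ⟨l, List.Perm.refl _, ?_⟩; simpa using h.symm
    | cons a m ih =>
      intro h
      obtain ⟨x, hx, hxa⟩ := List.mem_map.1 (h.subset List.mem_cons_self)
      obtain ⟨l₁, l₂, rfl⟩ := List.append_of_mem hx
      have hp : (l₁ ++ x :: l₂).Perm (x :: (l₁ ++ l₂)) := List.perm_middle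
      have h2 := h.trans (hp.map g)
      rw [List.map_cons, hxa] at h2
      obtain ⟨l', hl', hm⟩ := ih h2.cons_inv
      exact ⟨x :: l', (hl'.cons x).trans hp.symm, by rw [List.map_cons, hxa, hm]⟩
  obtain ⟨l', hl', hm⟩ := key h
  exact ⟨R.permCs hl', hm, rfl, rfl, rfl, hl'⟩

theorem agree_apply (S : Row α dg) (p q : ℕ) {K K' : ℕ} (hK : R.ys.length = K) (hK' : S.ys.length = K')
    (h1 : ∀ χ ∈ R.all, ¬ p ∣ dg χ → ¬ q ∣ dg χ → χ ∈ S.all)
    (h2 : ∀ χ ∈ S.all, ¬ p ∣ dg χ → ¬ q ∣ dg χ → χ ∈ R.all) :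
    agree p q (degs K R.M) (degs K' S.M) = true := by
  subst hK hK'
  classical
  simp only [agree, degs_eq, List.filter_map, List.isPerm_iff]
  refine List.Perm.map _ (List.perm_of_nodup_nodup_toFinset_eq (R.nodup.filter _) (S.nodup.filter _) ?_)
  ext χ
  simp only [List.mem_toFinset, List.mem_filter, Function.comp_apply, Bool.and_eq_true, bne_iff_ne,
    ne_eq, ← Nat.dvd_iff_mod_eq_zero]
  exact ⟨fun ⟨a, b, c⟩ => ⟨h1 χ a b c, b, c⟩, fun ⟨a, b, c⟩ => ⟨h2 χ a b c, b, c⟩⟩

end Row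

end Row

section Lists

variable {α : Type*}

theorem mem_look {dg : α → ℕ} {f : α → ℤ} {U : List α} {χ : α} (hχ : χ ∈ U) {s : ℤ}
    (hs : s = 1 ∨ s = -1) (hpos : 0 < dg χ) :
    s * f χ ∈ look (U.map fun χ => (dg χ, f χ)) (s * (dg χ : ℤ)) := by
  refine List.mem_map.2 ⟨(dg χ, f χ), List.mem_filter.2 ⟨List.mem_map.2 ⟨χ, hχ, rfl⟩, ?_⟩, ?_⟩
  · simp [Row.natAbs_signed hs]
  · rcases hs with rfl | rfl
    · simp [hpos]
    · rw [if_neg (by omega)]; simp

theorem fresh_map (p : ℕ) (dg : α → ℕ) (f : α → ℤ) (l : List α) :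
    fresh p (l.map fun χ => (dg χ, f χ)) =
      (l.filter fun χ => dg χ % p == 0).map fun χ => (dg χ, f χ) := by
  simp [fresh, List.filter_map, Function.comp_def]

theorem csOK_apply {C : ℕ} {dg : α → ℕ} {f : α → ℤ} {l : List α}
    (ha : 1 + (l.map fun χ => f χ * f χ).sum ≤ (C : ℤ))
    (hb : 1 + (l.map fun χ => (dg χ : ℤ) * (dg χ : ℤ)).sum ≤ ord)
    (hs : (1 + (l.map fun χ => (dg χ : ℤ) * f χ).sum) * (1 + (l.map fun χ => (dg χ : ℤ) * f χ).sum) ≤
      (ord - (1 + (l.map fun χ => (dg χ : ℤ) * (dg χ : ℤ)).sum)) *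
        ((C : ℤ) - (1 + (l.map fun χ => f χ * f χ).sum))) :
    csOK C (l.map fun χ => (dg χ, f χ)) = true := by
  simp only [csOK, List.map_map, Function.comp_def, Bool.and_eq_true, decide_eq_true_eq]
  exact ⟨⟨ha, hb⟩, hs⟩

end Lists

end Cfsg.Agent.M22Order
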