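import Cfsg.Agent.Lib.M22Order.Rows
import Cfsg.Agent.Lib.M22Order.Sound

/-!
# The possible parameters of the Sylow normalizers
-/

set_option autoImplicit false
set_option Elab.async false

namespace Cfsg.Agent.M22Order

/-- The possible `(e, c)`, the Sylow `p`-subgroup having order `p` and centralizer of order `p c`. -/
def ecList (p m : ℕ) : List (ℕ × ℕ) :=
  (List.range p).flatMap fun e =>
    if Nat.ble 2 e && (p - 1) % e == 0 then
      (divs.filter fun c =>
        (c % p != 0) && (m % (c * e) == 0) && (m / (c * e) % p == 1) && Nat.blt 1 (m / (c * e))).map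
          fun c => (e, c)
    else []

theorem mem_ecList {p m e c : ℕ} (he : 2 ≤ e) (hlt : e < p) (hed : e ∣ p - 1) (hc : c ∣ 443520)
    (hpc : ¬ p ∣ c) (hm : c * e ∣ m) (hn : m / (c * e) % p = 1) (h1 : 1 < m / (c * e)) :
    (e, c) ∈ ecList p m := by
  refine List.mem_flatMap.2 ⟨e, List.mem_range.2 hlt, ?_⟩
  rw [if_pos (by simp [Nat.ble_eq, he, Nat.mod_eq_zero_of_dvd hed])]
  refine List.mem_map.2 ⟨c, List.mem_filter.2 ⟨mem_divs hc, ?_⟩, rfl⟩
  simp [Nat.mod_eq_zero_of_dvd hm, hn, Nat.blt_eq, h1, ← Nat.dvd_iff_mod_eq_zero, hpc]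

theorem ec_eleven : ((ecList 11 40320).all fun x =>
    (x == (5, 1)) || (x == (10, 28)) || (rows 11 x.1 x.2).isEmpty) = true := by decide +kernel

theorem ec_seven : ((ecList 7 63360).all fun x => (x.2 % 11 == 0) || (x == (3, 1)) ||
    ec7.contains x || (rows 7 x.1 x.2).isEmpty) = true := by decide +kernel

theorem ec_880 : (rows 7 2 880).isEmpty = true := by decide +kernel

theorem ec_five : ((ecList 5 88704).all fun x => (x.2 % 11 == 0) || (x.2 % 7 == 0) ||
    (x == (4, 1)) || ((x.2 % 2 == 0) && ((17472 % (x.2 * x.2) != 0) || (x == (2, 2))))) = true := by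
  decide +kernel

/-- The rows at 5 for `|C(P₅)| = 10`. -/
theorem rows522 : rows 5 2 2 = [[-64], [21], [11]] := by decide +kernel

end Cfsg.Agent.M22Order
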