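import Cfsg.Agent.Lib.M12Order.Basic

/-!
# Tools for characters of a simple group with a Sylow subgroup of prime order

* a small member of the principal block makes the Sylow subgroup self-centralizing;
* values on the centralizer of the Sylow subgroup are congruent to the degree;
* class multiplication coefficients;
* the Cauchy inequality for the characters outside a given set.
-/

set_option autoImplicit false
set_option linter.style.haveILetI false
set_option linter.unusedSectionVars false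

namespace Cfsg.Agent.M22Order

open Subgroup
open Cfsg.Agent.Characters Cfsg.Agent.Blocks Cfsg.Agent.PrimeBlock
open Cfsg.Agent.M12Order (cen cls iv iv_eq)
open scoped ComplexConjugate

universe u

variable {G : Type u} [Group G] [Finite G]

theorem conj_root {n : ℕ} (hn : n ≠ 0) {z : ℂ} (hz : z ^ n = 1) : conj z = z⁻¹ :=
  (Complex.inv_eq_conj (Complex.norm_eq_one_of_pow_eq_one hz hn)).symm

theorem root_sum {n : ℕ} {z : ℂ} (hz : z ^ n = 1) :
    ∑ i ∈ Finset.range n, z ^ i = if z = 1 then (n : ℂ) else 0 := by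
  split_ifs with h
  · simp [h]
  · rw [geom_sum_eq h, hz, sub_self, zero_div]

theorem count_eq {ι : Type*} [Fintype ι] [DecidableEq ι] {m : ℕ} (hm : m ≠ 0) {w : ι → ℂ}
    (hw : ∀ i, w i ^ m = 1) {ξ : ℂ} (hξ : ξ ^ m = 1) :
    ∑ j ∈ Finset.range m, (ξ⁻¹) ^ j * ∑ i, w i ^ j =
      (m : ℂ) * ((Finset.univ.filter fun i => w i = ξ).card : ℂ) := by
  classical
  have hξ0 : ξ ≠ 0 := fun h => by rw [h, zero_pow hm] at hξ; exact zero_ne_one hξ
  simp only [Finset.mul_sum]
  rw [Finset.sum_comm, Finset.card_filter, Nat.cast_sum, Finset.mul_sum]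
  refine Finset.sum_congr rfl fun i _ => ?_
  simp only [← mul_pow]
  rw [root_sum (by rw [mul_pow, inv_pow, hξ, hw i, inv_one, one_mul])]
  by_cases h : w i = ξ
  · rw [if_pos (by rw [h, inv_mul_cancel₀ hξ0]), if_pos h]; push_cast; ring
  · rw [if_neg (fun e => h (by
      have := congrArg (ξ * ·) e
      simpa [← mul_assoc, mul_inv_cancel₀ hξ0] using this)), if_neg h]
    push_cast; ring

/-- A member of the block of degree less than `2p` makes the Sylow subgroup its own centralizer. -/
theorem card_centralizer_of_lt_two_mul [IsSimpleGroup G] (hG : ¬ IsMulCommutative G) {p : ℕ}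
    [Fact p.Prime] {P : Sylow p G} (D : PBlock P) {χ : Cfsg.IrrCharacter G}
    (hχ : χ ∈ Cfsg.principalBlock D.M G) (hne : χ ≠ trivIrr G) (hlt : deg χ < 2 * p) :
    Nat.card (centralizer ((P : Subgroup G) : Set G)) = p := by
  classical
  set C := centralizer ((P : Subgroup G) : Set G) with hC
  have hp : p.Prime := Fact.out
  obtain ⟨x, hx1, hxP⟩ := D.exists_ne_one
  have hox := D.orderOf_eq hxP hx1
  have hno : ∀ q : ℕ, q.Prime → q ≠ p → ¬ q ∣ Nat.card C := by
    intro q hq hqp hd
    haveI := Fact.mk hq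
    obtain ⟨⟨k, hkC⟩, hk⟩ := exists_prime_orderOf_dvd_card' (G := C) q hd
    rw [Subgroup.orderOf_mk] at hk
    have hc : Commute x k := mem_centralizer_iff.1 hkC x hxP
    have hcop : (orderOf x).Coprime (orderOf k) := by
      rw [hox, hk]; exact (Nat.coprime_primes hp hq).2 (Ne.symm hqp)
    have hoy : orderOf (x * k) = p * q := by
      rw [hc.orderOf_mul_eq_mul_orderOf_of_coprime hcop, hox, hk]
    set y := x * k with hy
    have hyp : y ^ p = k ^ p := by
      rw [hy, hc.mul_pow, ← hox, pow_orderOf_eq_one, one_mul]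
    have hyp1 : y ^ p ≠ 1 := by
      rw [hyp]
      intro h
      have := orderOf_dvd_of_pow_eq_one h
      rw [hk] at this
      exact hqp ((Nat.prime_dvd_prime_iff_eq hq hp).1 this)
    have hpq : p * q ≠ 0 := mul_ne_zero hp.ne_zero hq.ne_zero
    obtain ⟨n, ρ, hρ, hchar⟩ := χ.2
    obtain ⟨b, w, hw, hb⟩ := exists_eigenbasis ρ y
    simp only [hoy] at hw
    have hval : ∀ j : ℕ, (χ : G → ℂ) (y ^ j) = ∑ i, w i ^ j := fun j => by
      rw [← hchar]; exact trace_of_eigenbasis b _ (apply_pow_eigenbasis ρ b w hb j)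
    have hdeg : deg χ = Module.finrank ℂ (Fin n → ℂ) :=
      Nat.cast_injective (R := ℂ) (by rw [deg_cast, ← hchar, ρ.char_one])
    -- multiplicities are constant along the cosets of the `p`-th roots of unity
    set N : ℂ → ℕ := fun ξ => (Finset.univ.filter fun i => w i = ξ).card with hN
    have hshift : ∀ ξ ζ : ℂ, ξ ^ (p * q) = 1 → ξ ^ p ≠ 1 → ζ ^ p = 1 → N (ξ * ζ) = N ξ := by
      intro ξ ζ hξ hξp hζ
      have hξζ : (ξ * ζ) ^ (p * q) = 1 := by rw [mul_pow, hξ, pow_mul, hζ, one_pow, one_mul]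
      have key : ∀ η : ℂ, η ^ (p * q) = 1 → η ^ p ≠ 1 →
          ∑ j ∈ Finset.range (p * q), (η⁻¹) ^ j * (χ : G → ℂ) (y ^ j) =
            ∑ j ∈ (Finset.range (p * q)).filter (fun j => p ∣ j), (η⁻¹) ^ j * (χ : G → ℂ) (y ^ j) := by
        intro η hη hηp
        rw [← Finset.sum_filter_add_sum_filter_not _ (fun j => p ∣ j), add_eq_left]
        have hval' : ∀ j, ¬ p ∣ j → (χ : G → ℂ) (y ^ j) = (χ : G → ℂ) (x ^ (j % p)) := by
          intro j hj
          rw [hy, hc.mul_pow, ← pow_mod_orderOf x j, hox]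
          exact D.value_mul hχ (pow_mem hxP _)
            (D.pow_ne_one hxP hx1 (fun h => hj ((Nat.dvd_mod_iff dvd_rfl).1 h)))
            (pow_mem hkC _) (fun h => by
              have := (orderOf_pow_dvd (x := k) j)
              rw [hk] at this
              exact hqp ((Nat.prime_dvd_prime_iff_eq hp hq).1 (h.trans this)).symm)
        rw [Finset.sum_congr rfl fun j hj => by rw [hval' j (Finset.mem_filter.1 hj).2]]
        -- periodicity
        have hsum : ∑ j ∈ Finset.range (p * q), (if ¬ p ∣ j then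
            (η⁻¹) ^ j * (χ : G → ℂ) (x ^ (j % p)) else 0) = 0 := by
          rw [mul_comm p q, Finset.sum_range, ← finProdFinEquiv.sum_comp, Fintype.sum_prod_type,
            Finset.sum_comm]
          simp only [finProdFinEquiv_apply_val]
          refine Finset.sum_eq_zero fun a _ => ?_
          have hd : ∀ t : Fin q, (p ∣ a.val + p * t.val) = (p ∣ a.val) := fun t => by
            rw [eq_iff_iff, Nat.dvd_add_left (dvd_mul_right p _)]
          have hm : ∀ t : Fin q, (a.val + p * t.val) % p = a.val % p := fun t =>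
            Nat.add_mul_mod_self_left _ _ _
          simp only [hd, hm]
          split_ifs with h
          · simp
          · simp only [pow_add, pow_mul, mul_assoc]
            rw [← Finset.mul_sum, ← Finset.sum_mul,
              ← Finset.sum_range (fun t => ((η⁻¹) ^ p) ^ t),
              root_sum (by rw [← pow_mul, inv_pow, hη, inv_one]),
              if_neg (fun e => hηp (by rwa [inv_pow, inv_eq_one] at e))]
            ring
        rw [Finset.sum_filter]
        exact hsum
      have h1 := count_eq hpq hw hξζ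
      have h2 := count_eq hpq hw hξ
      simp only [← hval] at h1 h2
      rw [key _ hξζ (by rwa [mul_pow, hζ, mul_one])] at h1
      rw [key _ hξ hξp] at h2
      rw [Finset.sum_congr rfl (g := fun j => (ξ⁻¹) ^ j * (χ : G → ℂ) (y ^ j)) fun j hj => by
        obtain ⟨c, rfl⟩ := (Finset.mem_filter.1 hj).2
        simp only [pow_mul, inv_pow, mul_pow, hζ, mul_one]] at h1
      rw [h2] at h1
      have := mul_left_cancel₀ (Nat.cast_ne_zero.2 hpq) h1
      exact (Nat.cast_injective this).symm
    -- some eigenvalue is not a `p`-th root of unity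
    obtain ⟨i₀, hi₀⟩ : ∃ i, w i ^ p ≠ 1 := by
      by_contra h
      push Not at h
      refine hyp1 (eq_one_of_norm_eq hG hne ?_)
      rw [hval, Finset.sum_congr rfl fun i _ => h i, ← deg_cast, hdeg]
      simp
    set ω₀ := w i₀ ^ p with hω₀
    obtain ⟨ζ, hζ⟩ : ∃ ζ : ℂ, IsPrimitiveRoot ζ p := ⟨_, Complex.isPrimitiveRoot_exp p hp.ne_zero⟩
    -- a class of `p`-th roots is met `p N` times
    have hclass : ∀ i, w i ^ p ≠ 1 →
        (Finset.univ.filter fun l => w l ^ p = w i ^ p).card = p * N (w i) := by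
      intro i hi
      have hwi0 : w i ≠ 0 := fun h => by
        have := hw i; rw [h, zero_pow hpq] at this; exact zero_ne_one this
      have heq : (Finset.univ.filter fun l => w l ^ p = w i ^ p) =
          (Finset.range p).biUnion fun a => Finset.univ.filter fun l => w l = w i * ζ ^ a := by
        ext l
        simp only [Finset.mem_filter, Finset.mem_univ, true_and, Finset.mem_biUnion, Finset.mem_range]
        constructor
        · intro h
          haveI : NeZero p := ⟨hp.ne_zero⟩
          obtain ⟨a, ha, hae⟩ := hζ.eq_pow_of_pow_eq_one (ξ := w l / w i)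
            (by rw [div_pow, h, div_self (pow_ne_zero _ hwi0)])
          exact ⟨a, ha, by rw [hae, mul_div_cancel₀ _ hwi0]⟩
        · rintro ⟨a, -, h⟩
          rw [h, mul_pow, ← pow_mul, mul_comm a, pow_mul, hζ.pow_eq_one, one_pow, mul_one]
      rw [heq, Finset.card_biUnion]
      · rw [Finset.sum_congr rfl (g := fun _ => N (w i)) fun a _ =>
          hshift (w i) (ζ ^ a) (hw i) hi (by rw [← pow_mul, mul_comm, pow_mul, hζ.pow_eq_one, one_pow]),
          Finset.sum_const, Finset.card_range, smul_eq_mul]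
      · intro a ha a' ha' hne' 
        refine Finset.disjoint_left.2 fun l h h' => hne' ?_
        rw [Finset.mem_filter] at h h'
        exact hζ.pow_inj (Finset.mem_range.1 ha) (Finset.mem_range.1 ha')
          (mul_left_cancel₀ hwi0 (h.2.symm.trans h'.2))
    have hNpos : ∀ i, 0 < N (w i) := fun i => Finset.card_pos.2 ⟨i, by simp⟩
    have honly : ∀ i, w i ^ p = 1 ∨ w i ^ p = ω₀ := by
      intro i
      by_contra h
      push Not at h
      have hd : Disjoint (Finset.univ.filter fun l => w l ^ p = w i ^ p)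
          (Finset.univ.filter fun l => w l ^ p = ω₀) := Finset.disjoint_left.2 fun l h1 h2 => by
        rw [Finset.mem_filter] at h1 h2
        exact h.2 (h1.2.symm.trans h2.2)
      have hle := (Finset.card_le_univ ((Finset.univ.filter fun l => w l ^ p = w i ^ p) ∪
          (Finset.univ.filter fun l => w l ^ p = ω₀))).trans_eq (Fintype.card_fin _)
      rw [Finset.card_union_of_disjoint hd, hclass i h.1, hclass i₀ hi₀, ← hdeg] at hle
      have := Nat.le_mul_of_pos_right p (hNpos i)
      have := Nat.le_mul_of_pos_right p (hNpos i₀)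
      omega
    have hN1 : N (w i₀) = 1 := by
      have hle := (Finset.card_le_univ (Finset.univ.filter fun l => w l ^ p = ω₀)).trans_eq
        (Fintype.card_fin _)
      rw [hclass i₀ hi₀, ← hdeg] at hle
      by_contra h
      have := Nat.mul_le_mul_left p (show 2 ≤ N (w i₀) by have := hNpos i₀; omega)
      omega
    -- the determinant
    have hdet : LinearMap.det (ρ (y ^ p)) = ω₀ ^ p := by
      rw [← LinearMap.det_toMatrix b,
        show LinearMap.toMatrix b b (ρ (y ^ p)) = Matrix.diagonal (fun i => w i ^ p) from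
          Matrix.ext fun i j => by
            rw [LinearMap.toMatrix_apply, apply_pow_eigenbasis ρ b w hb, map_smul, b.repr_self,
              Finsupp.smul_apply, smul_eq_mul, Matrix.diagonal_apply, Finsupp.single_apply]
            by_cases h : i = j
            · subst h; simp
            · simp [h, Ne.symm h],
        Matrix.det_diagonal,
        Finset.prod_congr rfl (g := fun i => if w i ^ p = ω₀ then ω₀ else 1) fun i _ => by
          rcases honly i with h | h
          · rw [h]; split_ifs with h' <;> simp_all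
          · rw [h, if_pos rfl],
        Finset.prod_ite, Finset.prod_const, Finset.prod_const, one_pow, mul_one, hclass i₀ hi₀, hN1,
        mul_one]
    rw [det_eq_one hG] at hdet
    have hq1 : ω₀ ^ q = 1 := by rw [hω₀, ← pow_mul]; exact hw i₀
    have := pow_gcd_eq_one.2 ⟨hq1, hdet.symm⟩
    rw [(Nat.coprime_primes hq hp).2 hqp, pow_one] at this
    exact hi₀ this
  -- no other prime divides the centralizer
  have hPC : (P : Subgroup G) ≤ C := fun z hz => mem_centralizer_iff.2 fun y hy => by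
    haveI : IsCyclic (P : Subgroup G) := isCyclic_of_prime_card D.card_P
    letI := IsCyclic.commGroup (α := (P : Subgroup G))
    exact congrArg Subtype.val (mul_comm (⟨y, hy⟩ : (P : Subgroup G)) ⟨z, hz⟩)
  have hpC : IsPGroup p C := IsPGroup.of_card (n := (Nat.card C).factorization p) (by
    refine Nat.eq_of_factorization_eq Nat.card_pos.ne' (pow_ne_zero _ hp.ne_zero) fun q => ?_
    rw [hp.factorization_pow]
    by_cases hq : q = p
    · subst hq; simp
    · rw [Finsupp.single_eq_of_ne hq]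
      by_cases hq' : q.Prime
      · exact Nat.factorization_eq_zero_of_not_dvd (hno q hq' hq)
      · exact Nat.factorization_eq_zero_of_not_prime _ hq')
  rw [P.is_maximal' hpC hPC, D.card_P]

/-- Values on the centralizer of the Sylow subgroup are congruent to the degree. -/
theorem block_cong {p : ℕ} [Fact p.Prime] {P : Sylow p G} (D : PBlock P)
    {χ : Cfsg.IrrCharacter G} (hχ : χ ∈ Cfsg.principalBlock D.M G) {k : G}
    (hk : k ∈ centralizer ((P : Subgroup G) : Set G)) (hkr : ¬ p ∣ orderOf k) {v : ℤ}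
    (hv : (χ : G → ℂ) k = (v : ℂ)) : (p : ℤ) ∣ (deg χ : ℤ) - v := by
  obtain ⟨x, hx1, hx⟩ := D.exists_ne_one
  have hc : Commute x k := mem_centralizer_iff.1 hk x hx
  have h1 := char_cong_of_commute D.hM χ hc (k := 1) (by rw [pow_one, D.x_pow hx]) hkr
  have h2 := char_cong_of_commute D.hM χ (Commute.one_right x) (k := 1)
    (by rw [pow_one, D.x_pow hx]) (not_dvd_one (G := G))
  rw [D.value_mul hχ hx hx1 hk hkr, hv] at h1
  rw [mul_one, ← deg_cast] at h2
  have h := cong_trans D.hM (cong_symm D.hM h2) h1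
  exact (ideal_intCast_iff D.hM _).1 (by push_cast; exact h)

/-- The triple sum counts pairs of conjugating elements. -/
theorem class_pairs [Fintype (Cfsg.IrrCharacter G)] (g h x : G) :
    (Nat.card G : ℂ) * ∑ χ : Cfsg.IrrCharacter G,
        (χ : G → ℂ) g * (χ : G → ℂ) h * conj ((χ : G → ℂ) x) / (χ : G → ℂ) 1 =
      (Nat.card {p : G × G // (p.1 * g * p.1⁻¹) * (p.2 * h * p.2⁻¹) = x} : ℂ) := by
  classical
  haveI := Fintype.ofFinite G
  rw [show Nat.card {p : G × G // (p.1 * g * p.1⁻¹) * (p.2 * h * p.2⁻¹) = x} =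
      ((Finset.univ : Finset (G × G)).filter fun p =>
        (p.1 * g * p.1⁻¹) * (p.2 * h * p.2⁻¹) = x).card by
    rw [Nat.card_eq_fintype_card, Fintype.card_subtype]]
  set T := (Finset.univ : Finset (G × G)).filter fun p =>
    (p.1 * g * p.1⁻¹) * (p.2 * h * p.2⁻¹) = x with hT
  rw [Finset.mul_sum]
  have e : ∀ χ : Cfsg.IrrCharacter G, (Nat.card G : ℂ) *
      ((χ : G → ℂ) g * (χ : G → ℂ) h * conj ((χ : G → ℂ) x) / (χ : G → ℂ) 1) =
      ∑ a : G, (χ : G → ℂ) (g * (a * h * a⁻¹)) * conj ((χ : G → ℂ) x) := fun χ => by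
    rw [← Finset.sum_mul, sum_mul_conjugates χ.2]; ring
  rw [Finset.sum_congr rfl fun χ _ => e χ, Finset.sum_comm]
  have e2 : T.card = ∑ a : G, (Finset.univ.filter fun u : G =>
      u * (g * (a * h * a⁻¹)) * u⁻¹ = x).card := by
    rw [← Finset.card_sigma]
    refine Finset.card_bij' (fun p _ => ⟨p.1⁻¹ * p.2, p.1⟩) (fun z _ => (z.2, z.2 * z.1))
      ?_ ?_ ?_ ?_
    · intro p hp
      simp only [hT, Finset.mem_filter, Finset.mem_univ, true_and] at hp
      simp only [Finset.mem_sigma, Finset.mem_univ, Finset.mem_filter, true_and]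
      rw [← hp]; group
    · intro z hz
      simp only [Finset.mem_sigma, Finset.mem_univ, Finset.mem_filter, true_and] at hz
      simp only [hT, Finset.mem_filter, Finset.mem_univ, true_and]
      rw [← hz]; group
    · intro p _; simp
    · intro z _; simp
  rw [e2, Nat.cast_sum]
  refine Finset.sum_congr rfl fun a _ => ?_
  rw [second_orthogonality]
  set y := g * (a * h * a⁻¹) with hy
  by_cases hyx : IsConj y x
  · rw [if_pos hyx]
    obtain ⟨u₀, hu₀⟩ := isConj_iff.1 hyx
    congr 1
    rw [← Fintype.card_subtype, ← Nat.card_eq_fintype_card]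
    refine Nat.card_congr ((Equiv.mulRight u₀).subtypeEquiv fun c => ?_)
    show c ∈ centralizer ({x} : Set G) ↔ c * u₀ * y * (c * u₀)⁻¹ = x
    rw [mem_centralizer_singleton_iff, mul_inv_rev,
      show c * u₀ * y * (u₀⁻¹ * c⁻¹) = c * (u₀ * y * u₀⁻¹) * c⁻¹ by group, hu₀]
    exact ⟨fun hc => by rw [hc]; group, fun hc => by rw [← mul_inv_eq_iff_eq_mul]; exact hc⟩
  · rw [if_neg hyx, eq_comm, Nat.cast_eq_zero, Finset.card_eq_zero, Finset.filter_eq_empty_iff]
    exact fun {u} _ hu => hyx (isConj_iff.2 ⟨u, hu⟩)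

/-- The class multiplication coefficient, in terms of characters. -/
theorem class_coeff [Fintype (Cfsg.IrrCharacter G)] (g h x : G) : ∃ t : ℕ,
    (Nat.card G : ℂ) * ∑ χ : Cfsg.IrrCharacter G,
        (χ : G → ℂ) g * (χ : G → ℂ) h * conj ((χ : G → ℂ) x) / (χ : G → ℂ) 1 =
      (cen g : ℂ) * (cen h : ℂ) * (t : ℂ) ∧
    ((∀ a b : G, (a * g * a⁻¹) * (b * h * b⁻¹) ≠ x) → t = 0) := by
  classical
  haveI := Fintype.ofFinite G
  set T := (Finset.univ : Finset (G × G)).filter fun p =>
    (p.1 * g * p.1⁻¹) * (p.2 * h * p.2⁻¹) = x with hT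
  -- the left side counts the pairs
  have hleft : (Nat.card G : ℂ) * ∑ χ : Cfsg.IrrCharacter G,
      (χ : G → ℂ) g * (χ : G → ℂ) h * conj ((χ : G → ℂ) x) / (χ : G → ℂ) 1 = (T.card : ℂ) := by
    rw [class_pairs g h x,
      show Nat.card {p : G × G // (p.1 * g * p.1⁻¹) * (p.2 * h * p.2⁻¹) = x} = T.card by
        rw [Nat.card_eq_fintype_card, Fintype.card_subtype]]
  -- closed under the centralizers
  set CC := (centralizer ({g} : Set G)).prod (centralizer ({h} : Set G)) with hCC
  have hinv : ∀ p ∈ T, ∀ c ∈ CC, p * c ∈ T := by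
    rintro ⟨a, b⟩ hp ⟨c, d⟩ hc
    simp only [hT, Finset.mem_filter, Finset.mem_univ, true_and, Prod.mk_mul_mk] at hp ⊢
    obtain ⟨h1, h2⟩ := Subgroup.mem_prod.1 hc
    rw [mem_centralizer_singleton_iff] at h1 h2
    rw [← hp]
    congr 1
    · calc a * c * g * (a * c)⁻¹ = a * (c * g) * c⁻¹ * a⁻¹ := by group
        _ = _ := by rw [h1]; group
    · calc b * d * h * (b * d)⁻¹ = b * (d * h) * d⁻¹ * b⁻¹ := by group
        _ = _ := by rw [h2]; group
  have hdiv : Nat.card CC ∣ T.card := by
    have hb : ∀ p : G × G, p ∈ T ↔ (QuotientGroup.mk p : (G × G) ⧸ CC) ∈ T.image QuotientGroup.mk := by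
      intro p
      refine ⟨fun hp => Finset.mem_image_of_mem _ hp, fun hp => ?_⟩
      obtain ⟨q, hq, hqp⟩ := Finset.mem_image.1 hp
      have := hinv q hq _ (QuotientGroup.eq.1 hqp)
      rwa [mul_inv_cancel_left] at this
    refine ⟨(T.image (QuotientGroup.mk : G × G → (G × G) ⧸ CC)).card, ?_⟩
    calc T.card = Nat.card {p // p ∈ T} := by simp
      _ = Nat.card {p : G × G // (QuotientGroup.mk p : (G × G) ⧸ CC) ∈ T.image QuotientGroup.mk} :=
          Nat.card_congr (Equiv.subtypeEquivRight hb)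
      _ = _ := by
          rw [show {p : G × G // (QuotientGroup.mk p : (G × G) ⧸ CC) ∈ T.image QuotientGroup.mk} =
            ↥((QuotientGroup.mk : G × G → (G × G) ⧸ CC) ⁻¹' ↑(T.image (QuotientGroup.mk : G × G → (G × G) ⧸ CC))) from rfl,
            Nat.card_congr (QuotientGroup.preimageMkEquivSubgroupProdSet CC _), Nat.card_prod]
          congr 1
          exact Nat.card_eq_card_toFinset _ |>.trans (by simp)
  obtain ⟨t, ht⟩ := hdiv
  refine ⟨t, ?_, fun hno => ?_⟩
  · rw [hleft, ht, Nat.cast_mul, hCC, Nat.card_congr (Subgroup.prodEquiv _ _).toEquiv, Nat.card_prod]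
    push_cast
    rfl
  · have h0 : T.card = 0 := Finset.card_eq_zero.2 (Finset.filter_eq_empty_iff.2 fun {p} _ => hno p.1 p.2)
    rw [h0] at ht
    rcases mul_eq_zero.1 ht.symm with h | h
    · exact absurd h Nat.card_pos.ne'
    · exact h

/-- Integral columns over a set of characters: the Cauchy inequality for the rest. -/
theorem cauchy_rest {g h : G} (hne : ¬ IsConj g h) (S : Finset (Cfsg.IrrCharacter G))
    (a b : Cfsg.IrrCharacter G → ℤ) (ha : ∀ χ ∈ S, (χ : G → ℂ) g = (a χ : ℂ))
    (hb : ∀ χ ∈ S, (χ : G → ℂ) h = (b χ : ℂ)) :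
    (∑ χ ∈ S, a χ * b χ) * (∑ χ ∈ S, a χ * b χ) ≤
        ((cen g : ℤ) - ∑ χ ∈ S, a χ * a χ) * ((cen h : ℤ) - ∑ χ ∈ S, b χ * b χ) ∧
      ∑ χ ∈ S, a χ * a χ ≤ (cen g : ℤ) := by
  classical
  haveI := Fintype.ofFinite (Cfsg.IrrCharacter G)
  have hsq : ∀ (k : G) (f : Cfsg.IrrCharacter G → ℤ), (∀ χ ∈ S, (χ : G → ℂ) k = (f χ : ℂ)) →
      ∑ χ ∈ Sᶜ, ‖(χ : G → ℂ) k‖ ^ 2 = (((cen k : ℤ) - ∑ χ ∈ S, f χ * f χ : ℤ) : ℝ) := by
    intro k f hf
    have h := second_orthogonality (G := G) k k
    rw [if_pos (IsConj.refl k), ← Finset.sum_add_sum_compl S,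
      Finset.sum_congr (s₁ := S) rfl (g := fun χ => ((f χ * f χ : ℤ) : ℂ)) fun χ hχ => by
        rw [hf χ hχ, map_intCast, Int.cast_mul]] at h
    simp only [Complex.mul_conj'] at h
    apply Complex.ofReal_injective
    push_cast at h ⊢
    linear_combination h
  have hg := hsq g a ha
  have hh := hsq h b hb
  refine ⟨?_, ?_⟩
  · have ho := second_orthogonality (G := G) g h
    rw [if_neg hne, ← Finset.sum_add_sum_compl S,
      Finset.sum_congr (s₁ := S) rfl (g := fun χ => ((a χ * b χ : ℤ) : ℂ)) fun χ hχ => by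
        rw [ha χ hχ, hb χ hχ, map_intCast, Int.cast_mul], ← Int.cast_sum] at ho
    set Z := ∑ χ ∈ S, a χ * b χ
    have h1 : ‖∑ χ ∈ Sᶜ, (χ : G → ℂ) g * conj ((χ : G → ℂ) h)‖ = |(Z : ℝ)| := by
      rw [show ∑ χ ∈ Sᶜ, (χ : G → ℂ) g * conj ((χ : G → ℂ) h) = -(Z : ℂ) by linear_combination ho,
        norm_neg, Complex.norm_intCast]
    have h2 : |(Z : ℝ)| ≤ ∑ χ ∈ Sᶜ, ‖(χ : G → ℂ) g‖ * ‖(χ : G → ℂ) h‖ := by
      rw [← h1]
      refine le_trans (_root_.norm_sum_le _ _) (Finset.sum_le_sum fun χ _ => ?_)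
      rw [norm_mul, Complex.norm_conj]
    have h3 := Finset.sum_mul_sq_le_sq_mul_sq Sᶜ (fun χ => ‖(χ : G → ℂ) g‖)
      fun χ => ‖(χ : G → ℂ) h‖
    rw [hg, hh] at h3
    have h4 : (Z : ℝ) * Z ≤ (∑ χ ∈ Sᶜ, ‖(χ : G → ℂ) g‖ * ‖(χ : G → ℂ) h‖) ^ 2 := by
      rw [← sq, ← sq_abs (Z : ℝ)]
      exact pow_le_pow_left₀ (abs_nonneg _) h2 2
    exact_mod_cast h4.trans h3
  · have h0 : (0 : ℝ) ≤ ∑ χ ∈ Sᶜ, ‖(χ : G → ℂ) g‖ ^ 2 := Finset.sum_nonneg fun _ _ => sq_nonneg _
    rw [hg] at h0
    have : (0 : ℤ) ≤ (cen g : ℤ) - ∑ χ ∈ S, a χ * a χ := by exact_mod_cast h0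
    omega

end Cfsg.Agent.M22Order
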