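import Cfsg.Agent.Lib.M12Order.TwoBasic
import Cfsg.Agent.Lib.M22Order.Tools
import Cfsg.Agent.Lib.M22Order.Params

/-!
# Simple groups of order 443520: basic facts
-/

set_option autoImplicit false
set_option linter.style.haveILetI false
set_option linter.unusedSectionVars false

namespace Cfsg.Agent.M22Order

open Subgroup
open Cfsg.Agent.Characters Cfsg.Agent.Blocks Cfsg.Agent.PrimeBlock
open Cfsg.Agent.SmallSimple
open Cfsg.Agent.M12Order (cen cls iv iv_eq)

universe u

variable {G : Type u} [Group G] [Finite G]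

instance fact7 : Fact (Nat.Prime 7) := ⟨by norm_num⟩

theorem sylow_centralizer_eq {p : ℕ} [Fact p.Prime] {P : Sylow p G}
    (hP : Nat.card (P : Subgroup G) = p) {x : G} (hx : x ∈ (P : Subgroup G)) (hx1 : x ≠ 1) :
    centralizer ({x} : Set G) = centralizer ((P : Subgroup G) : Set G) := by
  have hz : zpowers x = (P : Subgroup G) := Centralize.sylow_le_iff_mem hx hx1 hP
  rw [← hz, zpowers_eq_closure, centralizer_closure]

/-- An element commuting with an element of order `p` when the Sylow `p`-subgroup is its own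
centralizer. -/
theorem not_dvd_cen {p : ℕ} [Fact p.Prime]
    (hC : ∀ Q : Sylow p G, Nat.card (centralizer ((Q : Subgroup G) : Set G)) = p)
    (hP : ∀ Q : Sylow p G, Nat.card (Q : Subgroup G) = p) {g : G} (hg : g ≠ 1)
    (hgp : ¬ p ∣ orderOf g) : ¬ p ∣ cen g := by
  intro hd
  obtain ⟨⟨x, hxC⟩, hx⟩ := exists_prime_orderOf_dvd_card' (G := centralizer ({g} : Set G)) p hd
  rw [Subgroup.orderOf_mk] at hx
  obtain ⟨Q, hQ⟩ := (IsPGroup.of_card (p := p) (n := 1)
    (by rw [Nat.card_zpowers, hx, pow_one]) : IsPGroup p (zpowers x)).exists_le_sylow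
  have hxQ : x ∈ (Q : Subgroup G) := hQ (mem_zpowers x)
  have hx1 : x ≠ 1 := fun h => by
    rw [h, orderOf_one] at hx; exact (Fact.out : p.Prime).ne_one hx.symm
  have hgC : g ∈ centralizer ((Q : Subgroup G) : Set G) := by
    rw [← sylow_centralizer_eq (hP Q) hxQ hx1, mem_centralizer_singleton_iff]
    exact (mem_centralizer_singleton_iff.1 hxC).symm
  have h1 := orderOf_dvd_natCard (⟨g, hgC⟩ : centralizer ((Q : Subgroup G) : Set G))
  rw [Subgroup.orderOf_mk, hC Q] at h1
  rcases (Nat.dvd_prime (Fact.out : p.Prime)).1 h1 with h | h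
  · exact hg (orderOf_eq_one_iff.1 h)
  · exact hgp (h ▸ dvd_rfl)

/-- No product of two involutions has order `p` when `|N(P)|` is odd. -/
theorem mul_ne_of_odd_normalizer {p : ℕ} [Fact p.Prime] {P : Sylow p G}
    (hN : ¬ 2 ∣ Nat.card (normalizer ((P : Subgroup G) : Set G)))
    (hP : Nat.card (P : Subgroup G) = p) {x : G} (hx : x ∈ (P : Subgroup G)) (hx1 : x ≠ 1) {a b : G}
    (ha : orderOf a = 2) (hb : orderOf b = 2) : a * b ≠ x := by
  intro he
  refine hN ?_
  have hai : a⁻¹ = a := inv_eq_of_mul_eq_one_right (by rw [← sq, ← ha, pow_orderOf_eq_one])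
  have hbi : b⁻¹ = b := inv_eq_of_mul_eq_one_right (by rw [← sq, ← hb, pow_orderOf_eq_one])
  have hinv : a * x * a⁻¹ = x⁻¹ := by
    rw [← he, mul_inv_rev, hai, hbi]
    calc a * (a * b) * a = a * a * (b * a) := by group
      _ = b * a := by rw [show a * a = 1 by rw [← sq, ← ha, pow_orderOf_eq_one], one_mul]
  have hmem : a ∈ normalizer ((P : Subgroup G) : Set G) := by
    rw [← Centralize.sylow_le_iff_mem hx hx1 hP, mem_normalizer_iff]
    intro y
    simp only [mem_zpowers_iff]
    constructor
    · rintro ⟨k, rfl⟩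
      exact ⟨-k, by rw [← conj_zpow, hinv, inv_zpow']⟩
    · rintro ⟨k, hk⟩
      refine ⟨-k, ?_⟩
      rw [← inv_zpow', ← hinv, conj_zpow, hk]
      calc a * (a * y * a⁻¹) * a⁻¹ = (a * a) * y * (a * a)⁻¹ := by group
        _ = y := by rw [show a * a = 1 by rw [← sq, ← ha, pow_orderOf_eq_one]]; group
  have := orderOf_dvd_natCard (⟨a, hmem⟩ : normalizer ((P : Subgroup G) : Set G))
  rwa [Subgroup.orderOf_mk, ha] at this

/-- The number of Sylow `p`-subgroups of a subgroup, as an index. -/
theorem relIndex_mod {p : ℕ} [Fact p.Prime] (P : Sylow p G) (C : Subgroup G)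
    (hle : (P : Subgroup G) ≤ C) :
    (normalizer ((P : Subgroup G) : Set G)).relIndex C % p = 1 := by
  have hn : normalizer (((P.subtype hle : Sylow p C) : Subgroup C) : Set C) =
      (normalizer ((P : Subgroup G) : Set G)).subgroupOf C := by
    rw [Sylow.coe_subtype]
    ext g
    rw [mem_subgroupOf, mem_normalizer_iff, mem_normalizer_iff]
    refine ⟨fun h y => ⟨fun hy => ?_, fun hy => ?_⟩, fun h y => by
      simp only [mem_subgroupOf]; simpa using h (y : G)⟩
    · have := (h ⟨y, hle hy⟩).1 (by simpa [mem_subgroupOf] using hy)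
      simpa [mem_subgroupOf] using this
    · have hyC : y ∈ C := by
        have := C.mul_mem (C.mul_mem (C.inv_mem g.2) (hle hy)) g.2
        simpa [mul_assoc] using this
      have := (h ⟨y, hyC⟩).2 (by simpa [mem_subgroupOf] using hy)
      simpa [mem_subgroupOf] using this
  rw [Subgroup.relIndex, ← hn]
  refine (congrArg (· % p) (Sylow.card_eq_index_normalizer (P.subtype hle)).symm).trans ?_
  show Nat.card (Sylow p C) % p = 1
  rw [card_sylow_modEq_one p C, Nat.one_mod_eq_one]
  exact (Fact.out : p.Prime).ne_one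

section

variable [IsSimpleGroup G] (hcard : Nat.card G = 443520)

include hcard

theorem not_comm : ¬ IsMulCommutative G :=
  Basic.not_comm_of_not_prime (by rw [hcard]; norm_num)

theorem cen_dvd (g : G) : cen g ∣ 443520 := hcard ▸ card_subgroup_dvd_card _

theorem cen_mul_cls (g : G) : cen g * cls g = 443520 := hcard ▸ card_mul_index _

theorem deg_mem {χ : Cfsg.IrrCharacter G} (hne : χ ≠ trivIrr G) : deg χ ∈ degList := by
  have h1 : deg χ ≠ 1 := deg_ne_one (not_comm hcard) hne
  have h2 : 0 < deg χ := charDegree_pos χ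
  exact mem_degList (hcard ▸ char_degree_dvd_card χ) (by omega)
    (hcard ▸ deg_sq_lt hne)

theorem factorization_one {q : ℕ} (hq : q = 5 ∨ q = 7 ∨ q = 11) :
    (Nat.card G).factorization q = 1 := by
  haveI : Fact q.Prime := ⟨by rcases hq with rfl | rfl | rfl <;> norm_num⟩
  rw [hcard, Nat.factorization_def _ (Fact.out : q.Prime),
    show 443520 = q ^ 1 * (443520 / q) by rcases hq with rfl | rfl | rfl <;> norm_num,
    padicValNat.mul (pow_ne_zero _ (Fact.out : q.Prime).ne_zero)
      (by rcases hq with rfl | rfl | rfl <;> norm_num),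
    padicValNat.prime_pow, padicValNat.eq_zero_of_not_dvd
      (by rcases hq with rfl | rfl | rfl <;> norm_num)]

theorem factorization_three : (Nat.card G).factorization 3 = 2 := by
  rw [hcard, Nat.factorization_def _ Nat.prime_three, show 443520 = 3 ^ 2 * 49280 by norm_num,
    padicValNat.mul (by norm_num) (by norm_num), padicValNat.prime_pow,
    padicValNat.eq_zero_of_not_dvd (by norm_num)]

theorem zero_of_singular {q : ℕ} (hq : q = 5 ∨ q = 7 ∨ q = 11) (χ : Cfsg.IrrCharacter G)
    (hd : q ∣ deg χ) {g : G} (hg : q ∣ orderOf g) : (χ : G → ℂ) g = 0 :=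
  BlockCharsA.DefectZeroVanish.eq_zero_of_singular
    (by rcases hq with rfl | rfl | rfl <;> norm_num) χ
    (by rw [factorization_one hcard hq, pow_one]; exact hd) hg

theorem nine_zero (χ : Cfsg.IrrCharacter G) (hd : 9 ∣ deg χ) {g : G} (hg : 3 ∣ orderOf g) :
    (χ : G → ℂ) g = 0 :=
  BlockCharsA.DefectZeroVanish.eq_zero_of_singular Nat.prime_three χ
    (by rw [factorization_three hcard]; exact hd) hg

theorem card_sylow {q : ℕ} [Fact q.Prime] (hq : q = 5 ∨ q = 7 ∨ q = 11) (P : Sylow q G) :
    Nat.card (P : Subgroup G) = q := by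
  rw [Basic.card_sylow_eq, factorization_one hcard hq, pow_one]

theorem card_sylow_three (P : Sylow 3 G) : Nat.card (P : Subgroup G) = 9 := by
  rw [Basic.card_sylow_eq, factorization_three hcard]; norm_num

theorem card_sylow_two (P : Sylow 2 G) : Nat.card (P : Subgroup G) = 128 := by
  rw [Basic.card_sylow_eq_pow (a := 7) (m := 3465) (by rw [hcard]; norm_num) (by norm_num) P]
  norm_num

theorem exists_sylow_eq {q : ℕ} [Fact q.Prime] (hq : q = 5 ∨ q = 7 ∨ q = 11) {x : G}
    (hx : orderOf x = q) : ∃ P : Sylow q G, (P : Subgroup G) = zpowers x := by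
  obtain ⟨P, hP⟩ := (IsPGroup.of_card (p := q) (n := 1)
    (by rw [Nat.card_zpowers, hx, pow_one]) : IsPGroup q (zpowers x)).exists_le_sylow
  exact ⟨P, (eq_of_le_of_card_ge hP (by rw [Nat.card_zpowers, hx, card_sylow hcard hq P])).symm⟩

/-- The parameters of the normalizer of a Sylow subgroup of prime order. -/
theorem sylow_params {p : ℕ} [Fact p.Prime] (hp : p = 5 ∨ p = 7 ∨ p = 11) {P : Sylow p G}
    (D : PBlock P) : ∃ c : ℕ, Nat.card (centralizer ((P : Subgroup G) : Set G)) = p * c ∧
      Nat.card (normalizer ((P : Subgroup G) : Set G)) = p * c * D.e ∧ 2 ≤ D.e ∧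
      (D.e, c) ∈ ecList p (443520 / p) := by
  have hG := not_comm hcard
  have hP := card_sylow hcard hp P
  have hpp : p.Prime := Fact.out
  obtain ⟨x, hx1, hx⟩ := D.exists_ne_one
  have hpG : p ∣ Nat.card G := by rw [hcard]; rcases hp with rfl | rfl | rfl <;> norm_num
  set C := centralizer ((P : Subgroup G) : Set G)
  set N := normalizer ((P : Subgroup G) : Set G)
  have hPC : (P : Subgroup G) ≤ C := fun z hz => mem_centralizer_iff.2 fun y hy => by
    haveI : IsCyclic (P : Subgroup G) := isCyclic_of_prime_card hP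
    letI := IsCyclic.commGroup (α := (P : Subgroup G))
    exact congrArg Subtype.val (mul_comm (⟨y, hy⟩ : (P : Subgroup G)) ⟨z, hz⟩)
  obtain ⟨c, hc⟩ : p ∣ Nat.card C := hP ▸ card_dvd_of_le hPC
  have hCN : C ≤ N := centralizer_le_normalizer ..
  have hN : Nat.card N = p * c * D.e := by
    rw [← hc, ← D.he, Subgroup.relIndex, ← Nat.card_congr (subgroupOfEquivOfLe hCN).toEquiv,
      card_mul_index]
  have he2 : 2 ≤ D.e := by
    have h1 := D.e_pos
    by_contra hlt
    exact Basic.not_normalizer_le_centralizer hG hpG P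
      (relIndex_eq_one.1 (D.he.trans (show D.e = 1 by omega)))
  refine ⟨c, hc, hN, he2, ?_⟩
  have hdN : p * c * D.e ∣ 443520 := hN ▸ hcard ▸ card_subgroup_dvd_card N
  have hn := Basic.card_normalizer_mul P
  rw [hN, hcard] at hn
  have hm : 443520 / p = c * D.e * Nat.card (Sylow p G) := by
    rw [← hn]
    rw [show p * c * D.e * Nat.card (Sylow p G) = p * (c * D.e * Nat.card (Sylow p G)) by ring,
      Nat.mul_div_cancel_left _ hpp.pos]
  have hce : 0 < c * D.e := Nat.mul_pos (Nat.pos_of_ne_zero fun h => by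
    rw [h, mul_zero] at hc; exact Nat.card_pos.ne' hc) D.e_pos
  refine mem_ecList he2 D.e_lt D.e_dvd (((dvd_mul_left c p).trans (dvd_mul_right _ _)).trans hdN)
    ?_ (hm ▸ dvd_mul_right _ _) ?_ ?_
  · intro hd
    have h2 : p ^ 2 ∣ Nat.card G := by
      rw [pow_two]
      exact ((Nat.mul_dvd_mul_left p hd).trans (dvd_mul_right _ D.e)).trans (hN ▸ card_subgroup_dvd_card N)
    have := (hpp.pow_dvd_iff_le_factorization Nat.card_pos.ne').1 h2
    rw [factorization_one hcard hp] at this
    omega
  · rw [hm, Nat.mul_div_cancel_left _ hce, card_sylow_modEq_one p G,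
      Nat.one_mod_eq_one.2 hpp.ne_one]
  · rw [hm, Nat.mul_div_cancel_left _ hce]
    exact Basic.one_lt_card_sylow hG hpG

end

end Cfsg.Agent.M22Order
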