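import Cfsg.Agent.Lib.M22Order.Eleven

/-!
# Simple groups of order 443520: the blocks at 7 and 5, and class multiplication coefficients
-/

set_option autoImplicit false
set_option linter.style.haveILetI false
set_option linter.unusedSectionVars false

namespace Cfsg.Agent.M22Order

open Subgroup
open Cfsg.Agent.Characters Cfsg.Agent.Blocks Cfsg.Agent.PrimeBlock
open Cfsg.Agent.SmallSimple
open Cfsg.Agent.M12Order (cen cls iv iv_eq iv_spec)
open scoped ComplexConjugate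

universe u

variable {G : Type u} [Group G] [Finite G]

section

variable {p : ℕ} [Fact p.Prime] {P : Sylow p G} {D : PBlock P}

/-- If `|C(P)| = p`, the degrees of the characters outside the principal block are divisible by `p`. -/
theorem dvd_deg_of_notMem (hC : Nat.card (centralizer ((P : Subgroup G) : Set G)) = p)
    {χ : Cfsg.IrrCharacter G} (hχ : χ ∉ Cfsg.principalBlock D.M G) : p ∣ deg χ := by
  obtain ⟨x, hx1, hx⟩ := D.exists_ne_one
  have h0 := D.eq_zero_of_notMem hC hχ hx hx1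
  have hc := char_cong_of_commute D.hM χ (Commute.one_right x) (k := 1)
    (by rw [pow_one, D.x_pow hx]) (not_dvd_one (G := G))
  rw [mul_one, h0, ← deg_cast] at hc
  exact (ideal_natCast_iff D.hM _).1 (cong_zero_iff.1 (cong_symm D.hM hc))

theorem PRow.mem_all_of_not_dvd (R : PRow D)
    (hC : Nat.card (centralizer ((P : Subgroup G) : Set G)) = p) {χ : Cfsg.IrrCharacter G}
    (hne : χ ≠ trivIrr G) (hd : ¬ p ∣ deg χ) : χ ∈ R.all :=
  (R.mem χ).2 ⟨not_not.1 fun h => hd (dvd_deg_of_notMem hC h), hne⟩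

/-- The triple sum for a rational column, as an integer. -/
theorem triple_eq [Fintype (Cfsg.IrrCharacter G)] (R : PRow D) (hcard : Nat.card G = 443520)
    (hC : Nat.card (centralizer ((P : Subgroup G) : Set G)) = p) {g : G}
    {f : Cfsg.IrrCharacter G → ℤ} (hf : ∀ χ ∈ R.all, (χ : G → ℂ) g = (f χ : ℂ)) (hrel : R.RelV f)
    {x : G} (hx : x ∈ (P : Subgroup G)) (hx1 : x ≠ 1) :
    (Nat.card G : ℂ) * ∑ χ : Cfsg.IrrCharacter G,
        (χ : G → ℂ) g * (χ : G → ℂ) g * conj ((χ : G → ℂ) x) / (χ : G → ℂ) 1 =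
      (quad R.M (R.us f) : ℂ) := by
  classical
  set T : Cfsg.IrrCharacter G → ℂ := fun χ =>
    (χ : G → ℂ) g * (χ : G → ℂ) g * conj ((χ : G → ℂ) x) / (χ : G → ℂ) 1 with hT
  show _ * ∑ χ, T χ = _
  have htriv : trivIrr G ∉ R.all := fun h => R.ne_triv h rfl
  rw [← Finset.sum_subset (Finset.subset_univ (insert (trivIrr G) R.all.toFinset)) fun χ _ hχ => by
      rw [Finset.mem_insert, List.mem_toFinset, not_or] at hχ
      have hnb : χ ∉ Cfsg.principalBlock D.M G := fun hb => hχ.2 ((R.mem χ).2 ⟨hb, hχ.1⟩)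
      simp [hT, D.eq_zero_of_notMem hC hnb hx hx1],
    Finset.sum_insert (by simpa using htriv), Row.all, List.sum_toFinset _ R.nodup]
  have hT1 : T (trivIrr G) = 1 := by simp [hT, trivIrr_coe]
  rw [hT1, List.map_append, List.sum_append, mul_add, mul_one, mul_add]
  have hdeg0 : ∀ χ : Cfsg.IrrCharacter G, (deg χ : ℂ) ≠ 0 := fun χ =>
    Nat.cast_ne_zero.2 (charDegree_pos χ).ne'
  have hord : (ord : ℂ) = (Nat.card G : ℂ) := by rw [hcard]; norm_num [ord]
  have hdvd : ∀ χ : Cfsg.IrrCharacter G, ((deg χ : ℕ) : ℤ) ∣ ord := fun χ => by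
    show ((deg χ : ℕ) : ℤ) ∣ ((443520 : ℕ) : ℤ)
    exact Int.natCast_dvd_natCast.2 (hcard ▸ char_degree_dvd_card χ)
  have hcs : (Nat.card G : ℂ) * (R.cs.map T).sum =
      (((List.zipWith (fun z u => ord / z * (u * u)) R.M (R.us f)).sum : ℤ) : ℂ) := by
    rw [← List.sum_map_mul_left, Row.M, Row.us, List.zipWith_map, List.zipWith_self, Int.cast_list_sum,
      List.map_map]
    refine congrArg List.sum (List.map_congr_left fun χ hχ => ?_)
    have hm : χ ∈ R.all := List.mem_append_left _ hχ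
    rw [Function.comp_apply, hT]
    simp only
    rw [hf χ hm, R.val_cs χ hχ x hx hx1, map_intCast, ← deg_cast, ← hord]
    have hz : R.w χ * (deg χ : ℤ) ∣ ord := by
      rcases R.w_eq χ hχ with e | e <;> rw [e]
      · simpa using hdvd χ
      · simpa using hdvd χ
    rw [Int.cast_mul, Int.cast_div hz (by
      rcases R.w_eq χ hχ with e | e <;> rw [e] <;> simpa using hdeg0 χ)]
    have := hdeg0 χ
    rcases R.w_eq χ hχ with e | e <;> rw [e] <;> push_cast <;> field_simp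
  obtain ⟨θ₀, hθ₀⟩ := List.exists_mem_of_ne_nil _ R.ys_ne
  have hδ : R.δ * R.δ = 1 := by rcases R.δ_eq with e | e <;> simp [e]
  have hys : (R.ys.map T).sum =
      (f θ₀ : ℂ) * (f θ₀ : ℂ) / (deg θ₀ : ℂ) * -(R.δ : ℂ) := by
    have hsame : ∀ θ ∈ R.ys, T θ =
        (f θ₀ : ℂ) * (f θ₀ : ℂ) / (deg θ₀ : ℂ) * conj ((θ : G → ℂ) x) := by
      intro θ hθ
      have e1 : f θ = f θ₀ := by
        have a1 := congrArg (R.δ * ·) ((hrel θ hθ).trans (hrel θ₀ hθ₀).symm)
        simpa only [← mul_assoc, hδ, one_mul] using a1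
      have e2 : (deg θ : ℤ) = (deg θ₀ : ℤ) := by
        have a1 := congrArg (R.δ * ·) ((R.rel θ hθ).trans (R.rel θ₀ hθ₀).symm)
        simpa only [← mul_assoc, hδ, one_mul] using a1
      rw [hT]
      simp only
      rw [hf θ (List.mem_append_right _ hθ), e1, ← deg_cast, show deg θ = deg θ₀ by exact_mod_cast e2]
      ring
    rw [List.map_congr_left hsame, List.sum_map_mul_left,
      show (R.ys.map fun θ : Cfsg.IrrCharacter G => conj ((θ : G → ℂ) x)).sum =
        conj (R.ys.map fun θ : Cfsg.IrrCharacter G => (θ : G → ℂ) x).sum by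
          rw [map_list_sum, List.map_map]; rfl,
      R.val_ys x hx hx1, map_neg, map_intCast]
  have hF := (R.rel θ₀ hθ₀).symm
  have hW := (hrel θ₀ hθ₀).symm
  rw [hcs, hys, quad]
  rw [show 1 + R.M.sum = R.δ * (deg θ₀ : ℤ) from hF, hW]
  have hz : R.δ * (deg θ₀ : ℤ) ∣ ord := by
    rcases R.δ_eq with e | e <;> rw [e] <;> simpa using hdvd θ₀
  have hne : R.δ * (deg θ₀ : ℤ) ≠ 0 := mul_ne_zero (by rcases R.δ_eq with e | e <;> simp [e])
    (Int.natCast_ne_zero.2 (charDegree_pos θ₀).ne')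
  obtain ⟨k, hk⟩ := hz
  have hq : ord / (R.δ * (deg θ₀ : ℤ)) = k := by rw [hk, Int.mul_ediv_cancel_left _ hne]
  have hk' : (ord : ℂ) = (R.δ : ℂ) * (deg θ₀ : ℂ) * (k : ℂ) := by rw [hk]; push_cast; ring
  rw [hq, ← hord]
  push_cast
  rw [hk']
  have := hdeg0 θ₀
  have hδ' : (R.δ : ℂ) * (R.δ : ℂ) = 1 := by exact_mod_cast hδ
  field_simp
  ring

end

section

variable [IsSimpleGroup G] (hcard : Nat.card G = 443520)

include hcard

/-- The class multiplication coefficient of a class with itself into `P`. -/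
theorem quad_eq {p : ℕ} [Fact p.Prime] {P : Sylow p G} {D : PBlock P} (R : PRow D)
    (hC : Nat.card (centralizer ((P : Subgroup G) : Set G)) = p) {g : G}
    {f : Cfsg.IrrCharacter G → ℤ} (hf : ∀ χ ∈ R.all, (χ : G → ℂ) g = (f χ : ℂ)) (hrel : R.RelV f) :
    ∃ t : ℕ, quad R.M (R.us f) = (cen g : ℤ) * (cen g : ℤ) * (t : ℤ) ∧
      ((∀ x ∈ (P : Subgroup G), x ≠ 1 → ∀ a b : G, (a * g * a⁻¹) * (b * g * b⁻¹) ≠ x) → t = 0) := by
  haveI := Fintype.ofFinite (Cfsg.IrrCharacter G)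
  obtain ⟨x, hx1, hx⟩ := D.exists_ne_one
  obtain ⟨t, ht, ht0⟩ := class_coeff g g x
  rw [triple_eq R hcard hC hf hrel hx hx1] at ht
  exact ⟨t, by exact_mod_cast ht, fun h => ht0 (h x hx hx1)⟩

theorem quad_iv_ok {p : ℕ} [Fact p.Prime] {P : Sylow p G} {D : PBlock P} (R : PRow D) (hp : p ≠ 2)
    (hC : Nat.card (centralizer ((P : Subgroup G) : Set G)) = p) {t : G} (ht : orderOf t = 2) :
    ¬ quad R.M (R.us (iv t)) < 0 ∧ quad R.M (R.us (iv t)) % ((cen t : ℤ) * (cen t : ℤ)) = 0 ∧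
      (¬ 2 ∣ Nat.card (normalizer ((P : Subgroup G) : Set G)) → quad R.M (R.us (iv t)) = 0) := by
  have hG := not_comm hcard
  have hp2 : ¬ p ∣ orderOf t := by
    rw [ht]; exact fun hd => hp ((Nat.prime_dvd_prime_iff_eq Fact.out Nat.prime_two).1 hd)
  have hf : ∀ χ ∈ R.all, (χ : G → ℂ) t = (iv t χ : ℂ) := fun χ _ => iv_spec hG ht χ
  obtain ⟨k, hk, hk0⟩ := quad_eq hcard R hC hf (R.relV hp2 hf)
  refine ⟨?_, ?_, fun hN => ?_⟩
  · rw [hk]; exact not_lt.2 (by positivity)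
  · rw [hk]; exact Int.emod_eq_zero_of_dvd (dvd_mul_right _ _)
  · rw [hk, hk0 fun x hx hx1 a b => mul_ne_of_odd_normalizer hN D.card_P hx hx1
      ((MulEquiv.orderOf_eq (MulAut.conj a) t).trans ht)
      ((MulEquiv.orderOf_eq (MulAut.conj b) t).trans ht)]
    simp

/-- A common member of two principal blocks, seen at an involution. -/
theorem commonOK_iv {p q : ℕ} [Fact p.Prime] [Fact q.Prime] (hqp : q ≠ p) (hqG : q ∣ Nat.card G)
    (hq2 : q ≠ 2) {P : Sylow p G} {D : PBlock P} (R : PRow D)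
    (hqC : ¬ q ∣ Nat.card (centralizer ((P : Subgroup G) : Set G))) {Q : Sylow q G} (E : PBlock Q)
    (hQC : Nat.card (centralizer ((Q : Subgroup G) : Set G)) ≠ q) {t : G} (ht : orderOf t = 2)
    (htQ : t ∈ centralizer ((Q : Subgroup G) : Set G)) :
    commonOK q (R.all.map fun χ => (deg χ, iv t χ)) = true := by
  have hG := not_comm hcard
  obtain ⟨χ, h1, h2, hne, hnd, -⟩ := D.exists_common hG (Fact.out : q.Prime) hqp hqG hqC E.hM
  have hm : χ ∈ R.all := (R.mem χ).2 ⟨h1, hne⟩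
  refine List.any_eq_true.2 ⟨_, List.mem_map.2 ⟨χ, hm, rfl⟩, ?_⟩
  have hbig : 2 * q ≤ deg χ := by
    by_contra hlt
    exact hQC (card_centralizer_of_lt_two_mul hG E h2 hne (by omega))
  have hcong := block_cong E h2 htQ
    (by rw [ht]; exact fun hd => hq2 ((Nat.prime_dvd_prime_iff_eq Fact.out Nat.prime_two).1 hd))
    (iv_spec hG ht χ)
  simp only [Bool.and_eq_true, bne_iff_ne, ne_eq, decide_eq_true_eq, beq_iff_eq]
  exact ⟨⟨fun h => hnd (Nat.dvd_of_mod_eq_zero h), hbig⟩, Int.emod_eq_zero_of_dvd hcong⟩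

/-- The Sylow 7-subgroups. -/
theorem sylow_seven (Q : Sylow 7 G) (E : PBlock Q) (ht : trivIrr G ∈ E.X)
    (hts : E.sgn (trivIrr G) = 1) :
    (E.e = 3 ∧ Nat.card (centralizer ((Q : Subgroup G) : Set G)) = 7 ∧
      Nat.card (normalizer ((Q : Subgroup G) : Set G)) = 21) ∨
    ∃ c : ℕ, (E.e, c) ∈ ec7 ∧ Nat.card (centralizer ((Q : Subgroup G) : Set G)) = 7 * c ∧
      Nat.card (normalizer ((Q : Subgroup G) : Set G)) = 7 * c * E.e := by
  classical
  have hq : (7 : ℕ) = 5 ∨ (7 : ℕ) = 7 ∨ (7 : ℕ) = 11 := by omega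
  obtain ⟨c, hc, hN, he2, hmem⟩ := sylow_params hcard hq E
  have hpc := p_not_dvd_c hcard hq hc
  have h11 : c % 11 ≠ 0 := by
    intro h
    obtain ⟨x, hx1, hx⟩ := E.exists_ne_one
    have hox := E.orderOf_eq hx hx1
    refine not_dvd_cen_eleven hcard hx1 (by rw [hox]; norm_num) ?_
    rw [cen, sylow_centralizer_eq E.card_P hx hx1, hc]
    exact (Nat.dvd_of_mod_eq_zero h).mul_left 7
  obtain ⟨R, hR⟩ := exists_prow hcard hq ht hts hc hpc (candList 7 c) fun χ _ _ s _ h => h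
  have key := List.all_eq_true.1 ec_seven (E.e, c) hmem
  simp only [Bool.or_eq_true, beq_iff_eq, Prod.mk.injEq, List.isEmpty_iff, List.contains_iff_mem] at key
  rcases key with ((h | ⟨he, hc1⟩) | h) | h
  · exact absurd h h11
  · left
    rw [hc1] at hc hN; rw [he] at hN
    exact ⟨he, hc, hN⟩
  · exact Or.inr ⟨c, h, hc, hN⟩
  · rw [rows] at h; rw [h] at hR; exact absurd hR (by simp)

theorem five_not_dvd_centralizer_seven (Q : Sylow 7 G) :
    ¬ 5 ∣ Nat.card (centralizer ((Q : Subgroup G) : Set G)) := by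
  obtain ⟨E, ht, hts⟩ := exists_pblock' (not_comm hcard) (by norm_num) Q
    (card_sylow hcard (Or.inr (Or.inl rfl)) Q)
  rcases sylow_seven hcard Q E ht hts with ⟨-, h, -⟩ | ⟨c, hc, h, -⟩ <;> rw [h]
  · norm_num
  · simp only [ec7, List.mem_cons, List.not_mem_nil, or_false, Prod.mk.injEq] at hc
    rcases hc with ⟨-, rfl⟩ | ⟨-, rfl⟩ | ⟨-, rfl⟩ | ⟨-, rfl⟩ | ⟨-, rfl⟩ | ⟨-, rfl⟩ <;> norm_num

/-- The Sylow 5-subgroups. -/
theorem sylow_five (P : Sylow 5 G) (D : PBlock P) :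
    (D.e = 4 ∧ Nat.card (centralizer ((P : Subgroup G) : Set G)) = 5 ∧
      Nat.card (normalizer ((P : Subgroup G) : Set G)) = 20) ∨
    ∃ c : ℕ, 2 ∣ c ∧ Nat.card (centralizer ((P : Subgroup G) : Set G)) = 5 * c ∧
      (c * c ∣ 17472 → D.e = 2 ∧ c = 2) := by
  classical
  have hq : (5 : ℕ) = 5 ∨ (5 : ℕ) = 7 ∨ (5 : ℕ) = 11 := by omega
  obtain ⟨c, hc, hN, he2, hmem⟩ := sylow_params hcard hq D
  obtain ⟨x, hx1, hx⟩ := D.exists_ne_one
  have hox := D.orderOf_eq hx hx1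
  have hcen : cen x = 5 * c := by rw [cen, sylow_centralizer_eq D.card_P hx hx1, hc]
  have h11 : c % 11 ≠ 0 := by
    intro h
    refine not_dvd_cen_eleven hcard hx1 (by rw [hox]; norm_num) ?_
    rw [hcen]
    exact (Nat.dvd_of_mod_eq_zero h).mul_left 5
  have h7 : c % 7 ≠ 0 := by
    intro h
    obtain ⟨⟨y, hyC⟩, hy⟩ := exists_prime_orderOf_dvd_card' (G := centralizer ({x} : Set G)) 7
      (by change 7 ∣ cen x; rw [hcen]; exact (Nat.dvd_of_mod_eq_zero h).mul_left 5)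
    rw [Subgroup.orderOf_mk] at hy
    obtain ⟨Q, hQ⟩ := exists_sylow_eq hcard (q := 7) (Or.inr (Or.inl rfl)) hy
    refine five_not_dvd_centralizer_seven hcard Q ?_
    have hxQ : x ∈ centralizer ((Q : Subgroup G) : Set G) := by
      rw [hQ, zpowers_eq_closure, centralizer_closure, mem_centralizer_singleton_iff]
      exact (mem_centralizer_singleton_iff.1 hyC).symm
    have h5 := orderOf_dvd_natCard (⟨x, hxQ⟩ : centralizer ((Q : Subgroup G) : Set G))
    rwa [Subgroup.orderOf_mk, hox] at h5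
  have key := List.all_eq_true.1 ec_five (D.e, c) hmem
  simp only [Bool.or_eq_true, Bool.and_eq_true, beq_iff_eq, Prod.mk.injEq, bne_iff_ne, ne_eq] at key
  rcases key with ((h | h) | ⟨he, hc1⟩) | ⟨h2, h⟩
  · exact absurd h h11
  · exact absurd h h7
  · left
    rw [hc1] at hc hN; rw [he] at hN
    exact ⟨he, hc, hN⟩
  · exact Or.inr ⟨c, Nat.dvd_of_mod_eq_zero h2, hc, fun hd =>
      h.resolve_left (fun h' => h' (Nat.mod_eq_zero_of_dvd hd))⟩

end

end Cfsg.Agent.M22Order
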