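import Cfsg.Agent.Lib.M22Order.Data

/-!
# The possible rows for the primes 11, 7 and 5
-/

set_option autoImplicit false
set_option maxHeartbeats 4000000

namespace Cfsg.Agent.M22Order

/-- Signed degrees at 11. -/
def cand11 : List ℤ := [
    -10, 12, -21, -32, 45, 56, -120, 144, 210, -252, 320, -384, -560]

/-- Signed degrees at 7. -/
def cand7 : List ℤ := [
    -6, 8, 15, -20, 22, 36, -48, -55, 64, -90, 99, 120, -132, -160, 176, 288, 330, -384, -440]

/-- Signed degrees at 5. -/
def cand5 : List ℤ := [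
    -4, 6, -9, 11, -14, 16, 21, -24, 36, -44, 56, -64, 66, -84, 96, -99, 126, -144, -154, 176,
    -224, 231, -264, 336, -384, 396, -504, 576, 616]

/-- The rows at 11. -/
def rows11 : List (List ℤ) := [
    [-252, 320, 320, -384], [210, -252, 320, -384], [144, 210, 210, -560],
    [56, -120, -252, 320], [56, -120, 210, -252], [56, 56, 144, -252], [45, 210, 320, -384],
    [45, 144, 320, -384], [45, 144, 210, -560], [45, 144, 210, -384], [45, -120, -252, 320],
    [45, -120, 144, 210], [45, -120, -120, 320], [45, -120, -120, 210], [45, 56, 210, -384],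
    [45, 56, 210, -252], [45, 56, 144, -252], [45, 56, -120, 210], [45, 56, -120, 144],
    [45, 45, 56, -252], [45, 45, 45, 144], [45, 45, 45, -120], [45, 45, 45, 56],
    [-32, 210, 210, -384], [-32, 144, 144, -252], [-32, 45, 210, -384], [-32, 45, 210, -252],
    [-32, 45, 56, 210], [-32, 45, 56, 56], [-32, -32, -252, 320], [-32, -32, 210, -252],
    [-32, -32, 45, 210], [-32, -32, 45, 144], [-21, 210, 320, -384], [-21, 210, 210, -384],
    [-21, 144, 320, -384], [-21, 144, -252, 320], [-21, 144, 144, -252],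
    [-21, -120, -252, 320], [-21, -120, 210, 210], [-21, -120, -120, 320],
    [-21, 56, 320, -384], [-21, 56, 210, -252], [-21, 56, 144, -252], [-21, 56, -120, -252],
    [-21, 56, -120, 210], [-21, 56, -120, 144], [-21, 56, 56, -252], [-21, 56, 56, -120],
    [-21, 45, 45, 210], [-21, 45, 45, 56], [-21, -32, -252, 320], [-21, -32, 144, -252],
    [-21, -32, -120, 144], [-21, -32, 56, 56], [-21, -32, -32, -252], [-21, -32, -32, 210],
    [-21, -32, -32, 144], [-21, -32, -32, 56], [-21, -21, 320, -384], [-21, -21, 56, -120],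
    [-21, -21, 45, 56], [-21, -21, -32, 45], [-21, -21, -32, -32], [-21, -21, -21, 56],
    [12, 56, 320, -384], [12, 56, 210, -384], [12, 56, 56, -120], [12, 45, 320, -384],
    [12, 45, -252, 320], [12, 45, 210, -252], [12, 45, 56, -120], [12, -32, -120, 144],
    [12, -32, -32, 56], [12, -32, -32, 45], [12, -21, 320, -384], [12, -21, -252, 320],
    [12, -21, 144, 144], [12, -21, -120, 320], [12, -21, -120, 144], [12, -21, 56, -384],
    [12, -21, 56, 144], [12, -21, 56, -120], [12, -21, -32, 320], [12, -21, -32, -120],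
    [12, -21, -32, 56], [12, -21, -32, 45], [12, -21, -32, -32], [12, -21, -21, 45],
    [12, 12, 45, 210], [12, 12, 45, 56], [12, 12, -21, 56], [12, 12, -21, -32],
    [12, 12, 12, -32], [12, 12, 12, -21], [-10, 144, 144, -384], [-10, -120, -120, 144],
    [-10, 56, 210, -252], [-10, 45, 320, -384], [-10, 45, 210, -252], [-10, 45, 144, -252],
    [-10, 45, -120, -252], [-10, 45, -120, 210], [-10, 45, -120, 144], [-10, 45, 56, -252],
    [-10, 45, 56, -120], [-10, 45, 45, 45], [-10, -32, 320, -384], [-10, -32, 56, -120],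
    [-10, -32, 45, 56], [-10, -32, -32, 45], [-10, -32, -32, -32], [-10, -21, 210, -252],
    [-10, -21, -120, 210], [-10, -21, -120, 144], [-10, -21, 45, -120], [-10, -21, 45, 45],
    [-10, -21, -32, 56], [-10, -21, -21, 56], [-10, -21, -21, 45], [-10, -21, -21, -21],
    [-10, 12, 144, -252], [-10, 12, 45, -384], [-10, 12, 45, 144], [-10, 12, 45, -120],
    [-10, 12, -32, 45], [-10, 12, -21, 210], [-10, 12, -21, 144], [-10, 12, 12, -120],
    [-10, 12, 12, 45], [-10, 12, 12, -21], [-10, -10, -120, 144], [-10, -10, -32, 56],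
    [-10, -10, -32, 45], [-10, -10, -21, 320], [-10, -10, -21, -120], [-10, -10, -21, 56],
    [-10, -10, -21, 45], [-10, -10, -21, -32], [-10, -10, 12, -21], [-10, -10, 12, 12],
    [-10, -10, -10, 45]]

/-- The rows at 7 if `|C(P₇)| = 7`. -/
def rows7 : List (List ℤ) := [
    [-132, 176], [120, -132], [99, -160], [99, -132], [99, 120], [-90, 99], [-55, 120],
    [-55, 99], [-55, -90], [-55, 64], [36, -55], [36, -48], [22, -55], [22, 22], [-20, 99],
    [-20, 64], [-20, 22], [15, 176], [15, -160], [15, 64], [15, -48], [15, -20], [8, 36],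
    [8, -20], [8, 15], [-6, -160], [-6, -55], [-6, 15], [-6, 8], [-6, -6]]

/-- The rows at 5 if `|C(P₅)| = 5`. -/
def rows5 : List (List ℤ) := [
    [-144, 176, 231], [-99, -144, -154], [-99, 126, 126], [96, 176, 231], [-84, -99, -154],
    [66, -144, -154], [66, -99, -144], [-64, 231, 336], [-64, 96, 231], [-64, -84, -84],
    [-64, 66, 96], [56, -144, -144], [56, 96, 231], [56, -84, -99], [56, -64, -224],
    [-44, -44, -144], [36, -64, -99], [36, -44, -224], [-24, 176, 231], [-24, -64, -144],
    [-24, 56, 231], [-24, 56, 66], [21, -154, -264], [21, -99, -154], [21, -99, -99],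
    [21, 66, 176], [21, 66, 66], [21, -64, -84], [21, 56, 66], [21, -44, -154],
    [21, -44, -44], [21, 36, 96], [21, -24, -64], [21, 21, 56], [21, 21, 21], [16, -44, -99],
    [16, -24, -224], [16, 16, 231], [16, 16, 66], [-14, -99, -224], [-14, -64, -154],
    [-14, -64, -99], [-14, 56, 56], [-14, 21, 56], [-14, 21, 36], [-14, 16, 96],
    [-14, 16, 21], [-14, -14, -99], [11, -144, -264], [11, 126, 126], [11, -99, -144],
    [11, 96, 396], [11, -84, -264], [11, 66, 66], [11, -44, -144], [11, -44, -64],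
    [11, 36, 336], [11, 36, 176], [11, 36, 96], [11, 36, 36], [11, -24, -384], [11, -24, -84],
    [11, -24, -44], [11, -24, -24], [11, 21, 231], [11, 21, 66], [11, 16, 126], [11, 16, 56],
    [11, 16, 36], [11, 16, 16], [11, -14, -64], [11, -14, -14], [11, 11, 21], [-9, 176, 336],
    [-9, 96, 176], [-9, -84, -84], [-9, 66, 96], [-9, -64, -264], [-9, 56, 336],
    [-9, 56, 176], [-9, 56, 96], [-9, -44, -44], [-9, 36, 126], [-9, 36, 56], [-9, 36, 36],
    [-9, -24, -144], [-9, -24, -64], [-9, -24, -24], [-9, 16, 56], [-9, 16, 36], [-9, 16, 16],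
    [-9, -14, -154], [-9, -14, -44], [-9, -14, -14], [-9, 11, 96], [-9, 11, 21], [-9, 11, 11],
    [6, -84, -154], [6, -84, -99], [6, 36, 56], [6, 21, 126], [6, 21, 56], [6, 21, 36],
    [6, 16, 21], [6, -14, -224], [6, -14, -14], [6, 11, 126], [6, 11, 66], [6, -9, -64],
    [6, -9, -14], [6, -9, -9], [6, 6, 11], [-4, -84, -144], [-4, 36, 231], [-4, 36, 66],
    [-4, -24, -99], [-4, 21, 126], [-4, 21, 66], [-4, 11, 56], [-4, 11, 36], [-4, 11, 16],
    [-4, -9, -384], [-4, -9, -84], [-4, -9, -44], [-4, -9, -24], [-4, -9, -9], [-4, 6, 96],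
    [-4, 6, 21], [-4, 6, 11], [-4, 6, 6], [-4, -4, -224], [-4, -4, -14], [-4, -4, -9],
    [-4, -4, -4]]

theorem cand11_eq : candList 11 1 = cand11 := by decide +kernel

theorem cand7_eq : candList 7 1 = cand7 := by decide +kernel

theorem cand5_eq : candList 5 1 = cand5 := by decide +kernel

theorem rows11_eq : rowsIn cand11 11 5 1 = rows11 := by decide +kernel

theorem rows7_eq : rowsIn cand7 7 3 1 = rows7 := by decide +kernel

theorem rows5_eq : rowsIn cand5 5 4 1 = rows5 := by decide +kernel

end Cfsg.Agent.M22Order
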