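import Cfsg.Agent.Lib.M22Order.Scan
import Cfsg.Agent.Lib.M22Order.Rows

/-!
# `|C(P₅)| ≠ 5` and `|C(P₇)| ≠ 7` do not both occur
-/

set_option autoImplicit false
set_option Elab.async false

namespace Cfsg.Agent.M22Order

theorem scanA0 : (((rows11.drop 0).take 36).all fun M => !(hasCommon M 7 cs7) || !(hasCommon M 5 cs5) || !(hasVec M cs128)) = true := by decide +kernel

theorem scanA1 : (((rows11.drop 36).take 36).all fun M => !(hasCommon M 7 cs7) || !(hasCommon M 5 cs5) || !(hasVec M cs128)) = true := by decide +kernel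

theorem scanA2 : (((rows11.drop 72).take 36).all fun M => !(hasCommon M 7 cs7) || !(hasCommon M 5 cs5) || !(hasVec M cs128)) = true := by decide +kernel

theorem scanA3 : (((rows11.drop 108).take 142).all fun M => !(hasCommon M 7 cs7) || !(hasCommon M 5 cs5) || !(hasVec M cs128)) = true := by decide +kernel

theorem scanA : ∀ M ∈ rows11, (!(hasCommon M 7 cs7) || !(hasCommon M 5 cs5) || !(hasVec M cs128)) = true := by
  intro M hM
  obtain ⟨i, hi, rfl⟩ := List.mem_iff_getElem.1 hM
  have hlen : rows11.length = 142 := by decide +kernel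
  have key : ∀ (a k : ℕ) (f : List ℤ → Bool), ((rows11.drop a).take k).all f = true → a ≤ i → i < a + k →
      f rows11[i] = true := fun a k f h ha hk => List.all_eq_true.1 h _
    (List.mem_iff_getElem.2 ⟨i - a, by simp only [List.length_take, List.length_drop]; omega,
      by simp only [List.getElem_take, List.getElem_drop]; congr 1; omega⟩)
  by_cases h0 : i < 36
  · exact key 0 36 (fun M => !(hasCommon M 7 cs7) || !(hasCommon M 5 cs5) || !(hasVec M cs128)) scanA0 (by omega) (by omega)
  by_cases h1 : i < 72
  · exact key 36 36 (fun M => !(hasCommon M 7 cs7) || !(hasCommon M 5 cs5) || !(hasVec M cs128)) scanA1 (by omega) (by omega)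
  by_cases h2 : i < 108
  · exact key 72 36 (fun M => !(hasCommon M 7 cs7) || !(hasCommon M 5 cs5) || !(hasVec M cs128)) scanA2 (by omega) (by omega)
  exact key 108 142 (fun M => !(hasCommon M 7 cs7) || !(hasCommon M 5 cs5) || !(hasVec M cs128)) scanA3 (by omega) (by omega)

end Cfsg.Agent.M22Order
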