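import Cfsg.Agent.Lib.M22Order.Blocks
import Cfsg.Agent.Lib.M22Order.ScanA
import Cfsg.Agent.Lib.M22Order.ScanI
import Cfsg.Agent.Lib.M22Order.ScanII
import Cfsg.Agent.Lib.M22Order.ScanIV

/-!
# Simple groups of order 443520: Sylow subgroups for 5, 7, 11 are their own centralizers
-/

set_option autoImplicit false
set_option linter.style.haveILetI false
set_option linter.unusedSectionVars false

namespace Cfsg.Agent.M22Order

open Subgroup
open Cfsg.Agent.Characters Cfsg.Agent.Blocks Cfsg.Agent.PrimeBlock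
open Cfsg.Agent.SmallSimple
open Cfsg.Agent.M12Order (cen cls iv iv_eq iv_spec exists_central_inv)

universe u

theorem mem_cs5 : (divs.all fun C => (C % 10 != 0) || (C % 11 == 0) || cs5.contains C) = true := by
  decide +kernel

theorem mem_cs2 :
    (divs.all fun C => (C % 2 != 0) || (C % 5 == 0) || (C % 7 == 0) || (C % 11 == 0) ||
      cs2.contains C) = true := by
  decide +kernel

theorem mem_cs128 : (divs.all fun C => (C % 128 != 0) || (C % 11 == 0) || cs128.contains C) = true := by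
  decide +kernel

theorem mem_cs7 : (divs.all fun C => (C % 11 == 0) || ([56, 168, 448, 1344] : List ℕ).all fun m =>
    (C % m != 0) || (C / m % 7 != 1) || cs7.contains C) = true := by
  decide +kernel

theorem norm_cases : (([(7 * 24, 8), (7 * 192, 64)] : List (ℕ × ℕ)).all fun b => divs.all fun m =>
    (b.1 % m != 0) || (m % (7 * b.2) != 0) || ([56, 168, 448, 1344] : List ℕ).contains m) = true := by
  decide +kernel

theorem mem_pairs_deg {α : Type*} {dg : α → ℕ} {f : α → ℤ} {l : List α} {d : ℕ} {χ : α}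
    (h : χ ∈ l) (hd : dg χ = d) : (l.map fun χ => (dg χ, f χ)).any (fun x => x.1 == d) = true :=
  List.any_eq_true.2 ⟨_, List.mem_map.2 ⟨χ, h, rfl⟩, by simpa using hd⟩

theorem degs_perm (K : ℕ) {M L : List ℤ} (h : M.Perm L) : (degs K M).Perm (degs K L) := by
  rw [degs, degs, h.sum_eq]
  exact (h.map _).append_right _

variable {G : Type u} [Group G] [Finite G]

/-- Values at an involution for a member of a known list, or any possible value. -/
theorem opts1_iv [IsSimpleGroup G] (hcard : Nat.card G = 443520) {t : G} (ht : orderOf t = 2) (p : ℕ)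
    (U : List (Cfsg.IrrCharacter G)) {χ : Cfsg.IrrCharacter G} (hne : χ ≠ trivIrr G)
    (hcov : ¬ p ∣ deg χ → χ ∈ U) {s : ℤ} (hs : s = 1 ∨ s = -1) :
    s * iv t χ ∈ opts1 (cen t) p (U.map fun χ => (deg χ, iv t χ)) (s * (deg χ : ℤ)) := by
  rw [opts1, Row.natAbs_signed hs, Int.natAbs_natCast]
  by_cases hd : p ∣ deg χ
  · rw [Nat.mod_eq_zero_of_dvd hd]
    simpa using opts_iv hcard ht hne hs
  · rw [if_pos (by simpa [bne_iff_ne, ← Nat.dvd_iff_mod_eq_zero] using hd)]
    exact mem_look (dg := fun χ => deg χ) (hcov hd) hs (charDegree_pos χ)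

section

variable [IsSimpleGroup G] (hcard : Nat.card G = 443520)

include hcard

theorem cen_mem_divs (g : G) : cen g ∈ divs := mem_divs (cen_dvd hcard g)

theorem two_dvd_cen {t : G} (ht : orderOf t = 2) : 2 ∣ cen t := by
  have h := orderOf_dvd_natCard
    (⟨t, mem_centralizer_singleton_iff.2 rfl⟩ : centralizer ({t} : Set G))
  rwa [Subgroup.orderOf_mk, ht] at h

theorem involution_not_eleven {t : G} (ht : orderOf t = 2) : ¬ 11 ∣ cen t :=
  not_dvd_cen_eleven hcard (fun h => by rw [h, orderOf_one] at ht; omega) (by rw [ht]; norm_num)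

/-- An involution in the centre of a Sylow 2-subgroup. -/
theorem exists_central_two : ∃ t : G, orderOf t = 2 ∧ cen t ∈ cs128 := by
  obtain ⟨S⟩ : Nonempty (Sylow 2 G) := inferInstance
  have hS := card_sylow_two hcard S
  haveI : Nontrivial (S : Subgroup G) := Finite.one_lt_card_iff_nontrivial.1 (by rw [hS]; norm_num)
  haveI := S.isPGroup'.center_nontrivial
  obtain ⟨n, hn⟩ := (S.isPGroup'.to_subgroup (center (S : Subgroup G))).exists_card_eq
  have hpos : n ≠ 0 := fun h => by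
    rw [h, pow_zero] at hn
    exact (Finite.one_lt_card (α := center (S : Subgroup G))).ne' hn
  obtain ⟨⟨⟨t, htS⟩, htZ⟩, hto⟩ := exists_prime_orderOf_dvd_card' (G := center (S : Subgroup G)) 2
    (by rw [hn]; exact dvd_pow_self 2 hpos)
  rw [Subgroup.orderOf_mk, Subgroup.orderOf_mk] at hto
  refine ⟨t, hto, ?_⟩
  have h128 : 128 ∣ cen t := by
    rw [← hS]
    refine card_dvd_of_le fun s hs => mem_centralizer_singleton_iff.2 ?_
    exact congrArg Subtype.val (mem_center_iff.1 htZ ⟨s, hs⟩)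
  have key := List.all_eq_true.1 mem_cs128 _ (cen_mem_divs hcard t)
  simpa [Nat.mod_eq_zero_of_dvd h128, ← Nat.dvd_iff_mod_eq_zero,
    involution_not_eleven hcard hto] using key

theorem exists_inv_seven (Q : Sylow 7 G) (E : PBlock Q) {c : ℕ} (hec : (E.e, c) ∈ ec7)
    (hC : Nat.card (centralizer ((Q : Subgroup G) : Set G)) = 7 * c)
    (hN : Nat.card (normalizer ((Q : Subgroup G) : Set G)) = 7 * c * E.e) :
    ∃ t : G, orderOf t = 2 ∧ t ∈ centralizer ((Q : Subgroup G) : Set G) ∧ cen t ∈ cs7 := by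
  obtain ⟨y, hy1, hy⟩ := E.exists_ne_one
  have hz : zpowers y = (Q : Subgroup G) := E.zpowers_eq hy hy1
  have hce : (c * E.e = 24 ∨ c * E.e = 192) ∧ 2 ∣ c := by
    simp only [ec7, List.mem_cons, List.not_mem_nil, or_false, Prod.mk.injEq] at hec
    rcases hec with ⟨h, rfl⟩ | ⟨h, rfl⟩ | ⟨h, rfl⟩ | ⟨h, rfl⟩ | ⟨h, rfl⟩ | ⟨h, rfl⟩ <;>
      rw [h] <;> norm_num
  have hcy : 2 ∣ cen y := by
    rw [cen, E.centralizer_eq hy hy1, hC]; exact hce.2.mul_left 7
  obtain ⟨b, a, hb, ha⟩ : ∃ b a : ℕ, 7 * c * E.e = b ∧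
      ((b, 2 ^ a) = (7 * 24, 8) ∨ (b, 2 ^ a) = (7 * 192, 64)) := by
    rcases hce.1 with h | h
    · exact ⟨7 * 24, 3, by rw [mul_assoc, h], Or.inl rfl⟩
    · exact ⟨7 * 192, 6, by rw [mul_assoc, h], Or.inr rfl⟩
  have hNy : Nat.card (normalizer (zpowers y : Set G)) = b := by rw [hz, hN, hb]
  obtain ⟨t, ht, hct, S, hS, hSN, hSC⟩ := exists_central_inv hcy (a := a) (by
    rw [hNy]
    rcases ha with h | h <;> rw [Prod.mk.injEq] at h <;> rw [h.1, h.2] <;> norm_num)
  have htQ : t ∈ centralizer ((Q : Subgroup G) : Set G) := by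
    rw [← E.centralizer_eq hy hy1, mem_centralizer_singleton_iff]; exact hct.eq.symm
  refine ⟨t, ht, htQ, ?_⟩
  set C := centralizer ({t} : Set G)
  set NQ := normalizer ((Q : Subgroup G) : Set G)
  have hQC : (Q : Subgroup G) ≤ C := by
    rw [← hz, zpowers_le, mem_centralizer_singleton_iff]; exact hct.eq
  have hmod := relIndex_mod Q C hQC
  have hmul : Nat.card (NQ ⊓ C : Subgroup G) * NQ.relIndex C = cen t := by
    rw [← Subgroup.inf_relIndex_right, Subgroup.relIndex,
      ← Nat.card_congr (subgroupOfEquivOfLe (inf_le_right : NQ ⊓ C ≤ C)).toEquiv, card_mul_index]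
  set m := Nat.card (NQ ⊓ C : Subgroup G) with hm
  have h7 : 7 ∣ m := by
    have := card_dvd_of_le (le_inf (le_normalizer : (Q : Subgroup G) ≤ NQ) hQC)
    rwa [E.card_P] at this
  have h2 : 2 ^ a ∣ m := by
    rw [← hS]; exact card_dvd_of_le (le_inf (by rwa [hz] at hSN) hSC)
  have hmb : m ∣ b := hb ▸ hN ▸ card_dvd_of_le (inf_le_left : NQ ⊓ C ≤ NQ)
  have hmdiv : m ∈ divs := mem_divs ((Dvd.intro _ hmul).trans (cen_dvd hcard t))
  have hmem : m ∈ ([56, 168, 448, 1344] : List ℕ) := by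
    have h7a : 7 * 2 ^ a ∣ m := Nat.Coprime.mul_dvd_of_dvd_of_dvd
      (Nat.Coprime.pow_right _ (by norm_num)) h7 h2
    have hb' : (b, 2 ^ a) ∈ ([(7 * 24, 8), (7 * 192, 64)] : List (ℕ × ℕ)) := by
      rcases ha with h | h <;> simp [h]
    have key := List.all_eq_true.1 (List.all_eq_true.1 norm_cases _ hb') m hmdiv
    simpa [Nat.mod_eq_zero_of_dvd hmb, Nat.mod_eq_zero_of_dvd h7a] using key
  have key := List.all_eq_true.1 mem_cs7 _ (cen_mem_divs hcard t)
  simp only [Bool.or_eq_true, beq_iff_eq, List.all_eq_true, bne_iff_ne, ne_eq,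
    List.contains_iff_mem] at key
  rcases key with h | h
  · exact absurd (Nat.dvd_of_mod_eq_zero h) (involution_not_eleven hcard ht)
  · rcases h m hmem with (h' | h') | h'
    · exact absurd (Nat.mod_eq_zero_of_dvd (Dvd.intro _ hmul)) h'
    · refine absurd ?_ h'
      rw [← hmul, Nat.mul_div_cancel_left _ Nat.card_pos]
      exact hmod
    · exact h'

theorem exists_inv_five (P : Sylow 5 G) {c : ℕ} (hc2 : 2 ∣ c)
    (hC : Nat.card (centralizer ((P : Subgroup G) : Set G)) = 5 * c) :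
    ∃ t : G, orderOf t = 2 ∧ t ∈ centralizer ((P : Subgroup G) : Set G) ∧ cen t ∈ cs5 := by
  obtain ⟨⟨t, htC⟩, ht⟩ := exists_prime_orderOf_dvd_card'
    (G := centralizer ((P : Subgroup G) : Set G)) 2 (by rw [hC]; exact hc2.mul_left 5)
  rw [Subgroup.orderOf_mk] at ht
  refine ⟨t, ht, htC, ?_⟩
  have h5 : 5 ∣ cen t := by
    have hle : (P : Subgroup G) ≤ centralizer ({t} : Set G) := fun z hz =>
      mem_centralizer_singleton_iff.2 (mem_centralizer_iff.1 htC z hz)
    have := card_dvd_of_le hle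
    rwa [card_sylow hcard (Or.inl rfl) P] at this
  have h10 : 10 ∣ cen t := Nat.Coprime.mul_dvd_of_dvd_of_dvd (by norm_num : Nat.Coprime 2 5)
    (two_dvd_cen hcard ht) h5
  have key := List.all_eq_true.1 mem_cs5 _ (cen_mem_divs hcard t)
  simpa [Nat.mod_eq_zero_of_dvd h10, ← Nat.dvd_iff_mod_eq_zero,
    involution_not_eleven hcard ht] using key

/-- A fixed row of the principal 11-block. -/
theorem exists_row_eleven : ∃ (P : Sylow 11 G) (D : PBlock P) (R : PRow D),
    R.M ∈ rows11 ∧ R.ys.length = 2 ∧ Nat.card (centralizer ((P : Subgroup G) : Set G)) = 11 ∧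
      Nat.card (normalizer ((P : Subgroup G) : Set G)) = 55 := by
  obtain ⟨P⟩ : Nonempty (Sylow 11 G) := inferInstance
  obtain ⟨D, ht, hts⟩ := exists_pblock' (not_comm hcard) (by norm_num) P
    (card_sylow hcard (Or.inr (Or.inr rfl)) P)
  obtain ⟨he, hC, hN⟩ := sylow_eleven hcard P D ht hts
  obtain ⟨R, hR⟩ := exists_prow hcard (Or.inr (Or.inr rfl)) ht hts (c := 1) (by rw [hC])
    (by norm_num) cand11 fun χ _ _ s _ h => cand11_eq ▸ h
  rw [he, rows11_eq] at hR
  exact ⟨P, D, R, hR, by rw [R.len_ys, he], hC, hN⟩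

variable {P : Sylow 11 G} {D : PBlock P} (R : PRow D) (hK : R.ys.length = 2)
  (hC11 : Nat.card (centralizer ((P : Subgroup G) : Set G)) = 11)
  (hN11 : Nat.card (normalizer ((P : Subgroup G) : Set G)) = 55)

include hK hC11 hN11

/-- The values of an involution on the 11-row are found by the search. -/
theorem all11_iv {t : G} (ht : orderOf t = 2) {ext : ℤ → ℤ → Bool} {good : List (ℕ × ℤ) → Bool}
    (h : all11 R.M (cen t) ext good = true)
    (hext : ∀ χ ∈ R.all, ∀ s : ℤ, (s = 1 ∨ s = -1) → ext (s * (deg χ : ℤ)) (s * iv t χ) = true) :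
    good (R.all.map fun χ => (deg χ, iv t χ)) = true := by
  rw [all11] at h
  have hg := allV_iv hcard (by norm_num) R ht hK h fun χ hχ s hs =>
    List.mem_filter.2 ⟨opts_iv hcard ht (R.ne_triv hχ) hs, hext χ hχ s hs⟩
  rw [csOK_iv hcard ht (l := R.all) R.nodup fun h => R.ne_triv h rfl,
    (quad_iv_ok hcard R (by norm_num) hC11 ht).2.2 (by rw [hN11]; norm_num)] at hg
  simpa using hg

theorem hasVec_iv : hasVec R.M cs128 = true := by
  obtain ⟨t, ht, htc⟩ := exists_central_two hcard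
  refine List.any_eq_true.2 ⟨cen t, htc, ?_⟩
  simp only [Bool.not_eq_true']
  by_contra h
  rw [Bool.not_eq_false] at h
  exact absurd (all11_iv hcard R hK hC11 hN11 ht h fun _ _ _ _ => rfl) (by simp)

theorem hasCommon_iv {q : ℕ} [Fact q.Prime] (hq : q = 5 ∨ q = 7) {Q : Sylow q G} (E : PBlock Q)
    (hQC : Nat.card (centralizer ((Q : Subgroup G) : Set G)) ≠ q) {t : G} (ht : orderOf t = 2)
    (htQ : t ∈ centralizer ((Q : Subgroup G) : Set G)) {Cs : List ℕ} (htC : cen t ∈ Cs) :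
    hasCommon R.M q Cs = true := by
  refine List.any_eq_true.2 ⟨cen t, htC, ?_⟩
  simp only [Bool.not_eq_true']
  by_contra h
  rw [Bool.not_eq_false] at h
  obtain ⟨x, hx1, hx⟩ := E.exists_ne_one
  have hq' : q = 5 ∨ q = 7 ∨ q = 11 := by omega
  have hg := all11_iv hcard R hK hC11 hN11 ht h fun χ _ s _ =>
    singOK_iv hcard hq' ht (E.orderOf_eq hx hx1) (mem_centralizer_iff.1 htQ x hx) χ
  rw [commonOK_iv hcard (by omega) (by rw [hcard]; rcases hq with rfl | rfl <;> norm_num) (by omega) R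
    (by rw [hC11]; rcases hq with rfl | rfl <;> norm_num) E hQC ht htQ] at hg
  simp at hg

omit hK hC11 hN11 in
theorem card_centralizer_five_or :
    (∀ P : Sylow 5 G, Nat.card (centralizer ((P : Subgroup G) : Set G)) = 5) ∨
    (∀ P : Sylow 5 G, ∀ _ : PBlock P, ∃ c : ℕ, 2 ∣ c ∧
      Nat.card (centralizer ((P : Subgroup G) : Set G)) = 5 * c) := by
  obtain ⟨P⟩ : Nonempty (Sylow 5 G) := inferInstance
  obtain ⟨E⟩ := exists_pblock (by norm_num) P (card_sylow hcard (Or.inl rfl) P)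
  rcases sylow_five hcard P E with ⟨-, h, -⟩ | ⟨c, h2, h, -⟩
  · exact Or.inl fun P' => (card_centralizer_sylow P P').trans h
  · exact Or.inr fun P' _ => ⟨c, h2, (card_centralizer_sylow P P').trans h⟩

/-- The two Sylow subgroups are not both centralized by involutions. -/
theorem not_both {Q : Sylow 7 G} (E : PBlock Q) {c : ℕ} (hec : (E.e, c) ∈ ec7)
    (hC : Nat.card (centralizer ((Q : Subgroup G) : Set G)) = 7 * c)
    (hN : Nat.card (normalizer ((Q : Subgroup G) : Set G)) = 7 * c * E.e)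
    {P5 : Sylow 5 G} (E5 : PBlock P5) {c5 : ℕ} (h2 : 2 ∣ c5)
    (hC5 : Nat.card (centralizer ((P5 : Subgroup G) : Set G)) = 5 * c5) (hM : R.M ∈ rows11) :
    False := by
  obtain ⟨t, ht, htQ, htc⟩ := exists_inv_seven hcard Q E hec hC hN
  obtain ⟨s, hs, hsP, hsc⟩ := exists_inv_five hcard P5 h2 hC5
  have hc1 : c ≠ 1 := by
    simp only [ec7, List.mem_cons, List.not_mem_nil, or_false, Prod.mk.injEq] at hec
    omega
  have key := scanA R.M hM
  rw [hasCommon_iv hcard R hK hC11 hN11 (Or.inr rfl) E (by omega) ht htQ htc,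
    hasCommon_iv hcard R hK hC11 hN11 (Or.inl rfl) E5 (by omega) hs hsP hsc,
    hasVec_iv hcard R hK hC11 hN11] at key
  simp at key

/-- `|C(Q)| ≠ 7` is impossible when `|C(P₅)| = 5`. -/
theorem not_branchI {Q : Sylow 7 G} (E : PBlock Q) (htE : trivIrr G ∈ E.X)
    (htsE : E.sgn (trivIrr G) = 1) {c : ℕ} (hec : (E.e, c) ∈ ec7)
    (hC : Nat.card (centralizer ((Q : Subgroup G) : Set G)) = 7 * c)
    (hN : Nat.card (normalizer ((Q : Subgroup G) : Set G)) = 7 * c * E.e)
    (h5 : ∀ P : Sylow 5 G, Nat.card (centralizer ((P : Subgroup G) : Set G)) = 5)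
    (hM : R.M ∈ rows11) : False := by
  classical
  have hG := not_comm hcard
  obtain ⟨P5⟩ : Nonempty (Sylow 5 G) := inferInstance
  obtain ⟨D5, ht5, hts5⟩ := exists_pblock' hG (by norm_num) P5 (card_sylow hcard (Or.inl rfl) P5)
  have he5 : D5.e = 4 := by
    rcases sylow_five hcard P5 D5 with ⟨h, -, -⟩ | ⟨c', h2, h, -⟩
    · exact h
    · rw [h5] at h; omega
  obtain ⟨R5, hR5⟩ := exists_prow hcard (Or.inl rfl) ht5 hts5 (c := 1) (by rw [h5]) (by norm_num)
    cand5 fun χ _ _ s _ h => cand5_eq ▸ h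
  rw [he5, rows5_eq] at hR5
  have hK5 : R5.ys.length = 1 := by rw [R5.len_ys, he5]
  obtain ⟨t, ht, htQ, htc⟩ := exists_inv_seven hcard Q E hec hC hN
  have ht1 : t ≠ 1 := fun h => by rw [h, orderOf_one] at ht; omega
  have hc1 : c ≠ 1 := by
    simp only [ec7, List.mem_cons, List.not_mem_nil, or_false, Prod.mk.injEq] at hec
    omega
  have h5t : ¬ 5 ∣ cen t :=
    not_dvd_cen h5 (fun P => card_sylow hcard (Or.inl rfl) P) ht1 (by rw [ht]; norm_num)
  obtain ⟨y, hy1, hy⟩ := E.exists_ne_one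
  have hsing : ∀ χ : Cfsg.IrrCharacter G, ∀ s : ℤ,
      singOK 7 (s * (deg χ : ℤ)) (s * iv t χ) = true := fun χ s =>
    singOK_iv hcard (Or.inr (Or.inl rfl)) ht (E.orderOf_eq hy hy1) (mem_centralizer_iff.1 htQ y hy) χ
  have key := List.all_eq_true.1 (scanI R.M hM) R5.M hR5
  rw [Row.agree_apply R.toRow R5.toRow 11 5 hK hK5
    (fun χ hχ _ h => R5.mem_all_of_not_dvd (h5 P5) (R.ne_triv hχ) h)
    (fun χ hχ h _ => R.mem_all_of_not_dvd hC11 (R5.ne_triv hχ) h)] at key
  simp only [Bool.not_true, Bool.false_or] at key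
  have key2 := List.all_eq_true.1 key (cen t) (List.mem_filter.2 ⟨htc, by
    simpa [← Nat.dvd_iff_mod_eq_zero] using h5t⟩)
  have key3 := all11_iv hcard R hK hC11 hN11 ht key2 fun χ _ s _ => hsing χ s
  rw [commonOK_iv hcard (q := 7) (by norm_num) (by rw [hcard]; norm_num) (by norm_num) R
    (by rw [hC11]; norm_num) E (by omega) ht htQ] at key3
  simp only [Bool.not_true, Bool.false_or] at key3
  have key4 := allV_iv hcard (by norm_num) R5 ht hK5 key3 fun χ hχ s hs => List.mem_filter.2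
    ⟨opts1_iv hcard ht 11 R.all (R5.ne_triv hχ)
      (fun h => R.mem_all_of_not_dvd hC11 (R5.ne_triv hχ) h) hs, hsing χ s⟩
  obtain ⟨q1, q2, -⟩ := quad_iv_ok hcard R5 (by norm_num) (h5 P5) ht
  set U := R.all ++ R5.all.filter (fun χ => deg χ % 11 == 0) with hU
  have hUnd : U.Nodup := List.nodup_append.2 ⟨R.nodup, R5.nodup.filter _, fun a ha b hb e => by
    rw [List.mem_filter, beq_iff_eq] at hb
    exact R.not_dvd_deg ha (e ▸ Nat.dvd_of_mod_eq_zero hb.2)⟩
  have hUt : trivIrr G ∉ U := fun h => by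
    rcases List.mem_append.1 h with h | h
    · exact R.ne_triv h rfl
    · exact R5.ne_triv (List.mem_filter.1 h).1 rfl
  rw [fresh_map 11 (fun χ : Cfsg.IrrCharacter G => deg χ), ← List.map_append, ← hU, q2,
    decide_eq_false q1, csOK_iv hcard ht hUnd hUt] at key4
  simp only [bne_self_eq_false, Bool.not_true, Bool.false_or] at key4
  have hcov : ∀ χ : Cfsg.IrrCharacter G, χ ≠ trivIrr G → ¬ 55 ∣ deg χ → χ ∈ U := fun χ hne h => by
    by_cases h11 : 11 ∣ deg χ
    · refine List.mem_append_right _ (List.mem_filter.2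
        ⟨R5.mem_all_of_not_dvd (h5 P5) hne fun h' => h ?_, by simp [Nat.mod_eq_zero_of_dvd h11]⟩)
      exact Nat.Coprime.mul_dvd_of_dvd_of_dvd (by norm_num : Nat.Coprime 5 11) h' h11
    · exact List.mem_append_left _ (R.mem_all_of_not_dvd hC11 hne h11)
  obtain ⟨R7, hR7⟩ := exists_prow hcard (Or.inr (Or.inl rfl)) htE htsE hC
    (p_not_dvd_c hcard (Or.inr (Or.inl rfl)) hC)
    (cands7 c (U.map fun χ => (deg χ, iv t χ))) fun χ _ hne s hs h => by
      refine List.mem_filter.2 ⟨h, ?_⟩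
      simp only [Bool.or_eq_true, beq_iff_eq]
      by_cases hd : 55 ∣ deg χ
      · left
        exact Int.emod_eq_zero_of_dvd ((Int.natCast_dvd_natCast.2 hd).mul_left s)
      · right
        exact mem_pairs_deg (hcov χ hne hd) (by rw [Row.natAbs_signed hs, Int.natAbs_natCast])
  have key5 := List.all_eq_true.1 (List.all_eq_true.1 key4 (E.e, c) hec) R7.M hR7
  have hK7 : R7.ys.length = 6 / E.e := R7.len_ys
  have key6 := allV_iv hcard (by norm_num) R7 ht hK7 key5 fun χ hχ s hs => List.mem_filter.2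
    ⟨opts1_iv hcard ht 55 U (R7.ne_triv hχ) (hcov χ (R7.ne_triv hχ)) hs, by
      rw [beq_iff_eq, ← mul_sub]
      exact Int.emod_eq_zero_of_dvd ((block_cong E (R7.mem_block hχ) htQ (by rw [ht]; norm_num)
        (iv_spec hG ht χ)).mul_left s)⟩
  have hnd : (U ++ R7.all.filter (fun χ => deg χ % 55 == 0)).Nodup :=
    List.nodup_append.2 ⟨hUnd, R7.nodup.filter _, fun a ha b hb e => by
      rw [List.mem_filter, beq_iff_eq] at hb
      have h55 : 55 ∣ deg a := e ▸ Nat.dvd_of_mod_eq_zero hb.2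
      rcases List.mem_append.1 ha with h | h
      · exact R.not_dvd_deg h ((by norm_num : 11 ∣ 55).trans h55)
      · exact R5.not_dvd_deg (List.mem_filter.1 h).1 ((by norm_num : 5 ∣ 55).trans h55)⟩
  rw [fresh_map 55 (fun χ : Cfsg.IrrCharacter G => deg χ), ← List.map_append,
    csOK_iv hcard ht hnd (fun h => by
      rcases List.mem_append.1 h with h | h
      · exact hUt h
      · exact R7.ne_triv (List.mem_filter.1 h).1 rfl)] at key6
  simp at key6

/-- `|C(P₅)| ≠ 5` is impossible when `|C(Q)| = 7`. -/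
theorem not_branchII (h7 : ∀ Q : Sylow 7 G, Nat.card (centralizer ((Q : Subgroup G) : Set G)) = 7)
    {P5 : Sylow 5 G} (E5 : PBlock P5) (ht5 : trivIrr G ∈ E5.X) (hts5 : E5.sgn (trivIrr G) = 1)
    (hne5 : Nat.card (centralizer ((P5 : Subgroup G) : Set G)) ≠ 5) (hM : R.M ∈ rows11) : False := by
  classical
  have hG := not_comm hcard
  rcases sylow_five hcard P5 E5 with ⟨-, h, -⟩ | ⟨c5, h2, hC5, hfin⟩
  · exact hne5 h
  obtain ⟨Q⟩ : Nonempty (Sylow 7 G) := inferInstance
  obtain ⟨D7, ht7, hts7⟩ := exists_pblock' hG (by norm_num) Q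
    (card_sylow hcard (Or.inr (Or.inl rfl)) Q)
  obtain ⟨he7, hN7⟩ : D7.e = 3 ∧ Nat.card (normalizer ((Q : Subgroup G) : Set G)) = 21 := by
    rcases sylow_seven hcard Q D7 ht7 hts7 with ⟨h, -, h'⟩ | ⟨c, hc, h, -⟩
    · exact ⟨h, h'⟩
    · rw [h7] at h
      simp only [ec7, List.mem_cons, List.not_mem_nil, or_false, Prod.mk.injEq] at hc
      omega
  obtain ⟨R7, hR7⟩ := exists_prow hcard (Or.inr (Or.inl rfl)) ht7 hts7 (c := 1) (by rw [h7])
    (by norm_num) cand7 fun χ _ _ s _ h => cand7_eq ▸ h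
  rw [he7, rows7_eq] at hR7
  have hK7 : R7.ys.length = 2 := by rw [R7.len_ys, he7]
  obtain ⟨t, ht, htP, htc⟩ := exists_inv_five hcard P5 h2 hC5
  have ht1 : t ≠ 1 := fun h => by rw [h, orderOf_one] at ht; omega
  have h7t : ¬ 7 ∣ cen t :=
    not_dvd_cen h7 (fun P => card_sylow hcard (Or.inr (Or.inl rfl)) P) ht1 (by rw [ht]; norm_num)
  obtain ⟨y, hy1, hy⟩ := E5.exists_ne_one
  have key := List.all_eq_true.1 (scanII R.M hM) R7.M hR7
  rw [Row.agree_apply R.toRow R7.toRow 11 7 hK hK7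
    (fun χ hχ _ h => R7.mem_all_of_not_dvd (h7 Q) (R.ne_triv hχ) h)
    (fun χ hχ h _ => R.mem_all_of_not_dvd hC11 (R7.ne_triv hχ) h)] at key
  simp only [Bool.not_true, Bool.false_or] at key
  have key2 := List.all_eq_true.1 key (cen t) (List.mem_filter.2 ⟨htc, by
    simpa [← Nat.dvd_iff_mod_eq_zero] using h7t⟩)
  have key3 := all11_iv hcard R hK hC11 hN11 ht key2 fun χ _ s _ =>
    singOK_iv hcard (Or.inl rfl) ht (E5.orderOf_eq hy hy1) (mem_centralizer_iff.1 htP y hy) χ
  rw [commonOK_iv hcard (q := 5) (by norm_num) (by rw [hcard]; norm_num) (by norm_num) R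
    (by rw [hC11]; norm_num) E5 hne5 ht htP] at key3
  simp only [Bool.not_true, Bool.false_or] at key3
  have key4 := allV_iv hcard (by norm_num) R7 ht hK7 key3 fun χ hχ s hs =>
    opts1_iv hcard ht 11 R.all (R7.ne_triv hχ)
      (fun h => R.mem_all_of_not_dvd hC11 (R7.ne_triv hχ) h) hs
  rw [(quad_iv_ok hcard R7 (by norm_num) (h7 Q) ht).2.2 (by rw [hN7]; norm_num)] at key4
  simp only [bne_self_eq_false, Bool.false_or, Bool.and_eq_true, List.any_eq_true, List.isPerm_iff] at key4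
  obtain ⟨hL7, L, hL, hLM⟩ := key4
  -- the values at an element of order five
  have hy5 : orderOf y = 5 := E5.orderOf_eq hy hy1
  set f : Cfsg.IrrCharacter G → ℤ := fun χ => if χ ∈ R7.cs then 0 else R7.δ with hf
  have hcsdeg : ∀ χ ∈ R7.cs, deg χ = 55 ∨ deg χ = 120 := fun χ hχ => by
    have h := hL7.subset (List.mem_map.2 ⟨χ, hχ, rfl⟩)
    simp only [List.mem_cons, List.not_mem_nil, or_false] at h
    rcases R7.w_eq χ hχ with e | e <;> rw [e] at h <;> omega
  have hcs0 : ∀ χ ∈ R7.cs, (χ : G → ℂ) y = 0 := fun χ hχ =>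
    zero_of_singular hcard (Or.inl rfl) χ (by rcases hcsdeg χ hχ with e | e <;> rw [e] <;> norm_num)
      (by rw [hy5])
  have hys : ∀ θ ∈ R7.ys, θ ∉ R7.cs := fun θ hθ h =>
    (List.nodup_append.1 R7.nodup).2.2 θ h θ hθ rfl
  have hfv : ∀ χ ∈ R7.all, (χ : G → ℂ) y = (f χ : ℂ) := fun χ hχ => by
    rcases List.mem_append.1 hχ with h | h
    · simp [hf, h, hcs0 χ h]
    · simp only [hf, if_neg (hys χ h)]
      have hr := R7.relC χ h y (by rw [hy5]; norm_num)
      rw [List.map_congr_left (g := fun _ => (0 : ℂ)) fun ψ hψ => by rw [hcs0 ψ hψ, mul_zero]] at hr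
      simp only [List.map_const', List.sum_replicate, smul_zero, add_zero] at hr
      rcases R7.δ_eq with e | e <;> rw [e] at hr ⊢ <;> push_cast at hr ⊢
      · linear_combination hr
      · linear_combination -hr
  have hrel : R7.RelV f := R7.relV (by rw [hy5]; norm_num) hfv
  obtain ⟨k, hk, -⟩ := quad_eq hcard R7 (h7 Q) hfv hrel
  have hus : R7.us f = R7.cs.map fun _ => (0 : ℤ) :=
    List.map_congr_left fun χ hχ => by simp [hf, hχ]
  have hq : quad R7.M (R7.us f) = 436800 := by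
    have hz : (List.zipWith (fun z u => ord / z * (u * u)) R7.M (R7.us f)).sum = 0 := by
      rw [Row.M, hus, List.zipWith_map, List.zipWith_self]
      simp
    rw [quad, hz, hL7.sum_eq, hus]
    simp [ord]
  have hcy : cen y = 5 * c5 := by rw [cen, E5.centralizer_eq hy hy1, hC5]
  rw [hq, hcy] at hk
  have hkN : c5 * c5 * k = 17472 := by
    have : ((c5 * c5 * k : ℕ) : ℤ) = 17472 := by push_cast at hk ⊢; linarith
    exact_mod_cast this
  obtain ⟨he5, hc52⟩ := hfin ⟨k, hkN.symm⟩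
  subst hc52
  obtain ⟨R5, hR5⟩ := exists_prow hcard (Or.inl rfl) ht5 hts5 hC5 (by norm_num) (candList 5 2)
    fun χ _ _ s _ h => h
  rw [he5, ← rows, rows522] at hR5
  obtain ⟨θ, hθ⟩ := List.exists_mem_of_ne_nil _ R5.ys_ne
  have hθm : θ ∈ R5.all := List.mem_append_right _ hθ
  have hin11 : ¬ 11 ∣ deg θ → deg θ ∈ degs 2 L := fun h => by
    refine (degs_perm 2 hLM).subset ?_
    rw [← hK, Row.degs_eq]
    exact List.mem_map.2 ⟨θ, R.mem_all_of_not_dvd hC11 (R5.ne_triv hθm) h, rfl⟩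
  have hin7 : ¬ 7 ∣ deg θ → deg θ ∈ degs 2 ([-55, 120] : List ℤ) := fun h => by
    refine (degs_perm 2 hL7).subset ?_
    rw [← hK7, Row.degs_eq]
    exact List.mem_map.2 ⟨θ, R7.mem_all_of_not_dvd (h7 Q) (R5.ne_triv hθm) h, rfl⟩
  have hFθ : deg θ = (1 + R5.M.sum).natAbs := by
    have h' := congrArg Int.natAbs (R5.rel θ hθ)
    rwa [Row.natAbs_signed R5.δ_eq, Int.natAbs_natCast] at h'
  have hd : ∀ d ∈ ([63, 12] : List ℕ), ∀ L ∈ four, d ∉ degs 2 L := by decide +kernel
  simp only [List.mem_cons, List.not_mem_nil, or_false] at hR5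
  rcases hR5 with h | h | h <;> rw [h] at hFθ <;> norm_num at hFθ
  · exact hd 63 (by simp) L hL (hFθ ▸ hin11 (by rw [hFθ]; norm_num))
  · have := hin7 (by rw [hFθ]; norm_num)
    rw [hFθ] at this
    exact absurd this (by decide)
  · exact hd 12 (by simp) L hL (hFθ ▸ hin11 (by rw [hFθ]; norm_num))

end

section

variable [IsSimpleGroup G] (hcard : Nat.card G = 443520)

include hcard

/-- **The Sylow subgroups for 5 and 7 are their own centralizers.** -/
theorem card_centralizer_five_seven :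
    (∀ P : Sylow 5 G, Nat.card (centralizer ((P : Subgroup G) : Set G)) = 5) ∧
    (∀ Q : Sylow 7 G, Nat.card (centralizer ((Q : Subgroup G) : Set G)) = 7) := by
  have hG := not_comm hcard
  obtain ⟨P, D, R, hM, hK, hC11, hN11⟩ := exists_row_eleven hcard
  obtain ⟨Q⟩ : Nonempty (Sylow 7 G) := inferInstance
  obtain ⟨E, htE, htsE⟩ := exists_pblock' hG (by norm_num) Q
    (card_sylow hcard (Or.inr (Or.inl rfl)) Q)
  obtain ⟨P5⟩ : Nonempty (Sylow 5 G) := inferInstance
  obtain ⟨E5, ht5, hts5⟩ := exists_pblock' hG (by norm_num) P5 (card_sylow hcard (Or.inl rfl) P5)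
  rcases sylow_seven hcard Q E htE htsE with ⟨-, hC7, -⟩ | ⟨c, hec, hC7, hN7⟩
  · have h7 : ∀ Q' : Sylow 7 G, Nat.card (centralizer ((Q' : Subgroup G) : Set G)) = 7 :=
      fun Q' => (card_centralizer_sylow Q Q').trans hC7
    refine ⟨fun P' => (card_centralizer_sylow P5 P').trans ?_, h7⟩
    by_contra hne
    exact not_branchII hcard R hK hC11 hN11 h7 E5 ht5 hts5 hne hM
  · exfalso
    rcases card_centralizer_five_or hcard with h5 | h5
    · exact not_branchI hcard R hK hC11 hN11 E htE htsE hec hC7 hN7 h5 hM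
    · obtain ⟨c5, h2, hC5⟩ := h5 P5 E5
      exact not_both hcard R hK hC11 hN11 E hec hC7 hN7 E5 h2 hC5 hM

end

end Cfsg.Agent.M22Order
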