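import Cfsg.Agent.Lib.M22Order.Known

/-!
# Simple groups of order 443520: the twelve irreducible characters
-/

set_option autoImplicit false
set_option linter.style.haveILetI false
set_option linter.unusedSectionVars false

namespace Cfsg.Agent.M22Order

open Subgroup
open Cfsg.Agent.Characters Cfsg.Agent.Blocks Cfsg.Agent.PrimeBlock
open Cfsg.Agent.SmallSimple
open Cfsg.Agent.M12Order (cen cls iv iv_eq iv_spec iv_triv)
open scoped ComplexConjugate

universe u

variable {G : Type u} [Group G] [Finite G]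

/-- The irreducible characters, named by their degrees. -/
structure Chars (G : Type u) [Group G] [Finite G] where
  a : Cfsg.IrrCharacter G
  b : Cfsg.IrrCharacter G
  b' : Cfsg.IrrCharacter G
  c : Cfsg.IrrCharacter G
  d : Cfsg.IrrCharacter G
  e : Cfsg.IrrCharacter G
  g : Cfsg.IrrCharacter G
  h : Cfsg.IrrCharacter G
  k : Cfsg.IrrCharacter G
  k' : Cfsg.IrrCharacter G
  w : Cfsg.IrrCharacter G
  da : deg a = 21
  db : deg b = 45
  db' : deg b' = 45
  dc : deg c = 55
  dd : deg d = 99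
  de : deg e = 154
  dg : deg g = 210
  dh : deg h = 231
  dk : deg k = 280
  dk' : deg k' = 280
  dw : deg w = 385
  nodup : [trivIrr G, a, b, b', c, d, e, g, h, k, k', w].Nodup
  all_mem : ∀ χ, χ ∈ [trivIrr G, a, b, b', c, d, e, g, h, k, k', w]
  inv_val : ∀ t : G, orderOf t = 2 → ∀ χ : Cfsg.IrrCharacter G, χ ≠ trivIrr G →
    (χ : G → ℂ) t = (valOf (deg χ) : ℂ)

namespace Chars

variable (T : Chars G)

theorem sum_all [Fintype (Cfsg.IrrCharacter G)] {M : Type*} [AddCommMonoid M]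
    (f : Cfsg.IrrCharacter G → M) :
    ∑ χ, f χ = f (trivIrr G) + f T.a + f T.b + f T.b' + f T.c + f T.d + f T.e + f T.g + f T.h +
      f T.k + f T.k' + f T.w := by
  classical
  have : (Finset.univ : Finset (Cfsg.IrrCharacter G)) =
      [trivIrr G, T.a, T.b, T.b', T.c, T.d, T.e, T.g, T.h, T.k, T.k', T.w].toFinset :=
    (Finset.eq_univ_iff_forall.2 fun χ => List.mem_toFinset.2 (T.all_mem χ)).symm
  rw [this, List.sum_toFinset _ T.nodup]
  simp only [List.map_cons, List.map_nil, List.sum_cons, List.sum_nil, add_zero, add_assoc]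

theorem ne_triv_of_deg {χ : Cfsg.IrrCharacter G} (h : deg χ ≠ 1) : χ ≠ trivIrr G :=
  fun e => h (e ▸ deg_trivIrr)

include T

theorem unique_deg {χ : Cfsg.IrrCharacter G} (hd : deg χ ≠ 45) (hd' : deg χ ≠ 280)
    {ψ : Cfsg.IrrCharacter G} (h : deg ψ = deg χ) : ψ = χ := by
  have h1 := T.all_mem χ
  have h2 := T.all_mem ψ
  have e0 : deg (trivIrr G) = 1 := deg_trivIrr
  simp only [List.mem_cons, List.not_mem_nil, or_false] at h1 h2
  rcases h1 with rfl | rfl | rfl | rfl | rfl | rfl | rfl | rfl | rfl | rfl | rfl | rfl <;>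
    rcases h2 with rfl | rfl | rfl | rfl | rfl | rfl | rfl | rfl | rfl | rfl | rfl | rfl <;>
      first
      | rfl
      | (simp only [e0, T.da, T.db, T.db', T.dc, T.dd, T.de, T.dg, T.dh, T.dk, T.dk', T.dw] at h hd hd'
         omega)

/-- A character alone of its degree is rational valued. -/
theorem exists_int {χ : Cfsg.IrrCharacter G} (hd : deg χ ≠ 45) (hd' : deg χ ≠ 280) (x : G) :
    ∃ v : ℤ, (χ : G → ℂ) x = (v : ℂ) := by
  haveI := Fintype.ofFinite G
  refine exists_int_of_pow_fixed (irr_isCharacter χ) fun m hm => ?_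
  set χ' : Cfsg.IrrCharacter G :=
    ⟨fun g => (χ : G → ℂ) (g ^ m), OddChar.PowTwist.isIrr_comp_pow χ.2 hm⟩
  have hval : ∀ g, (χ' : G → ℂ) g = (χ : G → ℂ) (g ^ m) := fun g => rfl
  have hdeg : deg χ' = deg χ := by
    have : (deg χ' : ℂ) = deg χ := by rw [deg_cast, deg_cast, hval, one_pow]
    exact_mod_cast this
  rw [← hval, T.unique_deg hd hd' hdeg]

end Chars

variable [IsSimpleGroup G] (hcard : Nat.card G = 443520)

include hcard

/-- **The degrees are `1, 21, 45, 45, 55, 99, 154, 210, 231, 280, 280, 385`.** -/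
theorem exists_chars : Nonempty (Chars G) := by
  classical
  haveI := Fintype.ofFinite (Cfsg.IrrCharacter G)
  have hG := not_comm hcard
  obtain ⟨U, hnd, htr, hU⟩ := exists_known hcard
  obtain ⟨t, ht, -⟩ := exists_central_two hcard
  obtain ⟨hcen, hperm⟩ := hU t ht
  have ht1 : t ≠ 1 := fun h => by rw [h, orderOf_one] at ht; omega
  set S := insert (trivIrr G) U.toFinset with hS
  have htrS : trivIrr G ∉ U.toFinset := by simpa using htr
  have hUv : ∀ f : ℕ × ℤ → ℤ, ∑ χ ∈ U.toFinset, f (deg χ, iv t χ) = (target.map f).sum := fun f => by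
    rw [List.sum_toFinset _ hnd, ← (hperm.map f).sum_eq, List.map_map]
    rfl
  -- the remaining characters
  have h11 : ∑ χ : Cfsg.IrrCharacter G, (deg χ : ℤ) * (deg χ : ℤ) = 443520 := by
    have h := second_orthogonality (G := G) 1 1
    rw [if_pos (IsConj.refl _)] at h
    simp only [← deg_cast, map_natCast] at h
    rw [show Nat.card (centralizer ({(1 : G)} : Set G)) = 443520 from cen_one hcard] at h
    exact_mod_cast h
  have hvv : ∑ χ : Cfsg.IrrCharacter G, iv t χ * iv t χ = 384 := by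
    have h := second_orthogonality (G := G) t t
    rw [if_pos (IsConj.refl _)] at h
    rw [show Nat.card (centralizer ({t} : Set G)) = 384 from hcen] at h
    have e : ∀ χ : Cfsg.IrrCharacter G, (χ : G → ℂ) t * conj ((χ : G → ℂ) t) =
        ((iv t χ * iv t χ : ℤ) : ℂ) := fun χ => by
      rw [iv_spec hG ht χ, map_intCast]; push_cast; rfl
    rw [Finset.sum_congr rfl fun χ _ => e χ] at h
    exact_mod_cast h
  have hdv : ∑ χ : Cfsg.IrrCharacter G, iv t χ * (deg χ : ℤ) = 0 := by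
    have h := second_orthogonality (G := G) t 1
    rw [if_neg (fun hc => ht1 (isConj_one_left.1 hc))] at h
    have e : ∀ χ : Cfsg.IrrCharacter G, (χ : G → ℂ) t * conj ((χ : G → ℂ) 1) =
        ((iv t χ * (deg χ : ℤ) : ℤ) : ℂ) := fun χ => by
      rw [iv_spec hG ht χ, ← deg_cast, map_natCast]; push_cast; rfl
    rw [Finset.sum_congr rfl fun χ _ => e χ] at h
    exact_mod_cast h
  rw [← Finset.sum_add_sum_compl S, hS, Finset.sum_insert htrS] at h11 hvv hdv
  rw [hUv fun a => (a.1 : ℤ) * (a.1 : ℤ), deg_trivIrr, ← hS,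
    show (target.map fun a => (a.1 : ℤ) * (a.1 : ℤ)).sum = 295294 by decide] at h11
  rw [hUv fun a => a.2 * a.2, iv_triv, ← hS,
    show (target.map fun a => a.2 * a.2).sum = 382 by decide] at hvv
  rw [hUv fun a => a.2 * (a.1 : ℤ), iv_triv, deg_trivIrr, ← hS,
    show (target.map fun a => a.2 * (a.1 : ℤ)).sum = -386 by decide] at hdv
  obtain ⟨w, hw, hwv⟩ : ∃ w ∈ Sᶜ, iv t w ≠ 0 := by
    by_contra hc
    push Not at hc
    rw [Finset.sum_congr rfl fun χ hχ => by rw [hc χ hχ, zero_mul]] at hdv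
    simp at hdv
  rw [← Finset.add_sum_erase _ _ hw] at h11 hvv hdv
  have hv0 : ∀ χ ∈ Sᶜ.erase w, iv t χ = 0 := by
    have hnn : ∀ χ ∈ Sᶜ.erase w, (0 : ℤ) ≤ iv t χ * iv t χ := fun χ _ => mul_self_nonneg _
    have hpos : (1 : ℤ) ≤ iv t w * iv t w := by
      have : (0 : ℤ) < iv t w * iv t w := mul_self_pos.2 hwv
      omega
    have hle := Finset.sum_nonneg hnn
    intro χ hχ
    have := (Finset.sum_eq_zero_iff_of_nonneg hnn).1 (by omega) χ hχ
    exact mul_self_eq_zero.1 this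
  rw [Finset.sum_congr rfl (g := fun _ => (0 : ℤ)) fun χ hχ => by rw [hv0 χ hχ, zero_mul]] at hdv hvv
  simp only [Finset.sum_const_zero, add_zero] at hdv hvv
  have hw2 : iv t w = 1 ∧ deg w = 385 := by
    have h1 : iv t w * iv t w = 1 := by push_cast at hvv; omega
    have h2 : iv t w * (deg w : ℤ) = 385 := by push_cast at hdv; omega
    rcases Int.eq_one_or_neg_one_of_mul_eq_one h1 with e | e <;> rw [e] at h2 ⊢
    · exact ⟨rfl, by omega⟩
    · omega
  have hrest : Sᶜ.erase w = ∅ := by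
    rw [hw2.2] at h11
    have hz : ∑ χ ∈ Sᶜ.erase w, (deg χ : ℤ) * (deg χ : ℤ) = 0 := by push_cast at h11; omega
    by_contra hne
    obtain ⟨χ, hχ⟩ := Finset.nonempty_iff_ne_empty.2 hne
    have := (Finset.sum_eq_zero_iff_of_nonneg fun ψ _ => mul_self_nonneg _).1 hz χ hχ
    have : 0 < deg χ := charDegree_pos χ
    simp_all
  -- names
  obtain ⟨l, hl, hlm⟩ := exists_perm_map hperm.symm
  have hlen : l.length = 10 := by rw [← List.length_map, hlm]; rfl
  rcases l with _ | ⟨a, _ | ⟨b, _ | ⟨b', _ | ⟨c, _ | ⟨d, _ | ⟨e, _ | ⟨g, _ | ⟨h, _ | ⟨k,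
    _ | ⟨k', _ | ⟨_, _⟩⟩⟩⟩⟩⟩⟩⟩⟩⟩⟩ <;> simp at hlen
  simp only [target, List.map_cons, List.map_nil, List.cons.injEq, Prod.mk.injEq, and_true] at hlm
  obtain ⟨⟨da, va⟩, ⟨db, vb⟩, ⟨db', vb'⟩, ⟨dc, vc⟩, ⟨dd, vd⟩, ⟨de, ve⟩, ⟨dg, vg⟩, ⟨dh, vh⟩,
    ⟨dk, vk⟩, ⟨dk', vk'⟩⟩ := hlm
  have hwU : w ∉ U := fun hm => by simp [hS, hm] at hw
  have hwt : w ≠ trivIrr G := fun hm => by rw [hm, deg_trivIrr] at hw2; simp at hw2
  have hall : ∀ χ : Cfsg.IrrCharacter G, χ = trivIrr G ∨ χ ∈ U ∨ χ = w := fun χ => by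
    by_cases h1 : χ ∈ S
    · simp only [hS, Finset.mem_insert, List.mem_toFinset] at h1
      exact h1.imp id Or.inl
    · by_cases h2 : χ = w
      · exact Or.inr (Or.inr h2)
      · have : χ ∈ Sᶜ.erase w := Finset.mem_erase.2 ⟨h2, Finset.mem_compl.2 h1⟩
        rw [hrest] at this; simp at this
  refine ⟨⟨a, b, b', c, d, e, g, h, k, k', w, da, db, db', dc, dd, de, dg, dh, dk, dk', hw2.2,
    ?_, fun χ => ?_, fun s hs χ hne => ?_⟩⟩
  · show (trivIrr G :: ([a, b, b', c, d, e, g, h, k, k'] ++ [w])).Nodup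
    refine List.nodup_cons.2 ⟨?_, List.nodup_append.2 ⟨hl.nodup_iff.2 hnd, List.nodup_singleton _,
      fun x hx y hy hxy => hwU ?_⟩⟩
    · simp only [List.mem_append, List.mem_singleton, not_or]
      exact ⟨fun hm => htr (hl.subset hm), fun hm => hwt hm.symm⟩
    · rw [← List.mem_singleton.1 hy, ← hxy]; exact hl.subset hx
  · show χ ∈ trivIrr G :: ([a, b, b', c, d, e, g, h, k, k'] ++ [w])
    rcases hall χ with h' | h' | h'
    · simp [h']
    · exact List.mem_cons_of_mem _ (List.mem_append_left _ (hl.symm.subset h'))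
    · simp [h']
  · rw [iv_spec hG hs χ]
    congr 1
    rcases hall χ with h' | h' | h'
    · exact absurd h' hne
    · exact target_val _ ((hU s hs).2.subset (List.mem_map.2 ⟨χ, h', rfl⟩))
    · subst h'
      obtain ⟨x, hx⟩ := isConj_iff.1 (isConj_involution hcard ht hs)
      have hcv : iv s χ = iv t χ := iv_eq (by
        rw [← hx, ← iv_spec hG ht χ]
        obtain ⟨n, ρ, hρ, hchar⟩ := χ.2
        rw [← hchar, ρ.char_conj])
      rw [hcv, hw2.1, hw2.2]; rfl

end Cfsg.Agent.M22Order
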