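import Cfsg.Agent.Lib.M22Order.Count
import Cfsg.Agent.Lib.M22Order.LocalTools

/-!
# Simple groups of order 443520: the core of the centralizer of an involution
-/

set_option autoImplicit false
set_option linter.style.haveILetI false
set_option linter.unusedSectionVars false

namespace Cfsg.Agent.M22Order

open Subgroup
open Cfsg.Agent.M12Order (cen card_fixed_mod)

universe u

variable {G : Type u} [Group G] [Finite G]

/-- The 2-core of the centralizer of an involution. -/
structure Core (t : G) (R : Subgroup G) : Prop where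
  le : R ≤ centralizer ({t} : Set G)
  card : Nat.card R = 64
  conj : ∀ g, Commute g t → ∀ x ∈ R, g * x * g⁻¹ ∈ R
  absorb : ∀ r, orderOf r = 3 → Commute r t → ∀ T : Subgroup G, T ≤ centralizer ({t} : Set G) →
    IsPGroup 2 T → (∀ x ∈ T, r * x * r⁻¹ ∈ T) → T ≤ R

variable [IsSimpleGroup G] (hcard : Nat.card G = 443520)

include hcard

/-- The normalizer of a subgroup of order three inside the centralizer of an involution. -/
theorem card_normalizer_three {r t : G} (hr : orderOf r = 3) (ht : orderOf t = 2) (hc : Commute r t) :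
    Nat.card (normalizer (zpowers (⟨r, mem_centralizer_singleton_iff.2 hc⟩ :
      centralizer ({t} : Set G)) : Set (centralizer ({t} : Set G)))) = 24 := by
  classical
  set C := centralizer ({t} : Set G) with hC
  set r' : C := ⟨r, mem_centralizer_singleton_iff.2 hc⟩ with hr'
  haveI : Fact (Nat.Prime 3) := ⟨Nat.prime_three⟩
  have hr3 : orderOf r' = 3 := by rw [← Subgroup.orderOf_coe]; exact hr
  have hcC : Nat.card C = 384 := cen_involution hcard ht
  have hcr : Nat.card (centralizer ({r'} : Set C)) = 12 := by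
    rw [card_centralizer_subgroup, cen_three_inf_involution hcard hr ht hc]
  set N := normalizer (zpowers r' : Set C) with hN
  have hub : Nat.card N ≤ 24 := by
    by_cases h : ∃ x ∈ N, x * r' * x⁻¹ = r'⁻¹
    · obtain ⟨x₀, -, hx₀⟩ := h
      have hsub : (N : Set C) ⊆ (centralizer ({r'} : Set C) : Set C) ∪
          (fun y => x₀ * y) '' (centralizer ({r'} : Set C) : Set C) := by
        intro x hx
        obtain ⟨k, hk⟩ := mem_zpowers_iff.1 (conj_mem_of_mem_normalizer hx (mem_zpowers r'))
        have hk' : k % 3 = 0 ∨ k % 3 = 1 ∨ k % 3 = 2 := by omega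
        have hpow : r' ^ k = r' ^ (k % 3) := by
          conv_lhs => rw [← zpow_mod_orderOf r' k, hr3]
          norm_num
        rcases hk' with h | h | h <;> rw [hpow, h] at hk
        · rw [zpow_zero] at hk
          have h1 := congrArg orderOf hk
          rw [orderOf_one, orderOf_conj, hr3] at h1
          omega
        · rw [zpow_one] at hk
          exact Or.inl (mem_centralizer_singleton_iff.2 (mul_inv_eq_iff_eq_mul.1 hk.symm))
        · refine Or.inr ⟨x₀⁻¹ * x, mem_centralizer_singleton_iff.2 ?_, by simp⟩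
          have h2 : r' ^ (2 : ℤ) = r'⁻¹ := by
            refine eq_inv_of_mul_eq_one_left ?_
            rw [zpow_ofNat, ← pow_succ]
            simpa [hr3] using pow_orderOf_eq_one r'
          rw [h2, ← hx₀] at hk
          rw [← mul_inv_eq_iff_eq_mul, mul_inv_rev, inv_inv]
          calc x₀⁻¹ * x * r' * (x⁻¹ * x₀) = x₀⁻¹ * (x * r' * x⁻¹) * x₀ := by group
            _ = r' := by rw [← hk]; group
      have h1 := (Set.ncard_le_ncard hsub).trans (Set.ncard_union_le _ _)
      have h2 := Set.ncard_image_le (f := fun y => x₀ * y)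
        (s := ((centralizer ({r'} : Set C)) : Set C))
      simp only [SetLike.coe_sort_coe, ← Nat.card_coe_set_eq] at h1 h2
      omega
    · push Not at h
      refine le_trans (Nat.le_of_dvd Nat.card_pos (card_dvd_of_le fun x hx => ?_)) (by rw [hcr]; norm_num)
      obtain ⟨k, hk⟩ := mem_zpowers_iff.1 (conj_mem_of_mem_normalizer hx (mem_zpowers r'))
      have hk' : k % 3 = 0 ∨ k % 3 = 1 ∨ k % 3 = 2 := by omega
      have hpow : r' ^ k = r' ^ (k % 3) := by
        conv_lhs => rw [← zpow_mod_orderOf r' k, hr3]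
        norm_num
      rcases hk' with h' | h' | h' <;> rw [hpow, h'] at hk
      · rw [zpow_zero] at hk
        have h1 := congrArg orderOf hk
        rw [orderOf_one, orderOf_conj, hr3] at h1
        omega
      · rw [zpow_one] at hk
        exact mem_centralizer_singleton_iff.2 (mul_inv_eq_iff_eq_mul.1 hk.symm)
      · refine absurd ?_ (h x hx)
        rw [← hk]
        refine eq_inv_of_mul_eq_one_left ?_
        rw [zpow_ofNat, ← pow_succ]
        simpa [hr3] using pow_orderOf_eq_one r'
  obtain ⟨P, hP⟩ := (IsPGroup.of_card (p := 3) (n := 1)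
    (by rw [Nat.card_zpowers, hr3, pow_one]) : IsPGroup 3 (zpowers r')).exists_le_sylow
  have hcP : Nat.card (P : Subgroup C) = 3 := by
    rw [P.card_eq_multiplicity, hcC, show (384 : ℕ) = 3 ^ 1 * 128 by norm_num,
      Nat.factorization_mul (by norm_num) (by norm_num), Nat.Prime.factorization_pow Nat.prime_three]
    simp [Nat.factorization_eq_zero_of_not_dvd (show ¬ 3 ∣ 128 by norm_num)]
  have hPz : (P : Subgroup C) = zpowers r' :=
    (eq_of_le_of_card_ge hP (by rw [hcP, Nat.card_zpowers, hr3])).symm
  have hn := P.card_eq_index_normalizer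
  rw [show ((P : Sylow 3 C) : Set C) = ((zpowers r' : Subgroup C) : Set C) by rw [← hPz]; rfl] at hn
  have hmod := card_sylow_modEq_one 3 C
  rw [Nat.ModEq, hn] at hmod
  have hmul := (normalizer (zpowers r' : Set C)).card_mul_index
  rw [hcC] at hmul
  have hlow : 12 ∣ Nat.card N := hcr ▸ card_dvd_of_le fun x hx => mem_normalizer_of_conj fun y hy => by
    obtain ⟨k, rfl⟩ := mem_zpowers_iff.1 hy
    have hxc : Commute x r' := mem_centralizer_singleton_iff.1 hx
    rw [(hxc.zpow_right k).eq, mul_inv_cancel_right]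
    exact hy
  have h2 : Nat.card N = 12 ∨ Nat.card N = 24 := by
    obtain ⟨k, hk⟩ := hlow
    have := Nat.card_pos (α := N)
    omega
  rcases h2 with h2 | h2
  · rw [← hN] at hmod hmul
    rw [h2] at hmul
    have : N.index = 32 := by omega
    rw [this] at hmod
    omega
  · exact h2

/-- No normal subgroup of index three in the centralizer of an involution. -/
theorem not_normal_sylow {r t : G} (hr : orderOf r = 3) (ht : orderOf t = 2) (hc : Commute r t)
    (S : Subgroup (centralizer ({t} : Set G))) [hS : S.Normal] : Nat.card S ≠ 128 := by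
  classical
  intro h128
  set r' : centralizer ({t} : Set G) := ⟨r, mem_centralizer_singleton_iff.2 hc⟩ with hr'
  set N := normalizer (zpowers r' : Set (centralizer ({t} : Set G))) with hN
  have hr3 : orderOf r' = 3 := by rw [← Subgroup.orderOf_coe]; exact hr
  have hN24 : Nat.card N = 24 := card_normalizer_three hcard hr ht hc
  have hidx : S.index = 3 := by
    have := S.card_mul_index
    rw [h128, show Nat.card (centralizer ({t} : Set G)) = 384 from cen_involution hcard ht] at this
    omega
  have hle : (S ⊓ N).relIndex N ≤ 3 := by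
    rw [Subgroup.inf_relIndex_right]
    exact Nat.le_of_dvd (by norm_num) (hidx ▸ S.relIndex_dvd_index_of_normal N)
  have hmul := relIndex_mul_relIndex ⊥ (S ⊓ N) N bot_le inf_le_right
  rw [relIndex_bot_left, relIndex_bot_left, hN24] at hmul
  have hsub : S ⊓ N ≤ centralizer ({r'} : Set (centralizer ({t} : Set G))) := by
    rintro x ⟨hxS, hxN⟩
    have h1 : x * r' * x⁻¹ * r'⁻¹ ∈ S := by
      have := S.mul_mem hxS (hS.conj_mem _ (S.inv_mem hxS) r')
      simpa [mul_assoc] using this
    have h2 : x * r' * x⁻¹ * r'⁻¹ ∈ zpowers r' :=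
      mul_mem (conj_mem_of_mem_normalizer hxN (mem_zpowers r')) (inv_mem (mem_zpowers r'))
    have h3 : S ⊓ zpowers r' = ⊥ := by
      refine Subgroup.inf_eq_bot_of_coprime ?_
      rw [h128, Nat.card_zpowers, hr3]; norm_num
    have h4 := Subgroup.mem_bot.1 (h3 ▸ mem_inf.2 ⟨h1, h2⟩)
    exact mem_centralizer_singleton_iff.2 (mul_inv_eq_iff_eq_mul.1 (mul_inv_eq_one.1 h4))
  have hd12 : Nat.card (S ⊓ N : Subgroup (centralizer ({t} : Set G))) ∣ 12 := by
    refine (card_dvd_of_le hsub).trans ?_
    rw [card_centralizer_subgroup, cen_three_inf_involution hcard hr ht hc]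
  have hd128 : Nat.card (S ⊓ N : Subgroup (centralizer ({t} : Set G))) ∣ 128 := h128 ▸ card_dvd_of_le inf_le_left
  have h4 : Nat.card (S ⊓ N : Subgroup (centralizer ({t} : Set G))) ∣ 4 := by simpa using Nat.dvd_gcd hd12 hd128
  have h4' := Nat.le_of_dvd (by norm_num) h4
  nlinarith

theorem exists_core {t : G} (ht : orderOf t = 2) : ∃ R : Subgroup G, Core t R := by
  classical
  set C := centralizer ({t} : Set G) with hC
  have hcC : Nat.card C = 384 := cen_involution hcard ht
  haveI : Fact (Nat.Prime 2) := ⟨Nat.prime_two⟩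
  obtain ⟨⟨r, hrC⟩, hr⟩ := exists_prime_orderOf_dvd_card' (G := C) 3 (by rw [hcC]; norm_num)
  rw [Subgroup.orderOf_mk] at hr
  have hc : Commute r t := mem_centralizer_singleton_iff.1 hrC
  obtain ⟨S⟩ : Nonempty (Sylow 2 C) := inferInstance
  have hcS : Nat.card (S : Subgroup C) = 128 := by
    rw [S.card_eq_multiplicity, hcC, show (384 : ℕ) = 2 ^ 7 * 3 by norm_num,
      Nat.factorization_mul (by norm_num) (by norm_num), Nat.Prime.factorization_pow Nat.prime_two]
    simp [Nat.factorization_eq_zero_of_not_dvd (show ¬ 2 ∣ 3 by norm_num)]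
  have hidx : (S : Subgroup C).index = 3 := by
    have := (S : Subgroup C).card_mul_index
    rw [hcS, hcC] at this
    omega
  set R₀ := (S : Subgroup C).normalCore with hR₀
  have hdiv : R₀.index ∣ 6 := by
    rw [hR₀, normalCore_eq_ker, Subgroup.index_ker]
    refine (card_subgroup_dvd_card _).trans ?_
    rw [Nat.card_perm, ← Subgroup.index, hidx]
    rfl
  have hR₀le : R₀ ≤ (S : Subgroup C) := normalCore_le _
  have hcR : Nat.card R₀ = 64 := by
    have hd : Nat.card R₀ ∣ 128 := hcS ▸ card_dvd_of_le hR₀le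
    have hm := R₀.card_mul_index
    rw [hcC] at hm
    have hne : Nat.card R₀ ≠ 128 := not_normal_sylow hcard hr ht hc R₀
    obtain ⟨k, hk, hk'⟩ := (Nat.dvd_prime_pow Nat.prime_two (m := 7)).1 hd
    have h6 := Nat.le_of_dvd (by norm_num) hdiv
    rw [hk'] at hm hne ⊢
    interval_cases k <;> omega
  refine ⟨R₀.map C.subtype, ⟨?_, ?_, ?_, ?_⟩⟩
  · rintro _ ⟨x, -, rfl⟩; exact x.2
  · rw [card_map_subtype, hcR]
  · intro g hg x hx
    obtain ⟨y, hy, rfl⟩ := hx
    exact ⟨⟨g, mem_centralizer_singleton_iff.2 hg⟩ * y * ⟨g, mem_centralizer_singleton_iff.2 hg⟩⁻¹,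
      (normalCore_normal _).conj_mem y hy _, rfl⟩
  · intro q hq hqt T hT hT2 hTq
    set T' := T.subgroupOf C with hT'
    have hT'2 : IsPGroup 2 T' := hT2.of_equiv (subgroupOfEquivOfLe hT).symm
    have hsup : IsPGroup 2 (T' ⊔ R₀ : Subgroup C) :=
      hT'2.to_sup_of_normal_right (S.2.to_le hR₀le)
    obtain ⟨k, hk⟩ := IsPGroup.iff_card.1 hsup
    have hdvd : 2 ^ k ∣ 384 := hk ▸ hcC ▸ card_subgroup_dvd_card _
    have hle : 64 ≤ 2 ^ k := hcR ▸ hk ▸ Nat.le_of_dvd Nat.card_pos (card_dvd_of_le le_sup_right)
    have hk67 : k = 6 ∨ k = 7 := by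
      have h1 : 6 ≤ k := by
        by_contra h
        have := Nat.pow_le_pow_right (show 2 ≥ 1 by norm_num) (show k ≤ 5 by omega)
        omega
      have h2 : k ≤ 7 := by
        by_contra h
        have := (pow_dvd_pow 2 (show 8 ≤ k by omega)).trans hdvd
        norm_num at this
      omega
    intro x hx
    rcases hk67 with rfl | rfl
    · have heq : R₀ = T' ⊔ R₀ := eq_of_le_of_card_ge le_sup_right (by rw [hk, hcR]; norm_num)
      exact ⟨⟨x, hT hx⟩, heq ▸ mem_sup_left (show (⟨x, hT hx⟩ : C) ∈ T' from hx), rfl⟩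
    · exfalso
      set q' : C := ⟨q, mem_centralizer_singleton_iff.2 hqt⟩ with hq'
      set K := T' ⊔ R₀ with hK
      have hqn : q' ∈ normalizer (K : Set C) := by
        refine mem_normalizer_of_conj fun y hy => ?_
        have hmap : K.map (MulAut.conj q').toMonoidHom ≤ K := by
          rw [hK, Subgroup.map_sup]
          refine sup_le_sup ?_ ?_
          · rintro _ ⟨z, hz, rfl⟩; exact hTq _ hz
          · rintro _ ⟨z, hz, rfl⟩; exact (normalCore_normal _).conj_mem z hz _
        exact hmap ⟨y, hy, rfl⟩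
      have hdN : 384 ∣ Nat.card (normalizer (K : Set C)) := by
        refine Nat.Coprime.mul_dvd_of_dvd_of_dvd (show Nat.Coprime 3 128 by norm_num) ?_ ?_
        · have := orderOf_dvd_natCard (⟨q', hqn⟩ : normalizer (K : Set C))
          rwa [Subgroup.orderOf_mk, ← Subgroup.orderOf_coe, hq] at this
        · exact (show Nat.card K = 128 by rw [hk]; norm_num) ▸ card_dvd_of_le le_normalizer
      haveI : K.Normal := normalizer_eq_top_iff.1 (eq_top_of_le_card _
        (hcC ▸ Nat.le_of_dvd Nat.card_pos hdN))
      exact not_normal_sylow hcard hr ht hc K (by rw [hk]; norm_num)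

end Cfsg.Agent.M22Order
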