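import Cfsg.Agent.Lib.M22Order.Three

/-!
# Simple groups of order 443520: involutions commuting with an involution
-/

set_option autoImplicit false
set_option linter.style.haveILetI false
set_option linter.unusedSectionVars false

namespace Cfsg.Agent.M22Order

open Subgroup
open Cfsg.Agent.Characters Cfsg.Agent.Blocks Cfsg.Agent.PrimeBlock
open Cfsg.Agent.SmallSimple Cfsg.Agent.SmallSimple.Basic
open Cfsg.Agent.M12Order (cen cls)
open scoped ComplexConjugate

universe u

variable {G : Type u} [Group G] [Finite G] [IsSimpleGroup G] (hcard : Nat.card G = 443520)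

include hcard

/-- **Fifty involutions besides `t` commute with the involution `t`.** -/
theorem card_commuting_involutions {t : G} (ht : orderOf t = 2) :
    Nat.card {u : G // orderOf u = 2 ∧ Commute u t ∧ u ≠ t} = 50 := by
  classical
  haveI := Fintype.ofFinite (Cfsg.IrrCharacter G)
  haveI := Fintype.ofFinite G
  obtain ⟨T⟩ := exists_chars hcard
  have h := class_pairs (G := G) t t t
  have hv : ∀ χ : Cfsg.IrrCharacter G, deg χ ≠ 1 → (χ : G → ℂ) t = (valOf (deg χ) : ℂ) :=
    fun χ h => T.inv_val t ht χ (Chars.ne_triv_of_deg h)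
  rw [T.sum_all, hcard, hv T.a (by rw [T.da]; norm_num), hv T.b (by rw [T.db]; norm_num),
    hv T.b' (by rw [T.db']; norm_num), hv T.c (by rw [T.dc]; norm_num),
    hv T.d (by rw [T.dd]; norm_num), hv T.e (by rw [T.de]; norm_num),
    hv T.g (by rw [T.dg]; norm_num), hv T.h (by rw [T.dh]; norm_num),
    hv T.k (by rw [T.dk]; norm_num), hv T.k' (by rw [T.dk']; norm_num),
    hv T.w (by rw [T.dw]; norm_num)] at h
  simp only [← deg_cast, trivIrr_coe, map_intCast, map_one, deg_trivIrr, T.da, T.db, T.db', T.dc, T.dd,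
    T.de, T.dg, T.dh, T.dk, T.dk', T.dw, valOf] at h
  norm_num at h
  -- the pairs
  set Q : G → Prop := fun u => orderOf (u * t) = 2 with hQ
  have hcj : ∀ g : G, orderOf (g * t * g⁻¹) = 2 := fun g =>
    (MulEquiv.orderOf_eq (MulAut.conj g) t).trans ht
  have hcnt : Nat.card {p : G × G // (p.1 * t * p.1⁻¹) * (p.2 * t * p.2⁻¹) = t} =
      384 * (384 * Nat.card {u : G // IsConj t u ∧ Q u}) := by
    have e : Nat.card {p : G × G // (p.1 * t * p.1⁻¹) * (p.2 * t * p.2⁻¹) = t} =
        Nat.card (Σ a : G, {b : G // b * t * b⁻¹ = (a * t * a⁻¹) * t}) := by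
      refine Nat.card_congr
        { toFun := fun p => ⟨p.1.1, p.1.2, ?_⟩
          invFun := fun z => ⟨(z.1, z.2.1), ?_⟩
          left_inv := fun p => rfl
          right_inv := fun z => rfl }
      · have := p.2
        have hi : (p.1.1 * t * p.1.1⁻¹)⁻¹ = p.1.1 * t * p.1.1⁻¹ :=
          inv_eq_self_of_orderOf_eq_two (hcj _)
        calc p.1.2 * t * p.1.2⁻¹ = (p.1.1 * t * p.1.1⁻¹)⁻¹ *
            ((p.1.1 * t * p.1.1⁻¹) * (p.1.2 * t * p.1.2⁻¹)) := (inv_mul_cancel_left _ _).symm
          _ = _ := by rw [this, hi]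
      · show z.1 * t * z.1⁻¹ * (z.2.1 * t * z.2.1⁻¹) = t
        rw [z.2.2]
        conv_lhs => rw [← mul_assoc]
        have hi : (z.1 * t * z.1⁻¹) * (z.1 * t * z.1⁻¹) = 1 := by
          have := pow_orderOf_eq_one (z.1 * t * z.1⁻¹)
          rwa [hcj, pow_two] at this
        rw [hi, one_mul]
    rw [e, Nat.card_sigma]
    have e2 : ∀ a : G, Nat.card {b : G // b * t * b⁻¹ = (a * t * a⁻¹) * t} =
        if Q (a * t * a⁻¹) then 384 else 0 := fun a => by
      split_ifs with hq
      · rw [card_conjugating_eq_centralizer (isConj_involution hcard ht hq)]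
        exact cen_involution hcard ht
      · rw [Nat.card_eq_zero]
        exact Or.inl ⟨fun b => hq (by show orderOf _ = 2; rw [← b.2]; exact hcj _)⟩
    rw [Finset.sum_congr rfl fun a _ => e2 a, ← Finset.sum_filter, Finset.sum_const, smul_eq_mul,
      ← Fintype.card_subtype, ← Nat.card_eq_fintype_card, card_conjugating t Q]
    rw [show Nat.card (centralizer ({t} : Set G)) = 384 from cen_involution hcard ht]
    ring
  rw [← Nat.card_eq_fintype_card, hcnt] at h
  push_cast at h
  have h50 : Nat.card {u : G // IsConj t u ∧ Q u} = 50 := by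
    have : (Nat.card {u : G // IsConj t u ∧ Q u} : ℂ) = 50 := by linear_combination -(1 / 147456 : ℂ) * h
    exact_mod_cast this
  rw [← h50]
  refine Nat.card_congr (Equiv.subtypeEquivRight fun u => ?_)
  constructor
  · rintro ⟨hu, hc, hne⟩
    refine ⟨isConj_involution hcard ht hu, orderOf_eq_prime ?_ fun e => hne ?_⟩
    · have h1 := pow_orderOf_eq_one u; have h2 := pow_orderOf_eq_one t
      rw [hu] at h1; rw [ht] at h2
      rw [hc.mul_pow, h1, h2, one_mul]
    · rw [eq_inv_of_mul_eq_one_left e, inv_eq_self_of_orderOf_eq_two ht]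
  · rintro ⟨hc, hq⟩
    obtain ⟨c, rfl⟩ := isConj_iff.1 hc
    refine ⟨hcj c, ?_, fun e => ?_⟩
    · have h1 := inv_eq_self_of_orderOf_eq_two hq
      rw [mul_inv_rev, inv_eq_self_of_orderOf_eq_two (hcj c), inv_eq_self_of_orderOf_eq_two ht] at h1
      exact h1.symm
    · rw [hQ] at hq
      rw [e] at hq
      have h2 := pow_orderOf_eq_one t
      rw [ht, pow_two] at h2
      rw [h2, orderOf_one] at hq
      omega

end Cfsg.Agent.M22Order
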