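import Mathlib

/-!
# Integer data for the simple groups of order 443520

A row is the principal block for a prime to the first power, without the trivial character: the signed
degrees `M` of all but the exceptional members, the signed degree `1 + M.sum` of the `K` others, and
correspondingly the signed values `us` at an element.
-/

set_option autoImplicit false

namespace Cfsg.Agent.M22Order

/-- The group order. -/
def ord : ℤ := 443520

def divs : List ℕ :=
  (List.range 8).flatMap fun a => (List.range 3).flatMap fun b => (List.range 2).flatMap fun c =>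
    (List.range 2).flatMap fun d =>
      (List.range 2).map fun e => 2 ^ a * 3 ^ b * 5 ^ c * 7 ^ d * 11 ^ e

def degList : List ℕ := [
    2, 3, 4, 5, 6, 7, 8, 9, 10, 11, 12, 14, 15, 16, 18, 20, 21, 22, 24, 28, 30, 32, 33, 35,
    36, 40, 42, 44, 45, 48, 55, 56, 60, 63, 64, 66, 70, 72, 77, 80, 84, 88, 90, 96, 99, 105,
    110, 112, 120, 126, 128, 132, 140, 144, 154, 160, 165, 168, 176, 180, 192, 198, 210, 220,
    224, 231, 240, 252, 264, 280, 288, 308, 315, 320, 330, 336, 352, 360, 384, 385, 396, 420,
    440, 448, 462, 480, 495, 504, 528, 560, 576, 616, 630, 640, 660]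

/-- A possible degree in the principal `p`-block if `|C(P)| = p c`. -/
def dOK (p c d : ℕ) : Bool :=
  ([(2, 128), (3, 9), (5, 5), (7, 7), (11, 11)] : List (ℕ × ℕ)).all
      (fun qf => (c % qf.1 != 0) || (d % qf.2 != 0)) && ((c == 1) || decide (2 * p ≤ d))

/-- The possible signed degrees. -/
def candList (p c : ℕ) : List ℤ :=
  ((degList.filter (dOK p c)).flatMap fun d : ℕ => [(d : ℤ), -(d : ℤ)]).filter
    fun z => z % (p : ℤ) == 1

/-- The lists of length `n` up to rearrangement. -/
def combs : List ℤ → ℕ → List (List ℤ)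
  | [], n => if n = 0 then [[]] else []
  | a :: l, n =>
    (List.range (n + 1)).flatMap fun k => (combs l (n - k)).map (List.replicate k a ++ ·)

def sqSum (L : List ℤ) : ℤ := (L.map fun z => z * z).sum

/-- The possible rows for given `p`, `e`, `c` with members among `X`. -/
def rowsIn (X : List ℤ) (p e c : ℕ) : List (List ℤ) :=
  if e + 1 = p then
    (combs X (e - 1)).filter fun M =>
      X.contains (-1 - M.sum) && (M.all fun z => Nat.ble z.natAbs (-1 - M.sum).natAbs) &&
        decide (1 + sqSum M + (-1 - M.sum) * (-1 - M.sum) ≤ ord)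
  else
    (combs X (e - 1)).filter fun M =>
      degList.contains (1 + M.sum).natAbs && dOK p c (1 + M.sum).natAbs &&
        ((1 + M.sum - (e : ℤ)) % (p : ℤ) == 0) &&
        decide (1 + sqSum M + (((p - 1) / e : ℕ) : ℤ) * ((1 + M.sum) * (1 + M.sum)) ≤ ord)

def rows (p e c : ℕ) : List (List ℤ) := rowsIn (candList p c) p e c

/-- Degree and value from their signed versions. -/
def sm (z u : ℤ) : ℕ × ℤ := (z.natAbs, if 0 < z then u else -u)

/-- Degrees and values of the members. -/
def pairs (K : ℕ) (M us : List ℤ) : List (ℕ × ℤ) :=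
  List.zipWith sm M us ++ List.replicate K (sm (1 + M.sum) (1 + us.sum))

def degs (K : ℕ) (M : List ℤ) : List ℕ :=
  M.map Int.natAbs ++ List.replicate K (1 + M.sum).natAbs

/-- The class multiplication coefficient of an element with itself into the block's prime. -/
def quad (M us : List ℤ) : ℤ :=
  ord + (List.zipWith (fun z u => ord / z * (u * u)) M us).sum -
    ord / (1 + M.sum) * ((1 + us.sum) * (1 + us.sum))

/-- Evaluate a number before using it. -/
def forceN {β : Type} : ℕ → (ℕ → β) → β
  | 0, k => k 0
  | n + 1, k => k (n + 1)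

/-- Evaluate an integer before using it. -/
def forceI {β : Type} : ℤ → (ℤ → β) → β
  | Int.ofNat n, k => forceN n fun m => k (Int.ofNat m)
  | Int.negSucc n, k => forceN n fun m => k (Int.negSucc m)

/-- Evaluate a list before using it. -/
def forceL {β : Type} : List ℤ → (List ℤ → β) → β
  | [], k => k []
  | a :: l, k => forceI a fun x => forceL l fun t => k (x :: t)

/-- Evaluate a list of lists before using it. -/
def forceLL {β : Type} : List (List ℤ) → (List (List ℤ) → β) → β
  | [], k => k []
  | a :: l, k => forceL a fun x => forceLL l fun t => k (x :: t)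

/-- The largest number of square at most `C`, by bisection. -/
def sqrtB (C : ℕ) : ℕ → ℕ → ℕ → ℕ
  | 0, lo, _ => lo
  | f + 1, lo, hi =>
    forceN ((lo + hi) / 2) fun m => bif Nat.ble (m * m) C then sqrtB C f m hi else sqrtB C f lo m

def memOK (z u : ℤ) : Bool := ((z - u) % 4 == 0) && Nat.blt u.natAbs z.natAbs

/-- The possible signed values at an involution with centralizer of order `C`. -/
def opts (C : ℕ) (z : ℤ) : List ℤ :=
  forceN (z.natAbs / Nat.gcd z.natAbs (443520 / C)) fun s =>
    forceN (sqrtB C 9 0 512 / s) fun n =>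
      ((List.range (2 * n + 1)).map fun i : ℕ => ((i : ℤ) - (n : ℤ)) * (s : ℤ)).filter (memOK z)

/-- The signed values available from known members of the same degree. -/
def look (U : List (ℕ × ℤ)) (z : ℤ) : List ℤ :=
  (U.filter fun a => a.1 == z.natAbs).map fun a => if 0 < z then a.2 else -a.2

def allPick : List (List ℤ) → ℕ → (List ℤ → Bool) → Bool
  | [], _, k => k []
  | l :: ls, B, k => l.all fun a =>
    forceI a fun x => forceN (x.natAbs * x.natAbs) fun q =>
      Nat.blt B q || forceN (B - q) fun B' => allPick ls B' fun as => k (x :: as)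

/-- All value vectors of a row, with squares adding up to at most `B`, satisfy `good`. -/
def allV (B K : ℕ) (M : List ℤ) (op : ℤ → List ℤ) (good : List (ℕ × ℤ) → ℤ → Bool) : Bool :=
  forceL (op (1 + M.sum)) fun o => o.isEmpty || forceLL (M.map op) fun os =>
    allPick os B fun us => forceI (1 + us.sum) fun W =>
      !(o.contains W) || good (pairs K M us) (quad M us)

/-- The Cauchy inequality between degrees and values. -/
def csOK (C : ℕ) (P : List (ℕ × ℤ)) : Bool :=
  let a := 1 + (P.map fun x => x.2 * x.2).sum
  let b := 1 + (P.map fun x => (x.1 : ℤ) * (x.1 : ℤ)).sum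
  let s := 1 + (P.map fun x => (x.1 : ℤ) * x.2).sum
  decide (a ≤ (C : ℤ)) && decide (b ≤ ord) && decide (s * s ≤ (ord - b) * ((C : ℤ) - a))

/-- Values at an element commuting with an element of order `q`, where `q` divides the degree. -/
def singOK (q : ℤ) (z u : ℤ) : Bool := (z % q != 0) || (u % q == 0)

/-- Some member may lie in the principal `q`-block, with `q` dividing the centralizer. -/
def commonOK (q : ℕ) (P : List (ℕ × ℤ)) : Bool :=
  P.any fun x => (x.1 % q != 0) && decide (2 * q ≤ x.1) && (((x.1 : ℤ) - x.2) % (q : ℤ) == 0)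

/-- Value vectors of the principal 11-block. -/
def all11 (M : List ℤ) (C : ℕ) (ext : ℤ → ℤ → Bool) (good : List (ℕ × ℤ) → Bool) : Bool :=
  allV (C - 1) 2 M (fun z => (opts C z).filter (ext z)) fun P Q => (Q != 0) || !csOK C P || good P

/-- Degrees prime to both primes agree. -/
def agree (p q : ℕ) (A B : List ℕ) : Bool :=
  let f := fun d : ℕ => (d % p != 0) && (d % q != 0)
  (A.filter f).isPerm (B.filter f)

/-- Values known for the degrees that `p` does not divide, any other value otherwise. -/
def opts1 (C : ℕ) (p : ℕ) (U : List (ℕ × ℤ)) (z : ℤ) : List ℤ :=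
  if z.natAbs % p != 0 then look U z else opts C z

/-- The new members. -/
def fresh (p : ℕ) (P : List (ℕ × ℤ)) : List (ℕ × ℤ) := P.filter fun x => x.1 % p == 0

def cs7 : List ℕ := [56, 168, 448, 840, 1344, 2016, 2520, 6720, 20160]

def cs5 : List ℕ := [
    10, 20, 30, 40, 60, 70, 80, 90, 120, 140, 160, 180, 210, 240, 280, 320, 360, 420, 480,
    560, 630, 640, 720, 840, 960, 1120, 1260, 1440, 1680, 1920, 2240, 2520, 2880, 3360, 4480,
    5040, 5760, 6720, 10080, 13440, 20160, 40320]

def cs2 : List ℕ := [
    2, 4, 6, 8, 12, 16, 18, 24, 32, 36, 48, 64, 72, 96, 128, 144, 192, 288, 384, 576, 1152]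

def cs128 : List ℕ := [
    128, 384, 640, 896, 1152, 1920, 2688, 4480, 5760, 8064, 13440, 40320]

/-- The six possibilities for `(e, c)` at seven with `c ≠ 1`. -/
def ec7 : List (ℕ × ℕ) := [(2, 12), (2, 96), (3, 8), (3, 64), (6, 4), (6, 32)]

/-- The four survivors when `|C(P₅)| ≠ 5`. -/
def four : List (List ℤ) :=
  [[56, 210, -21, -120], [56, 56, -21, -120], [56, -21, -21, -120], [56, -21, -120, -252]]

/-- The values at an involution. -/
def target : List (ℕ × ℤ) :=
  [(21, 5), (45, -3), (45, -3), (55, 7), (99, 3), (154, 10), (210, 2), (231, 7), (280, -8), (280, -8)]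

end Cfsg.Agent.M22Order
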