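import Cfsg.Agent.Lib.M22Order.View

/-!
# Simple groups of order 443520: the Sylow 11-subgroups are their own centralizers
-/

set_option autoImplicit false
set_option linter.style.haveILetI false
set_option linter.unusedSectionVars false

namespace Cfsg.Agent.M22Order

open Subgroup
open Cfsg.Agent.Characters Cfsg.Agent.Blocks Cfsg.Agent.PrimeBlock
open Cfsg.Agent.SmallSimple
open Cfsg.Agent.M12Order (cen)

universe u

variable {G : Type u} [Group G] [Finite G] [IsSimpleGroup G] (hcard : Nat.card G = 443520)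

include hcard

theorem p_not_dvd_c {p : ℕ} [Fact p.Prime] (hp : p = 5 ∨ p = 7 ∨ p = 11) {P : Sylow p G} {c : ℕ}
    (hC : Nat.card (centralizer ((P : Subgroup G) : Set G)) = p * c) : ¬ p ∣ c := fun hd => by
  have h2 : p ^ 2 ∣ Nat.card G := by
    rw [pow_two]
    exact (Nat.mul_dvd_mul_left p hd).trans (hC ▸ card_subgroup_dvd_card _)
  have := ((Fact.out : p.Prime).pow_dvd_iff_le_factorization Nat.card_pos.ne').1 h2
  rw [factorization_one hcard hp] at this
  omega

/-- The centralizer of a Sylow 11-subgroup is not of order `11 · 28`. -/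
theorem not_twenty_eight (P : Sylow 11 G)
    (hC : Nat.card (centralizer ((P : Subgroup G) : Set G)) = 11 * 28)
    (hN : Nat.card (normalizer ((P : Subgroup G) : Set G)) = 11 * 28 * 10) : False := by
  classical
  have hG := not_comm hcard
  set C := centralizer ((P : Subgroup G) : Set G) with hCdef
  obtain ⟨⟨y, hyC⟩, hy⟩ := exists_prime_orderOf_dvd_card' (G := C) 7 (by rw [hC]; norm_num)
  rw [Subgroup.orderOf_mk] at hy
  obtain ⟨Q, hQ⟩ := exists_sylow_eq hcard (q := 7) (Or.inr (Or.inl rfl)) hy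
  have hQc := card_sylow hcard (q := 7) (Or.inr (Or.inl rfl)) Q
  have hQC : (Q : Subgroup G) ≤ C := hQ ▸ zpowers_le.2 hyC
  have hPc := card_sylow hcard (q := 11) (Or.inr (Or.inr rfl)) P
  set NQ := normalizer ((Q : Subgroup G) : Set G) with hNQ
  have hPC : (P : Subgroup G) ≤ C := fun z hz => mem_centralizer_iff.2 fun w hw => by
    haveI : IsCyclic (P : Subgroup G) := isCyclic_of_prime_card hPc
    letI := IsCyclic.commGroup (α := (P : Subgroup G))
    exact congrArg Subtype.val (mul_comm (⟨w, hw⟩ : (P : Subgroup G)) ⟨z, hz⟩)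
  have hPQ : (P : Subgroup G) ≤ centralizer ((Q : Subgroup G) : Set G) := fun z hz =>
    mem_centralizer_iff.2 fun w hw => (mem_centralizer_iff.1 (hQC hw) z hz).symm
  have hPN : (P : Subgroup G) ≤ NQ := hPQ.trans (centralizer_le_normalizer ..)
  -- `Q` is the only Sylow 7-subgroup of `C`
  have hmod := relIndex_mod Q C hQC
  have hmul : Nat.card (NQ ⊓ C : Subgroup G) * NQ.relIndex C = 308 := by
    rw [show (308 : ℕ) = Nat.card C by rw [hC], ← Subgroup.inf_relIndex_right, Subgroup.relIndex,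
      ← Nat.card_congr (subgroupOfEquivOfLe (inf_le_right : NQ ⊓ C ≤ C)).toEquiv, card_mul_index]
  have h77 : 77 ∣ Nat.card (NQ ⊓ C : Subgroup G) := by
    have a1 := card_dvd_of_le (le_inf (le_normalizer : (Q : Subgroup G) ≤ NQ) hQC)
    have a2 := card_dvd_of_le (le_inf hPN hPC)
    rw [hQc] at a1; rw [hPc] at a2
    exact Nat.Coprime.mul_dvd_of_dvd_of_dvd (by norm_num) a1 a2
  have h1 : NQ.relIndex C = 1 := by
    obtain ⟨k, hk⟩ := h77
    rw [hk] at hmul
    have : k * NQ.relIndex C = 4 := by nlinarith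
    have hle : NQ.relIndex C ≤ 4 := Nat.le_of_dvd (by norm_num) ⟨k, by rw [← this, mul_comm]⟩
    rw [← hNQ] at hmod
    omega
  have hCN : C ≤ NQ := relIndex_eq_one.1 h1
  have hNN : normalizer ((P : Subgroup G) : Set G) ≤ NQ := by
    suffices hQn : ∀ n ∈ normalizer ((P : Subgroup G) : Set G), ∀ q ∈ (Q : Subgroup G),
        n * q * n⁻¹ ∈ (Q : Subgroup G) by
      refine fun n hn => mem_normalizer_iff.2 fun q => ⟨hQn n hn q, fun h => ?_⟩
      have := hQn n⁻¹ (inv_mem hn) _ h
      simpa [mul_assoc] using this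
    intro n hn q hq
    have hqC : n * q * n⁻¹ ∈ C := by
      refine mem_centralizer_iff.2 fun w hw => ?_
      have hw' : n⁻¹ * w * n ∈ (P : Subgroup G) := (mem_normalizer_iff''.1 hn w).1 hw
      have := mem_centralizer_iff.1 (hQC hq) _ hw'
      calc w * (n * q * n⁻¹) = n * ((n⁻¹ * w * n) * q) * n⁻¹ := by group
        _ = n * (q * (n⁻¹ * w * n)) * n⁻¹ := by rw [this]
        _ = n * q * n⁻¹ * w := by group
    have hN' : n * q * n⁻¹ ∈ NQ := hCN hqC
    have hp7 : IsPGroup 7 (zpowers (n * q * n⁻¹) : Subgroup G) := by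
      refine IsPGroup.of_card (n := if q = 1 then 0 else 1) ?_
      rw [Nat.card_zpowers, show orderOf (n * q * n⁻¹) = orderOf q from
        MulEquiv.orderOf_eq (MulAut.conj n) q]
      split_ifs with h
      · simp [h]
      · rw [pow_one]
        refine orderOf_eq_prime ?_ h
        have := pow_card_eq_one' (G := (Q : Subgroup G)) (x := ⟨q, hq⟩)
        rw [hQc] at this
        exact congrArg Subtype.val this
    have h2 : IsPGroup 7 ((Q : Subgroup G) ⊔ zpowers (n * q * n⁻¹) : Subgroup G) :=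
      Q.isPGroup'.to_sup_of_normal_left' hp7 (zpowers_le.2 hN')
    have h3 := Q.is_maximal' h2 le_sup_left
    exact h3 ▸ (le_sup_right : zpowers (n * q * n⁻¹) ≤ _) (mem_zpowers _)
  obtain ⟨D, ht, hts⟩ := exists_pblock' hG (by norm_num) Q hQc
  obtain ⟨c, hc, hNc, he2, -⟩ := sylow_params hcard (Or.inr (Or.inl rfl)) D
  rw [← hNQ] at hNc
  have h3080 : 3080 ∣ Nat.card NQ := by
    have := card_dvd_of_le hNN
    rwa [hN] at this
  obtain ⟨hdvd, hn7, -, hfac⟩ := Basic.sylow_count (p := 7) hG (by rw [hcard]; norm_num) (a := 1)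
    (m := 63360) (by rw [hcard]; norm_num) (by norm_num)
  have hmulN := Basic.card_normalizer_mul Q
  rw [← hNQ, hcard] at hmulN
  rw [hcard] at hfac
  set n7 := Nat.card (Sylow 7 G)
  have hn : n7 ∣ 144 := by
    obtain ⟨k, hk⟩ := h3080
    exact ⟨k, by rw [hk] at hmulN; linarith⟩
  have h36 : n7 = 36 := by
    have key : ∀ m ∈ Finset.range 145, m ∣ 144 → m % 7 = 1 →
        2 * 443520 ∣ m.factorial ∧ m < 11 → False := by decide +kernel
    have hle := Nat.le_of_dvd (by norm_num) hn
    have key2 : ∀ m ∈ Finset.range 145, m ∣ 144 → m % 7 = 1 → m < 11 ∨ m = 36 := by decide +kernel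
    rcases key2 n7 (Finset.mem_range.2 (by omega)) hn hn7 with h | h
    · exact (key n7 (Finset.mem_range.2 (by omega)) hn hn7 ⟨hfac, h⟩).elim
    · exact h
  rw [h36, hNc] at hmulN
  have hce : c * D.e = 1760 := by nlinarith
  have h11 : 11 ∣ c := by
    have := card_dvd_of_le hPQ
    rw [hPc, hc] at this
    exact ((Nat.prime_iff.1 (by norm_num : Nat.Prime 11)).dvd_or_dvd this).resolve_left (by norm_num)
  have he : D.e = 2 := by
    have h6 := D.e_dvd
    have hlt := D.e_lt
    have hd : D.e ∣ 1760 := ⟨c, by rw [← hce, mul_comm]⟩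
    have key : ∀ e ∈ Finset.range 7, e ∣ 7 - 1 → e ∣ 1760 → 2 ≤ e → e = 2 := by decide
    exact key D.e (Finset.mem_range.2 hlt) h6 hd he2
  have hc880 : c = 880 := by rw [he] at hce; omega
  obtain ⟨R, hR⟩ := exists_prow hcard (Or.inr (Or.inl rfl)) ht hts hc (p_not_dvd_c hcard (Or.inr (Or.inl rfl)) hc)
    (candList 7 880) fun χ _ _ s _ h => hc880 ▸ h
  rw [he, hc880] at hR
  have := ec_880
  rw [List.isEmpty_iff, rows] at this
  rw [this] at hR
  exact absurd hR (by simp)

/-- **The Sylow 11-subgroups are their own centralizers, of index five in their normalizers.** -/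
theorem sylow_eleven (P : Sylow 11 G) (D : PBlock P) (ht : trivIrr G ∈ D.X)
    (hts : D.sgn (trivIrr G) = 1) : D.e = 5 ∧
      Nat.card (centralizer ((P : Subgroup G) : Set G)) = 11 ∧
      Nat.card (normalizer ((P : Subgroup G) : Set G)) = 55 := by
  obtain ⟨c, hc, hN, he2, hmem⟩ := sylow_params hcard (Or.inr (Or.inr rfl)) D
  have hpc := p_not_dvd_c hcard (Or.inr (Or.inr rfl)) hc
  obtain ⟨R, hR⟩ := exists_prow hcard (Or.inr (Or.inr rfl)) ht hts hc hpc (candList 11 c)
    fun χ _ _ s _ h => h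
  have key := List.all_eq_true.1 ec_eleven (D.e, c) hmem
  simp only [Bool.or_eq_true, beq_iff_eq, Prod.mk.injEq, List.isEmpty_iff] at key
  rcases key with (⟨he, hc1⟩ | ⟨he, hc1⟩) | h
  · rw [hc1] at hc hN; rw [he] at hN
    exact ⟨he, hc, hN⟩
  · rw [hc1] at hc hN; rw [he] at hN
    exact (not_twenty_eight hcard P hc hN).elim
  · rw [rows] at h; rw [h] at hR; exact absurd hR (by simp)

theorem card_centralizer_eleven (P : Sylow 11 G) :
    Nat.card (centralizer ((P : Subgroup G) : Set G)) = 11 := by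
  obtain ⟨D, ht, hts⟩ := exists_pblock' (not_comm hcard) (by norm_num) P
    (card_sylow hcard (Or.inr (Or.inr rfl)) P)
  exact (sylow_eleven hcard P D ht hts).2.1

theorem not_dvd_cen_eleven {g : G} (hg : g ≠ 1) (h : ¬ 11 ∣ orderOf g) : ¬ 11 ∣ cen g :=
  not_dvd_cen (card_centralizer_eleven hcard) (fun Q => card_sylow hcard (Or.inr (Or.inr rfl)) Q) hg h

end Cfsg.Agent.M22Order
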