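import Cfsg.Agent.Lib.M22Order.Elem

/-!
# Simple groups of order 443520: the symplectic form on the elementary subgroup
-/

set_option autoImplicit false
set_option linter.style.haveILetI false
set_option linter.unusedSectionVars false

namespace Cfsg.Agent.M22Order

open Subgroup
open Cfsg.Agent.M12Order (cen card_fixed_mod)

universe u

variable {G : Type u} [Group G] [Finite G]

/-- Two involutions with a common element of order three in their centralizers. -/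
def Bad (x z : G) : Prop := x ≠ 1 ∧ z ≠ 1 ∧ x ≠ z ∧ ∃ r, orderOf r = 3 ∧ Commute r x ∧ Commute r z

theorem bad_comm {x z : G} : Bad x z ↔ Bad z x :=
  ⟨fun ⟨h1, h2, h3, r, h4, h5, h6⟩ => ⟨h2, h1, Ne.symm h3, r, h4, h6, h5⟩,
    fun ⟨h1, h2, h3, r, h4, h5, h6⟩ => ⟨h2, h1, Ne.symm h3, r, h4, h6, h5⟩⟩

theorem Bad.conj {x z : G} (g : G) (h : Bad x z) : Bad (g * x * g⁻¹) (g * z * g⁻¹) := by
  obtain ⟨h1, h2, h3, r, h4, h5, h6⟩ := h
  exact ⟨fun e => h1 (by simpa using e), fun e => h2 (by simpa using e), fun e => h3 (by simpa using e),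
    g * r * g⁻¹, by rw [orderOf_conj, h4], commute_conj g h5, commute_conj g h6⟩

theorem bad_conj {x z : G} (g : G) : Bad (g * x * g⁻¹) (g * z * g⁻¹) ↔ Bad x z := by
  refine ⟨fun h => ?_, Bad.conj g⟩
  have := h.conj g⁻¹
  simpa [mul_assoc] using this

open Classical in
/-- The form. -/
noncomputable def frm (x z : G) : ZMod 2 := if Bad x z then 1 else 0

theorem frm_comm (x z : G) : frm x z = frm z x := by
  classical
  simp only [frm, bad_comm (x := x) (z := z)]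

theorem frm_conj (g x z : G) : frm (g * x * g⁻¹) (g * z * g⁻¹) = frm x z := by
  classical
  simp only [frm, bad_conj]

theorem frm_self (x : G) : frm x x = 0 := by
  classical
  exact if_neg fun h => h.2.2.1 rfl

theorem frm_one (x : G) : frm x 1 = 0 := by
  classical
  exact if_neg fun h => h.2.1 rfl

namespace Setup

variable (S : Setup G) [IsSimpleGroup G] (hcard : Nat.card G = 443520)

include hcard

theorem t_ne : S.t ≠ 1 := fun e => by have := S.ht; rw [e, orderOf_one] at this; omega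

theorem conj_t {k : G} (hk : k ∈ S.R) : k * S.t * k⁻¹ = S.t := by
  rw [mem_centralizer_singleton_iff.1 (S.hR.le hk), mul_inv_cancel_right]

theorem eq_one_of_D_A {d : G} (hd : d ∈ S.D) (hd' : d ∈ S.A) : d = 1 :=
  mem_bot.1 (S.D_inf_A hcard ▸ mem_inf.2 ⟨hd, hd'⟩)

theorem A_fix {m : G} (hm : m ∈ S.A) (h : Commute m S.r) : m = 1 :=
  S.eq_one_of_D_A hcard ((exists_four hcard S.hr).2.2 m (mem_centralizer_singleton_iff.2 h) 1
    (by rw [pow_one, pow_two]; exact (exists_four hcard S.ha).2.1 m hm)) hm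

theorem conj_A {p m : G} (hp : p ∈ S.P) (hm : m ∈ S.A) : p * m * p⁻¹ ∈ S.A := by
  have := conj_mem_four p hm
  rwa [(S.hPc p hp S.a S.haP).eq, mul_inv_cancel_right] at this

/-- The powers of `r` permute the non-trivial elements of `A` transitively. -/
theorem A_cycle {m m' : G} (hm : m ∈ S.A) (hm1 : m ≠ 1) (hm' : m' ∈ S.A) (hm1' : m' ≠ 1) :
    ∃ i : ℕ, S.r ^ i * m * (S.r ^ i)⁻¹ = m' := by
  classical
  have hne : ∀ i : ℕ, i = 1 ∨ i = 2 → S.r ^ i * m * (S.r ^ i)⁻¹ ≠ m := by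
    intro i hi e
    have hc : Commute m (S.r ^ i) := (mul_inv_eq_iff_eq_mul.1 e).symm
    refine hm1 (S.A_fix hcard hm ?_)
    have h3 : S.r ^ 3 = 1 := S.hr ▸ pow_orderOf_eq_one S.r
    rcases hi with rfl | rfl
    · simpa using hc
    · have := hc.pow_right 2
      rwa [← pow_mul, show 2 * 2 = 3 + 1 by norm_num, pow_succ, h3, one_mul] at this
  set m₁ := S.r ^ 1 * m * (S.r ^ 1)⁻¹ with hm₁
  set m₂ := S.r ^ 2 * m * (S.r ^ 2)⁻¹ with hm₂
  have hsub : ({1, m, m₁, m₂} : Set G) ⊆ (S.A : Set G) := by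
    rintro z (rfl | rfl | rfl | rfl)
    exacts [one_mem _, hm, S.conj_A hcard (pow_mem S.hrP 1) hm, S.conj_A hcard (pow_mem S.hrP 2) hm]
  have h1 : ({1, m, m₁, m₂} : Set G).ncard = 4 := by
    have a1 : (1 : G) ≠ m₁ := fun e => hm1 (by simpa [hm₁] using e.symm)
    have a2 : (1 : G) ≠ m₂ := fun e => hm1 (by simpa [hm₂] using e.symm)
    have a3 : m₁ ≠ m₂ := by
      intro e
      refine hne 1 (Or.inl rfl) ?_
      calc S.r ^ 1 * m * (S.r ^ 1)⁻¹ = (S.r ^ 1)⁻¹ * m₂ * S.r ^ 1 := by rw [hm₂]; group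
        _ = m := by rw [← e, hm₁]; group
    rw [Set.ncard_insert_of_notMem (by simp [Ne.symm hm1, a1, a2]),
      Set.ncard_insert_of_notMem (by
        simp only [Set.mem_insert_iff, Set.mem_singleton_iff, not_or]
        exact ⟨(hne 1 (Or.inl rfl)).symm, (hne 2 (Or.inr rfl)).symm⟩),
      Set.ncard_pair a3]
  have heq : ({1, m, m₁, m₂} : Set G) = (S.A : Set G) := Set.eq_of_subset_of_ncard_le hsub
    (by rw [h1, ← Nat.card_coe_set_eq]; exact (S.card_A hcard).le)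
  rcases (Set.ext_iff.1 heq m').2 hm' with e | e | e | e
  · exact absurd e hm1'
  · exact ⟨0, by rw [e]; simp⟩
  · exact ⟨1, e.symm⟩
  · exact ⟨2, e.symm⟩

/-- The orbit of `w` under the core. -/
def orb (w : G) : Set G := {x | ∃ k ∈ S.R, k * w * k⁻¹ = x}

theorem orb_mul_t {w x : G} (h : x ∈ S.orb w) : S.t * x ∈ S.orb (S.t * w) := by
  obtain ⟨k, hk, rfl⟩ := h
  refine ⟨k, hk, ?_⟩
  calc k * (S.t * w) * k⁻¹ = (k * S.t * k⁻¹) * (k * w * k⁻¹) := by group
    _ = _ := by rw [S.conj_t hcard hk]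

theorem ncard_orb {w : G} (hw : w ∈ S.D) (hw1 : w ≠ 1) (hwt : w ≠ S.t) : (S.orb w).ncard = 4 := by
  have hwE : w ∈ S.E := S.D_le hcard hw
  have h := ncard_conj_orbit S.R (S.E_le_R hcard hwE)
  have heq : (centralizer ({w} : Set G) ⊓ S.R : Subgroup G) = S.E := by
    refine le_antisymm ?_ fun x hx =>
      mem_inf.2 ⟨mem_centralizer_singleton_iff.2 (S.comm hcard hx hwE), S.E_le_R hcard hx⟩
    rintro x ⟨hx, hxR⟩
    exact S.fix_u hcard hxR hw hw1 hwt (mem_centralizer_singleton_iff.1 hx)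
  rw [heq, S.card_E hcard, S.hR.card] at h
  change (S.orb w).ncard * 16 = 64 at h
  omega

theorem orb_shape {w : G} (hw : w ∈ S.D) (hw1 : w ≠ 1) (hwt : w ≠ S.t) :
    ∃ d ∈ S.D, S.orb w = insert w ((fun m => d * m) '' ((S.A : Set G) \ {1})) := by
  classical
  have hsub : S.orb w ⊆ (S.E : Set G) := by
    rintro x ⟨k, hk, rfl⟩
    exact conj_mem_of_mem_normalizer (S.R_normalizes hcard hk) (S.D_le hcard hw)
  have hex : ∃ x ∈ S.orb w, x ∉ S.D := by
    by_contra hno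
    push Not at hno
    have h' : S.orb w ⊆ ({w, S.t * w} : Set G) := by
      intro x hx
      obtain ⟨k, hk, e⟩ := hx
      rcases S.eq_four hcard hw hw1 hwt (hno x ⟨k, hk, e⟩) with h | h | h | h
      · rw [h] at e; exact absurd (by simpa using e) hw1
      · rw [h, ← S.conj_t hcard hk] at e
        exact absurd (mul_left_cancel (mul_right_cancel e)) hwt
      · exact Or.inl h
      · exact Or.inr h
    have h1 := Set.ncard_le_ncard h'
    rw [S.ncard_orb hcard hw hw1 hwt] at h1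
    have h2 : ({w, S.t * w} : Set G).ncard ≤ 2 := by
      refine (Set.ncard_insert_le _ _).trans ?_
      rw [Set.ncard_singleton]
    omega
  obtain ⟨x, hx, hxD⟩ := hex
  obtain ⟨d, hd, m, hm, rfl⟩ := S.exists_mul hcard (hsub hx)
  have hm1 : m ≠ 1 := fun e => hxD (by rw [e, mul_one]; exact hd)
  refine ⟨d, hd, (Set.eq_of_subset_of_ncard_le ?_ ?_).symm⟩
  · rintro z (rfl | ⟨m', ⟨hm', hm1'⟩, rfl⟩)
    · exact ⟨1, one_mem _, by simp⟩
    · obtain ⟨i, hi⟩ := S.A_cycle hcard hm hm1 hm' hm1'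
      obtain ⟨k, hk, e⟩ := hx
      have hdr : S.r ^ i * d * (S.r ^ i)⁻¹ = d := by
        rw [← ((show Commute d S.r from mem_centralizer_singleton_iff.1 (four_le S.r hd)).pow_right i).eq,
          mul_inv_cancel_right]
      have hwr : (S.r ^ i)⁻¹ * w * S.r ^ i = w := by
        rw [mul_assoc, ((show Commute w S.r from mem_centralizer_singleton_iff.1 (four_le S.r hw)).pow_right i).eq,
          inv_mul_cancel_left]
      refine ⟨S.r ^ i * k * (S.r ^ i)⁻¹, S.hR.conj _ (S.hrt.pow_left i) k hk, ?_⟩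
      calc S.r ^ i * k * (S.r ^ i)⁻¹ * w * (S.r ^ i * k * (S.r ^ i)⁻¹)⁻¹
          = S.r ^ i * (k * ((S.r ^ i)⁻¹ * w * S.r ^ i) * k⁻¹) * (S.r ^ i)⁻¹ := by group
        _ = S.r ^ i * (d * m) * (S.r ^ i)⁻¹ := by rw [hwr, e]
        _ = (S.r ^ i * d * (S.r ^ i)⁻¹) * (S.r ^ i * m * (S.r ^ i)⁻¹) := by group
        _ = d * m' := by rw [hdr, hi]
  · have hnot : w ∉ (fun m => d * m) '' ((S.A : Set G) \ {1}) := by
      rintro ⟨m', ⟨hm', hm1'⟩, e⟩
      refine hm1' (S.eq_one_of_D_A hcard ?_ hm')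
      have : m' = d⁻¹ * w := by rw [← e]; simp
      rw [this]
      exact mul_mem (inv_mem hd) hw
    rw [S.ncard_orb hcard hw hw1 hwt, Set.ncard_insert_of_notMem hnot,
      Set.ncard_image_of_injective _ (mul_right_injective d),
      Set.ncard_sdiff_singleton_of_mem (one_mem _), ← Nat.card_coe_set_eq, show Nat.card ((S.A : Subgroup G) : Set G) = 4 from S.card_A hcard]

theorem no_orbit {w : G} (hw : w ∈ S.D) (hw1 : w ≠ 1)
    (heq : S.orb w = insert w ((S.A : Set G) \ {1})) : False := by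
  classical
  obtain ⟨m₁, hm₁, hm₁1⟩ : ∃ m ∈ S.A, m ≠ 1 := by
    by_contra hno
    push Not at hno
    have := S.card_A hcard
    rw [show S.A = ⊥ from (eq_bot_iff_forall _).2 hno, card_bot] at this
    omega
  obtain ⟨k, hk, hkw⟩ : m₁ ∈ S.orb w := heq ▸ Or.inr ⟨hm₁, hm₁1⟩
  have hwA : w ∉ S.A := fun h => hw1 (S.eq_one_of_D_A hcard hw h)
  set Q : G → G := fun m => k * m * k⁻¹ with hQ
  have himg : ∀ m ∈ S.A, m ≠ 1 → Q m = w ∨ (Q m ∈ S.A ∧ Q m ≠ 1 ∧ Q m ≠ m₁) := by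
    intro m hm hm1
    have h' : m ∈ S.orb w := heq ▸ Or.inr ⟨hm, hm1⟩
    obtain ⟨k', hk', e⟩ := h'
    have hQo : Q m ∈ S.orb w := ⟨k * k', mul_mem hk hk', by rw [hQ, ← e]; group⟩
    rw [heq] at hQo
    rcases hQo with h | ⟨h1, h2⟩
    · exact Or.inl h
    · refine Or.inr ⟨h1, h2, fun e' => hwA ?_⟩
      rw [← hkw, hQ] at e'
      exact (mul_left_cancel (mul_right_cancel e')) ▸ hm
  have hQmul : ∀ m m', Q (m * m') = Q m * Q m' := fun m m' => by simp only [hQ]; group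
  have hQinj : ∀ m m', Q m = Q m' → m = m' := fun m m' e => mul_left_cancel (mul_right_cancel e)
  obtain ⟨m₂, hm₂, hm₂1, hm₂m⟩ : ∃ m ∈ S.A, m ≠ 1 ∧ m ≠ m₁ := by
    by_contra hno
    push Not at hno
    have hle : (S.A : Set G) ⊆ {1, m₁} := fun m hm => by
      by_cases h : m = 1
      · exact Or.inl h
      · exact Or.inr (hno m hm h)
    have h1 := (Set.ncard_le_ncard hle).trans (Set.ncard_insert_le _ _)
    rw [Set.ncard_singleton, ← Nat.card_coe_set_eq,
      show Nat.card ((S.A : Subgroup G) : Set G) = 4 from S.card_A hcard] at h1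
    omega
  have hm₃ := mul_mem hm₁ hm₂
  have hm₁₁ : m₁ * m₁ = 1 := (exists_four hcard S.ha).2.1 m₁ hm₁
  have hm₃1 : m₁ * m₂ ≠ 1 := fun e => hm₂m (mul_left_cancel (e.trans hm₁₁.symm))
  have hd12 : Q m₁ ≠ Q m₂ := fun e => hm₂m (hQinj _ _ e).symm
  have hd13 : Q m₁ ≠ Q (m₁ * m₂) := fun e => hm₂1 ((mul_eq_left).1 (hQinj _ _ e).symm)
  have hd23 : Q m₂ ≠ Q (m₁ * m₂) := fun e => hm₁1 ((mul_eq_right).1 (hQinj _ _ e).symm)
  rcases himg m₁ hm₁ hm₁1 with e1 | ⟨a1, b1, c1⟩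
  · rcases himg m₂ hm₂ hm₂1 with e2 | ⟨a2, -, -⟩
    · exact hd12 (e1.trans e2.symm)
    · rcases himg _ hm₃ hm₃1 with e3 | ⟨a3, -, -⟩
      · exact hd13 (e1.trans e3.symm)
      · refine hwA ?_
        rw [← e1, show Q m₁ = Q (m₁ * m₂) * (Q m₂)⁻¹ by rw [hQmul]; group]
        exact mul_mem a3 (inv_mem a2)
  · rcases himg m₂ hm₂ hm₂1 with e2 | ⟨a2, b2, c2⟩
    · rcases himg _ hm₃ hm₃1 with e3 | ⟨a3, -, -⟩
      · exact hd23 (e2.trans e3.symm)
      · refine hwA ?_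
        rw [← e2, show Q m₂ = (Q m₁)⁻¹ * Q (m₁ * m₂) by rw [hQmul]; group]
        exact mul_mem (inv_mem a1) a3
    · rcases himg _ hm₃ hm₃1 with e3 | ⟨a3, b3, c3⟩
      · refine hwA ?_
        rw [← e3, hQmul]
        exact mul_mem a1 a2
      · have hsub : ({1, Q m₁, Q m₂, Q (m₁ * m₂), m₁} : Set G) ⊆ (S.A : Set G) := by
          rintro z (rfl | rfl | rfl | rfl | rfl)
          exacts [one_mem _, a1, a2, a3, hm₁]
        have h1 := Set.ncard_le_ncard hsub
        rw [Set.ncard_insert_of_notMem (by simp [Ne.symm b1, Ne.symm b2, Ne.symm b3, Ne.symm hm₁1]),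
          Set.ncard_insert_of_notMem (by simp [hd12, hd13, c1]),
          Set.ncard_insert_of_notMem (by simp [hd23, c2]), Set.ncard_pair c3,
          ← Nat.card_coe_set_eq, show Nat.card ((S.A : Subgroup G) : Set G) = 4 from S.card_A hcard] at h1
        omega

theorem orb_cases {w : G} (hw : w ∈ S.D) (hw1 : w ≠ 1) (hwt : w ≠ S.t) :
    S.orb w = insert w ((fun m => w * m) '' ((S.A : Set G) \ {1})) ∨
      S.orb w = insert w ((fun m => S.t * w * m) '' ((S.A : Set G) \ {1})) := by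
  obtain ⟨d, hd, heq⟩ := S.orb_shape hcard hw hw1 hwt
  have htt : S.t * S.t = 1 := (exists_four hcard S.hr).2.1 _ (S.t_mem_D hcard)
  rcases S.eq_four hcard hw hw1 hwt hd with rfl | rfl | rfl | rfl
  · exfalso
    refine S.no_orbit hcard hw hw1 ?_
    simpa using heq
  · exfalso
    have htw : S.t * w ∈ S.D := mul_mem (S.t_mem_D hcard) hw
    have htw1 : S.t * w ≠ 1 := fun e => hwt (mul_left_cancel (e.trans htt.symm))
    refine S.no_orbit hcard htw htw1 (Set.ext fun z => ?_)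
    have hiff : z ∈ S.orb (S.t * w) ↔ S.t * z ∈ S.orb w := by
      constructor
      · intro h
        have := S.orb_mul_t hcard h
        rwa [← mul_assoc S.t S.t w, htt, one_mul] at this
      · intro h
        have := S.orb_mul_t hcard h
        rwa [← mul_assoc S.t S.t z, htt, one_mul] at this
    rw [hiff, heq]
    simp only [Set.mem_insert_iff, Set.mem_image]
    constructor
    · rintro (e | ⟨m, hm, e⟩)
      · exact Or.inl (by rw [← e, ← mul_assoc, htt, one_mul])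
      · exact Or.inr (mul_left_cancel e ▸ hm)
    · rintro (e | hz)
      · exact Or.inl (by rw [e, ← mul_assoc, htt, one_mul])
      · exact Or.inr ⟨z, hz, rfl⟩
  · exact Or.inl heq
  · exact Or.inr heq

/-- The complement of the perpendicular of `t`. -/
def InU (u z : G) : Prop := ∃ m ∈ S.A, z = u * m ∨ z = S.t * u * m

theorem inU_iff {u : G} (hu : u ∈ S.D) (hu1 : u ≠ 1) (hut : u ≠ S.t) {z : G} :
    (z ∈ S.orb u ∨ z ∈ S.orb (S.t * u)) ↔ S.InU u z := by
  have htt : S.t * S.t = 1 := (exists_four hcard S.hr).2.1 _ (S.t_mem_D hcard)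
  have hadd : z ∈ S.orb (S.t * u) ↔ S.t * z ∈ S.orb u := by
    constructor
    · intro h
      have := S.orb_mul_t hcard h
      rwa [← mul_assoc S.t S.t u, htt, one_mul] at this
    · intro h
      have := S.orb_mul_t hcard h
      rwa [← mul_assoc S.t S.t z, htt, one_mul] at this
  have hc : ∀ y w : G, S.t * y = w ↔ y = S.t * w := fun y w =>
    ⟨fun e => by rw [← e, ← mul_assoc, htt, one_mul], fun e => by rw [e, ← mul_assoc, htt, one_mul]⟩
  rw [hadd, InU]
  rcases S.orb_cases hcard hu hu1 hut with h | h <;>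
    simp only [h, Set.mem_insert_iff, Set.mem_image, Set.mem_sdiff, Set.mem_singleton_iff,
      SetLike.mem_coe, hc]
  · constructor
    · rintro ((e | ⟨m, ⟨hm, -⟩, e⟩) | (e | ⟨m, ⟨hm, -⟩, e⟩))
      · exact ⟨1, one_mem _, Or.inl (by rw [mul_one]; exact e)⟩
      · exact ⟨m, hm, Or.inl e.symm⟩
      · exact ⟨1, one_mem _, Or.inr (by rw [mul_one]; exact e)⟩
      · exact ⟨m, hm, Or.inr (by rw [mul_assoc]; exact ((hc _ _).1 e.symm))⟩
    · rintro ⟨m, hm, e | e⟩ <;> by_cases hm1 : m = 1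
      · subst hm1; exact Or.inl (Or.inl (by rw [e, mul_one]))
      · exact Or.inl (Or.inr ⟨m, ⟨hm, hm1⟩, e.symm⟩)
      · subst hm1; exact Or.inr (Or.inl (by rw [e, mul_one]))
      · exact Or.inr (Or.inr ⟨m, ⟨hm, hm1⟩, ((hc _ _).2 (by rw [e, mul_assoc])).symm⟩)
  · constructor
    · rintro ((e | ⟨m, ⟨hm, -⟩, e⟩) | (e | ⟨m, ⟨hm, -⟩, e⟩))
      · exact ⟨1, one_mem _, Or.inl (by rw [mul_one]; exact e)⟩
      · exact ⟨m, hm, Or.inr e.symm⟩
      · exact ⟨1, one_mem _, Or.inr (by rw [mul_one]; exact e)⟩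
      · refine ⟨m, hm, Or.inl ?_⟩
        rw [(hc _ _).1 e.symm, ← mul_assoc, ← mul_assoc, htt, one_mul]
    · rintro ⟨m, hm, e | e⟩ <;> by_cases hm1 : m = 1
      · subst hm1; exact Or.inl (Or.inl (by rw [e, mul_one]))
      · exact Or.inr (Or.inr ⟨m, ⟨hm, hm1⟩, ((hc _ _).2 (by rw [e, ← mul_assoc, ← mul_assoc, htt, one_mul])).symm⟩)
      · subst hm1; exact Or.inr (Or.inl (by rw [e, mul_one]))
      · exact Or.inl (Or.inr ⟨m, ⟨hm, hm1⟩, e.symm⟩)

theorem exists_conj_three {r' : G} (h : orderOf r' = 3) (hc : Commute r' S.t) :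
    ∃ g, Commute g S.t ∧ g * S.r * g⁻¹ ∈ zpowers r' := by
  classical
  haveI : Fact (Nat.Prime 3) := ⟨Nat.prime_three⟩
  set r0 : centralizer ({S.t} : Set G) := ⟨S.r, mem_centralizer_singleton_iff.2 S.hrt⟩ with hr0
  set r1 : centralizer ({S.t} : Set G) := ⟨r', mem_centralizer_singleton_iff.2 hc⟩ with hr1
  have h0 : orderOf r0 = 3 := by rw [← Subgroup.orderOf_coe]; exact S.hr
  have h1 : orderOf r1 = 3 := by rw [← Subgroup.orderOf_coe]; exact h
  have hf : Nat.card (centralizer ({S.t} : Set G)) = 384 := cen_involution hcard S.ht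
  have hfac : ((384 : ℕ)).factorization 3 = 1 := by
    rw [show (384 : ℕ) = 3 ^ 1 * 128 by norm_num, Nat.factorization_mul (by norm_num) (by norm_num),
      Nat.Prime.factorization_pow Nat.prime_three]
    simp [Nat.factorization_eq_zero_of_not_dvd (show ¬ 3 ∣ 128 by norm_num)]
  obtain ⟨g, hg⟩ := MulAction.exists_smul_eq (centralizer ({S.t} : Set G))
    (Sylow.ofCard (zpowers r0) (by rw [Nat.card_zpowers, h0, hf, hfac, pow_one]))
    (Sylow.ofCard (zpowers r1) (by rw [Nat.card_zpowers, h1, hf, hfac, pow_one]))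
  refine ⟨g, mem_centralizer_singleton_iff.1 g.2, ?_⟩
  have hm : g * r0 * g⁻¹ ∈ ((g • Sylow.ofCard (zpowers r0)
      (by rw [Nat.card_zpowers, h0, hf, hfac, pow_one]) : Sylow 3 (centralizer ({S.t} : Set G))) :
      Subgroup (centralizer ({S.t} : Set G))) := by
    rw [Sylow.smul_def, Sylow.pointwise_smul_def]
    exact ⟨r0, mem_zpowers r0, rfl⟩
  rw [hg] at hm
  obtain ⟨n, hn⟩ := mem_zpowers_iff.1 (show g * r0 * g⁻¹ ∈ zpowers r1 from hm)
  exact mem_zpowers_iff.2 ⟨n, by simpa [hr0, hr1] using congrArg Subtype.val hn⟩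

theorem bad_t_iff {u : G} (hu : u ∈ S.D) (hu1 : u ≠ 1) (hut : u ≠ S.t) {z : G} (hz : z ∈ S.E) :
    Bad S.t z ↔ S.InU u z := by
  rw [← S.inU_iff hcard hu hu1 hut]
  have htt : S.t * S.t = 1 := (exists_four hcard S.hr).2.1 _ (S.t_mem_D hcard)
  constructor
  · rintro ⟨-, hz1, htz, r', hr', hrt', hrz⟩
    obtain ⟨g, hg, hgr⟩ := S.exists_conj_three hcard hr' hrt'
    obtain ⟨n, hn⟩ := mem_zpowers_iff.1 hgr
    obtain ⟨x, hx, l, hl, rfl⟩ := S.exists_mul_L hcard hg
    set z₀ := (x * l)⁻¹ * z * (x * l) with hz₀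
    have hz₀D : z₀ ∈ S.D := by
      refine (exists_four hcard S.hr).2.2 _ ?_ 1 ?_
      · have hc : Commute z (x * l * S.r * (x * l)⁻¹) := hn ▸ hrz.symm.zpow_right n
        have h' := commute_conj (x * l)⁻¹ hc
        have e1 : (x * l)⁻¹ * (x * l * S.r * (x * l)⁻¹) * (x * l)⁻¹⁻¹ = S.r := by group
        rw [e1, inv_inv] at h'
        exact mem_centralizer_singleton_iff.2 h'
      · rw [pow_one, pow_two, hz₀]
        calc (x * l)⁻¹ * z * (x * l) * ((x * l)⁻¹ * z * (x * l)) = (x * l)⁻¹ * (z * z) * (x * l) := by group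
          _ = 1 := by rw [S.sq hcard hz]; group
    have hzx : x * (l * z₀ * l⁻¹) * x⁻¹ = z := by rw [hz₀]; group
    have hwD : l * z₀ * l⁻¹ ∈ S.D := S.L_conj_D hcard hl hz₀D
    rcases S.eq_four hcard hu hu1 hut hwD with e | e | e | e <;> rw [e] at hzx
    · exact absurd (by simpa using hzx.symm) hz1
    · rw [S.conj_t hcard hx] at hzx
      exact absurd hzx htz
    · exact Or.inl ⟨x, hx, hzx⟩
    · exact Or.inr ⟨x, hx, hzx⟩
  · intro h
    obtain ⟨w, hw, hw1, hwt, k, hk, rfl⟩ : ∃ w ∈ S.D, w ≠ 1 ∧ w ≠ S.t ∧ ∃ k ∈ S.R, k * w * k⁻¹ = z := by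
      rcases h with ⟨k, hk, e⟩ | ⟨k, hk, e⟩
      · exact ⟨u, hu, hu1, hut, k, hk, e⟩
      · exact ⟨S.t * u, mul_mem (S.t_mem_D hcard) hu,
          fun e' => hut (mul_left_cancel (e'.trans htt.symm)),
          fun e' => hu1 ((mul_eq_left).1 e'), k, hk, e⟩
    have hb : Bad S.t w := ⟨S.t_ne hcard, hw1, Ne.symm hwt, S.r, S.hr, S.hrt,
      (four_involution hcard S.hr hw hw1).2⟩
    have := hb.conj k
    rwa [S.conj_t hcard hk] at this

theorem exists_coset {u : G} (hu : u ∈ S.D) (hu1 : u ≠ 1) (hut : u ≠ S.t) {z : G} (hz : z ∈ S.E) :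
    ∃ m ∈ S.A, z = m ∨ z = S.t * m ∨ z = u * m ∨ z = S.t * u * m := by
  obtain ⟨d, hd, m, hm, rfl⟩ := S.exists_mul hcard hz
  refine ⟨m, hm, ?_⟩
  rcases S.eq_four hcard hu hu1 hut hd with e | e | e | e <;> rw [e]
  · exact Or.inl (one_mul m)
  · exact Or.inr (Or.inl rfl)
  · exact Or.inr (Or.inr (Or.inl rfl))
  · exact Or.inr (Or.inr (Or.inr rfl))

theorem frm_coset {u : G} (hu : u ∈ S.D) (hu1 : u ≠ 1) (hut : u ≠ S.t) {m : G} (hm : m ∈ S.A) :
    frm S.t m = 0 ∧ frm S.t (S.t * m) = 0 ∧ frm S.t (u * m) = 1 ∧ frm S.t (S.t * u * m) = 1 := by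
  classical
  have hno : ∀ d ∈ S.D, d = 1 ∨ d = S.t → ¬ S.InU u (d * m) := by
    rintro d hd hd' ⟨m', hm', e⟩
    have key : ∀ w ∈ S.D, d * m = w * m' → d = w := by
      intro w hw e
      have h2 : w⁻¹ * d = m' * m⁻¹ := by
        rw [eq_mul_inv_iff_mul_eq, mul_assoc, e, inv_mul_cancel_left]
      exact (inv_mul_eq_one.1 (S.eq_one_of_D_A hcard (mul_mem (inv_mem hw) hd)
        (h2 ▸ mul_mem hm' (inv_mem hm)))).symm
    rcases e with e | e
    · rcases hd' with h | h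
      · exact hu1 (h ▸ (key u hu e)).symm
      · exact hut (h ▸ (key u hu e)).symm
    · have h' := key _ (mul_mem (S.t_mem_D hcard) hu) e
      rcases hd' with h | h <;> rw [h] at h'
      · exact hut (mul_left_cancel (h'.symm.trans
          ((exists_four hcard S.hr).2.1 _ (S.t_mem_D hcard)).symm))
      · exact hu1 ((mul_eq_left).1 h'.symm)
  have htD := S.t_mem_D hcard
  have hAE := S.A_le hcard hm
  have hDE := S.D_le hcard
  refine ⟨if_neg fun h => ?_, if_neg fun h => ?_, if_pos ?_, if_pos ?_⟩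
  · exact hno 1 (one_mem _) (Or.inl rfl) (by rw [one_mul]; exact (S.bad_t_iff hcard hu hu1 hut hAE).1 h)
  · exact hno S.t htD (Or.inr rfl) ((S.bad_t_iff hcard hu hu1 hut (mul_mem (hDE htD) hAE)).1 h)
  · exact (S.bad_t_iff hcard hu hu1 hut (mul_mem (hDE hu) hAE)).2 ⟨m, hm, Or.inl rfl⟩
  · exact (S.bad_t_iff hcard hu hu1 hut (mul_mem (hDE (mul_mem htD hu)) hAE)).2 ⟨m, hm, Or.inr rfl⟩

theorem frm_t_mul {z z' : G} (hz : z ∈ S.E) (hz' : z' ∈ S.E) :
    frm S.t (z * z') = frm S.t z + frm S.t z' := by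
  obtain ⟨u, hu, hu1, hut⟩ := S.exists_u hcard
  have htD := S.t_mem_D hcard
  have htt : S.t * S.t = 1 := (exists_four hcard S.hr).2.1 _ htD
  have huu : u * u = 1 := (exists_four hcard S.hr).2.1 _ hu
  -- the value depends only on the part in `D`
  have hdep : ∀ d ∈ S.D, ∀ m ∈ S.A, frm S.t (d * m) = frm S.t d := by
    intro d hd m hm
    obtain ⟨a1, a2, a3, a4⟩ := S.frm_coset hcard hu hu1 hut hm
    obtain ⟨b1, b2, b3, b4⟩ := S.frm_coset hcard hu hu1 hut (one_mem S.A)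
    rw [mul_one] at b2 b3 b4
    rcases S.eq_four hcard hu hu1 hut hd with e | e | e | e <;> rw [e]
    · rw [one_mul, a1, b1]
    · rw [a2, b2]
    · rw [a3, b3]
    · rw [a4, b4]
  have hval : frm S.t 1 = 0 ∧ frm S.t S.t = 0 ∧ frm S.t u = 1 ∧ frm S.t (S.t * u) = 1 := by
    obtain ⟨b1, b2, b3, b4⟩ := S.frm_coset hcard hu hu1 hut (one_mem S.A)
    rw [mul_one] at b2 b3 b4
    exact ⟨b1, b2, b3, b4⟩
  obtain ⟨d, hd, m, hm, rfl⟩ := S.exists_mul hcard hz
  obtain ⟨d', hd', m', hm', rfl⟩ := S.exists_mul hcard hz'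
  have hprod : d * m * (d' * m') = (d * d') * (m * m') := by
    rw [mul_assoc, ← mul_assoc m, ← (S.comm_D_A hcard hd' hm).eq]; group
  rw [hprod, hdep _ (mul_mem hd hd') _ (mul_mem hm hm'), hdep _ hd _ hm, hdep _ hd' _ hm']
  have htu : u * S.t = S.t * u := four_comm hcard S.hr hu htD
  have k1 : S.t * (S.t * u) = u := by rw [← mul_assoc, htt, one_mul]
  have k2 : u * (S.t * u) = S.t := by rw [← mul_assoc, htu, mul_assoc, huu, mul_one]
  have k3 : S.t * u * S.t = u := by rw [mul_assoc, htu, k1]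
  have k4 : S.t * u * u = S.t := by rw [mul_assoc, huu, mul_one]
  have k5 : S.t * u * (S.t * u) = 1 := (exists_four hcard S.hr).2.1 _ (mul_mem htD hu)
  have h2 : (1 : ZMod 2) + 1 = 0 := by decide
  obtain ⟨v1, v2, v3, v4⟩ := hval
  rcases S.eq_four hcard hu hu1 hut hd with e | e | e | e <;>
    rcases S.eq_four hcard hu hu1 hut hd' with e' | e' | e' | e' <;>
    simp only [e, e', one_mul, mul_one, htt, huu, htu, k1, k2, k3, k4, k5, v1, v2, v3, v4, add_zero,
      zero_add, h2]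

theorem frm_mul {x z z' : G} (hx : x ∈ S.E) (hz : z ∈ S.E) (hz' : z' ∈ S.E) :
    frm x (z * z') = frm x z + frm x z' := by
  by_cases hx1 : x = 1
  · subst hx1
    rw [frm_comm, frm_one, frm_comm, frm_one, frm_comm, frm_one, add_zero]
  obtain ⟨k, hk, rfl⟩ := S.trans hcard hx hx1
  have hy : ∀ y : G, frm (k * S.t * k⁻¹) y = frm S.t (k⁻¹ * y * k) := fun y => by
    conv_lhs => rw [show y = k * (k⁻¹ * y * k) * k⁻¹ by group, frm_conj]
  rw [hy, hy, hy, show k⁻¹ * (z * z') * k = (k⁻¹ * z * k) * (k⁻¹ * z' * k) by group]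
  refine S.frm_t_mul hcard ?_ ?_
  · simpa using conj_mem_of_mem_normalizer (inv_mem hk) hz
  · simpa using conj_mem_of_mem_normalizer (inv_mem hk) hz'

theorem exists_frm_one {x : G} (hx : x ∈ S.E) (hx1 : x ≠ 1) : ∃ z ∈ S.E, frm x z = 1 := by
  obtain ⟨k, hk, rfl⟩ := S.trans hcard hx hx1
  obtain ⟨u, hu, hu1, hut⟩ := S.exists_u hcard
  refine ⟨k * u * k⁻¹, conj_mem_of_mem_normalizer hk (S.D_le hcard hu), ?_⟩
  rw [frm_conj]
  have := (S.frm_coset hcard hu hu1 hut (one_mem S.A)).2.2.1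
  rwa [mul_one] at this

end Setup

end Cfsg.Agent.M22Order
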