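import Cfsg.Agent.Lib.M22Order.Core

/-!
# Simple groups of order 443520: the centralizer of an element of order three
-/

set_option autoImplicit false
set_option linter.style.haveILetI false
set_option linter.unusedSectionVars false

namespace Cfsg.Agent.M22Order

open Subgroup
open Cfsg.Agent.M12Order (cen)

universe u

variable {G : Type u} [Group G] [Finite G]

/-- The elements of square one commuting with `r`. -/
def fourGroup (r : G) : Subgroup G := closure {x | Commute x r ∧ x * x = 1}

theorem four_le (r : G) : fourGroup r ≤ centralizer ({r} : Set G) :=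
  (closure_le _).2 fun _ hx => mem_centralizer_singleton_iff.2 hx.1

theorem conj_mem_four {r x : G} (g : G) (hx : x ∈ fourGroup r) : g * x * g⁻¹ ∈ fourGroup (g * r * g⁻¹) := by
  refine closure_induction (fun y hy => subset_closure ⟨commute_conj g hy.1, ?_⟩) ?_ ?_ ?_ hx
  · calc g * y * g⁻¹ * (g * y * g⁻¹) = g * (y * y) * g⁻¹ := by group
      _ = 1 := by rw [hy.2]; group
  · simp
  · intro a b _ _ ha hb
    simpa [mul_assoc] using mul_mem ha hb
  · intro a _ ha
    simpa [mul_assoc] using inv_mem ha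

theorem four_inv (r : G) : fourGroup r⁻¹ = fourGroup r := by
  refine congrArg Subgroup.closure (Set.ext fun x => ?_)
  exact and_congr_left fun _ => Commute.inv_right_iff

theorem orderOf_two_of_sq {x : G} (h : x * x = 1) (h1 : x ≠ 1) : orderOf x = 2 :=
  orderOf_eq_prime (by rw [pow_two]; exact h) h1

section

variable [IsSimpleGroup G] (hcard : Nat.card G = 443520)

include hcard

/-- Of a subgroup of order nine through `r`, only the powers of `r` commute with an involution
commuting with `r`. -/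
theorem mem_zpowers_of_commute {r s y : G} (hr : orderOf r = 3) (hs : orderOf s = 2)
    (hrs : Commute r s) {P : Subgroup G} (hP : Nat.card P = 9) (hPr : r ∈ P)
    (hPc : ∀ a ∈ P, Commute a r) (hy : y ∈ P) (hys : Commute y s) : y ∈ zpowers r := by
  set K := P ⊓ centralizer ({s} : Set G) with hK
  have hrK : zpowers r ≤ K := zpowers_le.2 (mem_inf.2 ⟨hPr, mem_centralizer_singleton_iff.2 hrs⟩)
  have h1 : Nat.card K ∣ 9 := hP ▸ card_dvd_of_le inf_le_left
  have h2 : Nat.card K ∣ 12 := by
    rw [← cen_three_inf_involution hcard hr hs hrs]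
    exact card_dvd_of_le fun a ha =>
      mem_inf.2 ⟨mem_centralizer_singleton_iff.2 (hPc a (mem_inf.1 ha).1), (mem_inf.1 ha).2⟩
  have h3 : Nat.card K ≤ 3 := Nat.le_of_dvd (by norm_num) (by simpa using Nat.dvd_gcd h1 h2)
  rw [eq_of_le_of_card_ge hrK (by rw [Nat.card_zpowers, hr]; exact h3)]
  exact mem_inf.2 ⟨hy, mem_centralizer_singleton_iff.2 hys⟩

/-- **The centralizer of an element of order three has a normal four group.** -/
theorem exists_four {r : G} (hr : orderOf r = 3) :
    Nat.card (fourGroup r) = 4 ∧ (∀ x ∈ fourGroup r, x * x = 1) ∧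
      ∀ x ∈ centralizer ({r} : Set G), ∀ k : ℕ, x ^ 2 ^ k = 1 → x ∈ fourGroup r := by
  classical
  set Z := centralizer ({r} : Set G) with hZ
  have hcZ : Nat.card Z = 36 := cen_three hcard hr
  haveI : Fact (Nat.Prime 3) := ⟨Nat.prime_three⟩
  haveI : Fact (Nat.Prime 2) := ⟨Nat.prime_two⟩
  set r' : Z := ⟨r, mem_centralizer_singleton_iff.2 rfl⟩ with hr'
  have hr3 : orderOf r' = 3 := by rw [← Subgroup.orderOf_coe]; exact hr
  have hcentral : ∀ a : Z, Commute a r' := fun a =>
    Subtype.ext (mem_centralizer_singleton_iff.1 a.2)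
  obtain ⟨P, hP⟩ := (IsPGroup.of_card (p := 3) (n := 1)
    (by rw [Nat.card_zpowers, hr3, pow_one]) : IsPGroup 3 (zpowers r')).exists_le_sylow
  have hcP : Nat.card (P : Subgroup Z) = 9 := by
    rw [P.card_eq_multiplicity, hcZ, show (36 : ℕ) = 3 ^ 2 * 4 by norm_num,
      Nat.factorization_mul (by norm_num) (by norm_num), Nat.Prime.factorization_pow Nat.prime_three]
    simp [Nat.factorization_eq_zero_of_not_dvd (show ¬ 3 ∣ 4 by norm_num)]
  set PG := (P : Subgroup Z).map Z.subtype with hPG
  have hcPG : Nat.card PG = 9 := by rw [hPG, card_map_subtype, hcP]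
  have hPGr : r ∈ PG := ⟨r', hP (mem_zpowers r'), rfl⟩
  have hPGc : ∀ a ∈ PG, Commute a r := by
    rintro _ ⟨a, -, rfl⟩; exact mem_centralizer_singleton_iff.1 a.2
  letI := IsPGroup.commGroupOfCardEqPrimeSq (p := 3) (G := (P : Subgroup Z)) (by rw [hcP]; norm_num)
  -- four Sylow 3-subgroups
  have hn : Nat.card (Sylow 3 Z) = 4 := by
    have hd := P.card_eq_index_normalizer ▸
      (index_dvd_of_le (le_normalizer : (P : Subgroup Z) ≤ normalizer ((P : Subgroup Z) : Set Z)))
    have hi := (P : Subgroup Z).card_mul_index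
    rw [hcP, hcZ] at hi
    have hi4 : (P : Subgroup Z).index = 4 := by omega
    rw [hi4] at hd
    have hmod := card_sylow_modEq_one 3 Z
    rw [Nat.ModEq] at hmod
    have hle := Nat.le_of_dvd (by norm_num) hd
    suffices Nat.card (Sylow 3 Z) ≠ 1 by interval_cases h : Nat.card (Sylow 3 Z) <;> omega
    intro h1
    haveI := (Nat.card_eq_one_iff_unique.1 h1).1
    haveI : (P : Subgroup Z).Normal := P.normal_of_subsingleton
    obtain ⟨Q⟩ : Nonempty (Sylow 2 Z) := inferInstance
    have hcQ : Nat.card (Q : Subgroup Z) = 4 := by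
      rw [Q.card_eq_multiplicity, hcZ, show (36 : ℕ) = 2 ^ 2 * 9 by norm_num,
        Nat.factorization_mul (by norm_num) (by norm_num), Nat.Prime.factorization_pow Nat.prime_two]
      simp [Nat.factorization_eq_zero_of_not_dvd (show ¬ 2 ∣ 9 by norm_num)]
    have hfix : ∀ a ∈ (Q : Subgroup Z), ∀ y ∈ (P : Subgroup Z), y ∉ zpowers r' → Commute a y → a = 1 := by
      intro a ha y hy hyr hay
      by_contra ha1
      obtain ⟨s, hsQ, hs, hsy⟩ : ∃ s ∈ (Q : Subgroup Z), orderOf s = 2 ∧ Commute s y := by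
        have hd4 : orderOf a ∣ 4 := hcQ ▸ Subgroup.orderOf_dvd_natCard _ ha
        have hle4 := Nat.le_of_dvd (by norm_num) hd4
        have hne := mt orderOf_eq_one_iff.1 ha1
        rcases (show orderOf a = 2 ∨ orderOf a = 4 by interval_cases h : orderOf a <;> omega) with h | h
        · exact ⟨a, ha, h, hay⟩
        · exact ⟨a ^ 2, pow_mem ha 2, by rw [orderOf_pow, h]; rfl, hay.pow_left 2⟩
      have h := mem_zpowers_of_commute hcard (r := r) (s := (s : G)) (y := (y : G)) hr
        (by rw [Subgroup.orderOf_coe]; exact hs) (mem_centralizer_singleton_iff.1 s.2).symm hcPG hPGr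
        hPGc ⟨y, hy, rfl⟩ ((show (s : G) * y = y * s from congrArg Subtype.val hsy.eq).symm)
      refine hyr ?_
      obtain ⟨k, hk⟩ := mem_zpowers_iff.1 h
      exact mem_zpowers_iff.2 ⟨k, Subtype.ext (by simpa using hk)⟩
    -- the Sylow 2-subgroup would act freely on six elements
    have h6 : (((P : Subgroup Z) : Set Z) \ (zpowers r' : Set Z)).ncard = 6 := by
      rw [Set.ncard_sdiff (SetLike.coe_subset_coe.2 hP), ← Nat.card_coe_set_eq, ← Nat.card_coe_set_eq,
        show Nat.card ((P : Subgroup Z) : Set Z) = 9 from hcP,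
        show Nat.card ((zpowers r' : Subgroup Z) : Set Z) = 3 from (Nat.card_zpowers r').trans hr3]
    have hdiv := dvd_card_of_free_conj (Q : Subgroup Z)
      (((P : Subgroup Z) : Set Z) \ (zpowers r' : Set Z)) ?_ ?_
    · rw [hcQ, h6] at hdiv; omega
    · rintro a - x ⟨hx, hxr⟩
      refine ⟨(inferInstance : (P : Subgroup Z).Normal).conj_mem x hx a, fun h => hxr ?_⟩
      obtain ⟨k, hk⟩ := mem_zpowers_iff.1 h
      refine mem_zpowers_iff.2 ⟨k, ?_⟩
      calc r' ^ k = a⁻¹ * (r' ^ k) * a := by
            rw [mul_assoc, ← ((hcentral a).zpow_right k).eq, inv_mul_cancel_left]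
        _ = x := by rw [hk]; group
    · rintro a ha x ⟨hx, hxr⟩ hax
      exact hfix a ha x hx hxr (mul_inv_eq_iff_eq_mul.1 hax)
  -- transfer
  have hnorm : normalizer ((P : Subgroup Z) : Set Z) = (P : Subgroup Z) := by
    refine (eq_of_le_of_card_ge le_normalizer ?_).symm
    have h := (normalizer ((P : Subgroup Z) : Set Z)).card_mul_index
    have h2 : (normalizer ((P : Subgroup Z) : Set Z)).index = 4 :=
      (P.card_eq_index_normalizer).symm.trans hn
    rw [hcZ, h2] at h
    rw [hcP]; omega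
  have hNC : normalizer ((P : Subgroup Z) : Set Z) ≤ centralizer ((P : Subgroup Z) : Set Z) := by
    rw [hnorm]
    intro x hx
    rw [mem_centralizer_iff]
    intro y hy
    exact congrArg Subtype.val (mul_comm (⟨y, hy⟩ : (P : Subgroup Z)) ⟨x, hx⟩)
  set D := (MonoidHom.transferSylow P hNC).ker with hD
  have hcD : Nat.card D = 4 := by
    have h := (MonoidHom.ker_transferSylow_isComplement' P hNC).card_mul
    rw [hcP, hcZ] at h
    rw [hD]; omega
  have hDidx : D.index = 9 := by
    have := D.card_mul_index; rw [hcD, hcZ] at this; omega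
  have htwo : ∀ x : Z, ∀ k : ℕ, x ^ 2 ^ k = 1 → x ∈ D := by
    intro x k hx
    have h9 : x ^ 9 ∈ D := hDidx ▸ D.pow_index_mem x
    have hcop : Nat.Coprime 9 (2 ^ k) := Nat.Coprime.pow_right k (by norm_num)
    have hg : x ^ Nat.gcd 9 (2 ^ k) ∈ D := by
      obtain h := Nat.gcd_eq_gcd_ab 9 (2 ^ k)
      have : x ^ (Nat.gcd 9 (2 ^ k) : ℤ) ∈ D := by
        rw [h, zpow_add, zpow_mul, zpow_mul, zpow_natCast, zpow_natCast, hx, one_zpow, mul_one]
        exact zpow_mem h9 _
      rwa [zpow_natCast] at this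
    rwa [hcop.gcd_eq_one, pow_one] at hg
  have hsq : ∀ x ∈ D, x * x = 1 := by
    intro x hx
    by_contra hne
    have h4 : orderOf x ∣ 4 := hcD ▸ Subgroup.orderOf_dvd_natCard _ hx
    have hle4 := Nat.le_of_dvd (by norm_num) h4
    have hx4 : orderOf x = 4 := by
      have h0 := orderOf_pos x
      rcases (show orderOf x = 1 ∨ orderOf x = 2 ∨ orderOf x = 4 by
        interval_cases h : orderOf x <;> omega) with h | h | h
      · exact absurd (by rw [orderOf_eq_one_iff.1 h, one_mul]) hne
      · exact absurd (by rw [← pow_two, ← h, pow_orderOf_eq_one]) hne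
      · exact h
    have hDx : zpowers x = D := eq_of_le_of_card_ge (zpowers_le.2 hx) (by rw [hcD, Nat.card_zpowers, hx4])
    set s := x ^ 2 with hs
    have hs2 : orderOf s = 2 := by rw [hs, orderOf_pow, hx4]; rfl
    have hsc : ∀ a : Z, Commute a s := by
      intro a
      have hm : a * s * a⁻¹ ∈ zpowers x :=
        hDx ▸ (inferInstance : D.Normal).conj_mem s (pow_mem hx 2) a
      obtain ⟨k, hk⟩ := mem_zpowers_iff.1 hm
      have ho : orderOf (x ^ k) = 2 := by rw [hk, orderOf_conj, hs2]
      have hkm : x ^ k = x ^ (k % 4) := by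
        conv_lhs => rw [← zpow_mod_orderOf x k, hx4]
        norm_num
      have hk' : k % 4 = 0 ∨ k % 4 = 1 ∨ k % 4 = 2 ∨ k % 4 = 3 := by omega
      rcases hk' with h | h | h | h <;> rw [hkm, h] at ho hk
      · rw [zpow_zero, orderOf_one] at ho; omega
      · rw [zpow_one] at ho; omega
      · refine mul_inv_eq_iff_eq_mul.1 (hk.symm.trans ?_)
        rw [hs, zpow_ofNat]
      · rw [zpow_ofNat, orderOf_pow, hx4] at ho
        norm_num at ho
    have h12 := cen_three_inf_involution hcard hr (t := (s : G)) (by rw [Subgroup.orderOf_coe]; exact hs2)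
      ((congrArg Subtype.val (hcentral s).eq).symm : r * (s : G) = (s : G) * r)
    rw [inf_eq_left.2 fun a ha => mem_centralizer_singleton_iff.2
      (congrArg Subtype.val (hsc ⟨a, ha⟩).eq)] at h12
    rw [← hZ, hcZ] at h12
    omega
  have heq : fourGroup r = D.map Z.subtype := by
    refine le_antisymm ((closure_le _).2 fun x hx => ?_) ?_
    · exact ⟨⟨x, mem_centralizer_singleton_iff.2 hx.1⟩, htwo _ 1 (Subtype.ext (by
        rw [pow_one, pow_two]; exact hx.2)), rfl⟩
    · rintro _ ⟨a, ha, rfl⟩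
      exact subset_closure ⟨mem_centralizer_singleton_iff.1 a.2, congrArg Subtype.val (hsq a ha)⟩
  refine ⟨by rw [heq, card_map_subtype, hcD], ?_, ?_⟩
  · rw [heq]
    rintro _ ⟨a, ha, rfl⟩
    exact congrArg Subtype.val (hsq a ha)
  · intro x hx k hk
    rw [heq]
    exact ⟨⟨x, hx⟩, htwo _ k (Subtype.ext (by simpa using hk)), rfl⟩

theorem four_absorb {r : G} (hr : orderOf r = 3) {T : Subgroup G} (hT : T ≤ centralizer ({r} : Set G))
    (hT2 : IsPGroup 2 T) : T ≤ fourGroup r := by
  intro x hx
  obtain ⟨k, hk⟩ := hT2 ⟨x, hx⟩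
  exact (exists_four hcard hr).2.2 x (hT hx) k (congrArg Subtype.val hk)

theorem four_comm {r a b : G} (hr : orderOf r = 3) (ha : a ∈ fourGroup r) (hb : b ∈ fourGroup r) : Commute a b := by
  have h := (exists_four hcard hr).2.1
  calc a * b = (a * b)⁻¹ := eq_inv_of_mul_eq_one_left (h _ (mul_mem ha hb))
    _ = b⁻¹ * a⁻¹ := mul_inv_rev a b
    _ = b * a := by
      rw [inv_eq_of_mul_eq_one_right (h a ha), inv_eq_of_mul_eq_one_right (h b hb)]

theorem four_involution {r s : G} (hr : orderOf r = 3) (hs : s ∈ fourGroup r) (hs1 : s ≠ 1) :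
    orderOf s = 2 ∧ Commute r s :=
  ⟨orderOf_two_of_sq ((exists_four hcard hr).2.1 s hs) hs1,
    (mem_centralizer_singleton_iff.1 (four_le r hs)).symm⟩

end

end Cfsg.Agent.M22Order
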