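import Cfsg.Agent.Lib.M22Order.GraphBase

/-!
# The graph of a frame is the model graph

A group of order `443520` with a frame maps nontrivially to the automorphism group of the model.
-/

set_option autoImplicit false
set_option linter.unusedSectionVars false

namespace Cfsg.Agent.M22Order

open Subgroup

open scoped _root_.Classical

universe u

variable {G : Type u} [Group G] [Finite G] {F : Frame G}

namespace Graph

section Delta

variable (hcard : Nat.card G = 443520)
include hcard

theorem exists_adj : ∃ d : G ⧸ K F, R F (base F) d := by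
  letI := Fintype.ofFinite (G ⧸ K F)
  have h := card_adj (F := F) hcard
  obtain ⟨d, hd⟩ := Finset.card_pos.1 (show 0 < (Finset.univ.filter
    fun y : G ⧸ K F => R F (base F) y).card by omega)
  exact ⟨d, (Finset.mem_filter.1 hd).2⟩

theorem adj_ne {x y : G ⧸ K F} (h : R F x y) : x ≠ y := fun e => r_irrefl y (e ▸ h)

theorem pt_adj {d : G ⧸ K F} (hd : R F (base F) d) (v : Model.Vec) :
    R F (base F) (e F v • d) := by
  conv => arg 2; rw [← fix_base_e v]
  exact r_smul _ hd

theorem pt_inj {d : G ⧸ K F} (hd : R F (base F) d) :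
    Function.Injective fun v => e F v • d := by
  intro v w h
  have h1 : e F (w + v) • d = d := by
    rw [← e_smul_e, show e F v • d = e F w • d from h, e_smul_self]
  have h2 := e_eq_one.1 (hd _ (inE_base.2 (e_mem _)) h1)
  calc v = w + (w + v) := (Model.add_add_cancel_self w v).symm
    _ = w := by rw [h2, add_zero]

theorem pt_surj {d : G ⧸ K F} (hd : R F (base F) d) {y : G ⧸ K F} (hy : R F (base F) y) :
    ∃ v, e F v • d = y := by
  letI := Fintype.ofFinite (G ⧸ K F)
  have h := Finset.eq_of_subset_of_card_le (s := Finset.univ.image fun v => e F v • d)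
    (t := Finset.univ.filter fun y : G ⧸ K F => R F (base F) y)
    (fun z hz => by
      obtain ⟨v, -, rfl⟩ := Finset.mem_image.1 hz
      exact Finset.mem_filter.2 ⟨Finset.mem_univ _, pt_adj hcard hd v⟩)
    (by
      rw [card_adj hcard, Finset.card_image_of_injective _ (pt_inj hcard hd), Finset.card_univ]
      decide)
  have hm : y ∈ Finset.univ.image fun v => e F v • d := by
    rw [h]
    exact Finset.mem_filter.2 ⟨Finset.mem_univ _, hy⟩
  obtain ⟨v, -, hv⟩ := Finset.mem_image.1 hm
  exact ⟨v, hv⟩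

/-- Every map induced by `K` on `E` is induced by the stabilizer of a neighbour. -/
theorem exists_stab {d : G ⧸ K F} (hd : R F (base F) d) {k : G} (hk : k ∈ K F) :
    ∃ l ∈ K F, l • d = d ∧ ∀ v, kc F l v = kc F k v := by
  have h1 : R F (base F) (k • d) := by
    conv => arg 2; rw [← fix_base.2 hk]
    exact r_smul k hd
  obtain ⟨w, hw⟩ := pt_surj hcard hd h1
  refine ⟨e F w * k, mul_mem (le_K (e_mem w)) hk, by rw [mul_smul, ← hw, e_smul_self],
    fun v => ?_⟩
  unfold kc
  congr 1
  rw [show e F w * k * e F v * (e F w * k)⁻¹ = e F w * (k * e F v * k⁻¹) * (e F w)⁻¹ by group,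
    comm (e_mem w) ((mem_K hk _).1 (e_mem v)), mul_inv_cancel_right]

theorem flag_stab {d : G ⧸ K F} (hd : R F (base F) d) {a b a' b' : Model.Vec} (ha : a ≠ 0)
    (hb : b ≠ 0) (hab : b ≠ a) (ha' : a' ≠ 0) (hb' : b' ≠ 0) (hab' : b' ≠ a')
    (hf : Model.form a b = 0) (hf' : Model.form a' b' = 0) :
    ∃ l ∈ K F, l • d = d ∧ kc F l a = a' ∧ (kc F l b = b' ∨ kc F l b = a' + b') := by
  obtain ⟨k, hk, hkt, hkx⟩ := F.flag _ (e_mem a) _ (e_mem b) _ (e_mem a') _ (e_mem b')
    (fun h => ha (e_eq_one.1 h)) (fun h => ha' (e_eq_one.1 h)) (fun h => hb (e_eq_one.1 h))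
    (fun h => hab (e_inj h)) (fun h => hb' (e_eq_one.1 h)) (fun h => hab' (e_inj h))
    (by rwa [φ_e, φ_e]) (by rwa [φ_e, φ_e])
  obtain ⟨l, hl, hld, hlk⟩ := exists_stab hcard hd hk
  refine ⟨l, hl, hld, ?_, ?_⟩
  · rw [hlk, kc, hkt, φ_e]
  · rcases hkx with h | h
    · exact Or.inl (by rw [hlk, kc, h, φ_e])
    · exact Or.inr (by rw [hlk, kc, h, ← e_add, φ_e])

theorem plane_stab {d : G ⧸ K F} (hd : R F (base F) d) {W W' : Finset Model.Vec}
    (hW : W ∈ Model.planes) (hW' : W' ∈ Model.planes) :
    ∃ l ∈ K F, l • d = d ∧ W.image (kc F l) = W' := by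
  obtain ⟨a, haW, ha⟩ := Model.plane_ne_zero W hW
  obtain ⟨b, hbW, hb, hba, hWab⟩ := Model.plane_span W hW a haW ha
  obtain ⟨a', haW', ha'⟩ := Model.plane_ne_zero W' hW'
  obtain ⟨b', hbW', hb', hba', hWab'⟩ := Model.plane_span W' hW' a' haW' ha'
  obtain ⟨l, hl, hld, hla, hlb⟩ := flag_stab hcard hd ha hb hba ha' hb' hba'
    (Model.plane_form W hW a haW b hbW) (Model.plane_form W' hW' a' haW' b' hbW')
  refine ⟨l, hl, hld, Finset.eq_of_subset_of_card_le (fun y hy => ?_) ?_⟩
  · obtain ⟨w, hw, rfl⟩ := Finset.mem_image.1 hy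
    rw [← hWab] at hw
    rw [← hWab']
    simp only [Finset.mem_insert, Finset.mem_singleton] at hw ⊢
    rcases hw with rfl | rfl | rfl | rfl
    · exact Or.inl (kc_zero hl)
    · exact Or.inr (Or.inl hla)
    · rcases hlb with h | h
      · exact Or.inr (Or.inr (Or.inl h))
      · exact Or.inr (Or.inr (Or.inr h))
    · rw [kc_add hl, hla]
      rcases hlb with h | h
      · exact Or.inr (Or.inr (Or.inr (by rw [h])))
      · exact Or.inr (Or.inr (Or.inl (by rw [h, Model.add_add_cancel_self])))
  · rw [Finset.card_image_of_injective _ (kc_inj hl), Model.card_plane _ hW,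
      Model.card_plane _ hW']

/-- The neighbourhood of the base is independent. -/
theorem independent {d : G ⧸ K F} (hd : R F (base F) d) (v : Model.Vec) :
    ¬ R F d (e F v • d) := by
  intro hv
  have hv0 : v ≠ 0 := fun h => r_irrefl d (by rwa [h, e_zero, one_smul] at hv)
  have hall : ∀ w : Model.Vec, w ≠ 0 → R F d (e F w • d) := by
    intro w hw
    obtain ⟨x, hx, hxv, hf⟩ := Model.exists_orth v hv0
    obtain ⟨x', hx', hxw, hf'⟩ := Model.exists_orth w hw
    obtain ⟨l, hl, hld, hla, -⟩ := flag_stab hcard hd hv0 hx hxv hw hx' hxw hf hf'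
    have h := r_smul l hv
    rw [hld, ← e_smul hl, hla, hld] at h
    exact h
  letI := Fintype.ofFinite (G ⧸ K F)
  let N : G ⧸ K F → Finset (G ⧸ K F) := fun x => Finset.univ.filter fun y => y = x ∨ R F x y
  have clique : ∀ x y z : G ⧸ K F, R F x y → R F x z → y ≠ z → R F y z := by
    intro x y z hy hz hne
    obtain ⟨g, rfl⟩ := exists_smul_base x
    obtain ⟨y', rfl⟩ : ∃ y', g • y' = y := ⟨g⁻¹ • y, smul_inv_smul g y⟩
    obtain ⟨z', rfl⟩ : ∃ z', g • z' = z := ⟨g⁻¹ • z, smul_inv_smul g z⟩
    rw [r_smul_iff] at hy hz ⊢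
    obtain ⟨a, rfl⟩ := pt_surj hcard hd hy
    obtain ⟨b, rfl⟩ := pt_surj hcard hd hz
    have hab : a + b ≠ 0 := fun h => hne (by
      rw [← Model.add_add_cancel_self a b, h, add_zero])
    have h := r_smul (e F a) (hall _ hab)
    rwa [e_smul_e, Model.add_add_cancel_self] at h
  have mem : ∀ x y, y ∈ N x ↔ y = x ∨ R F x y := fun x y => by simp [N]
  have sub : ∀ x y, R F x y → ∀ z ∈ N x, z ∈ N y := by
    intro x y hxy z hz
    rw [mem]
    rcases (mem x z).1 hz with rfl | hz
    · exact Or.inr (r_symm hxy)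
    · by_cases hne : y = z
      · exact Or.inl hne.symm
      · exact Or.inr (clique x y z hxy hz hne)
  have eqN : ∀ x y, N y = N x ↔ y ∈ N x := by
    intro x y
    refine ⟨fun h => h ▸ (mem y y).2 (Or.inl rfl), fun h => ?_⟩
    rcases (mem x y).1 h with rfl | h
    · rfl
    · exact Finset.ext fun z => ⟨sub y x (r_symm h) z, sub x y h z⟩
  have hN0 : (N (base F)).card = 17 := by
    rw [show N (base F) = insert (base F) (Finset.univ.filter fun y => R F (base F) y) by
      ext y; simp [N], Finset.card_insert_of_notMem (by simp [r_irrefl]), card_adj hcard]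
  have h17 : ∀ x, (N x).card = 17 := by
    intro x
    obtain ⟨g, rfl⟩ := exists_smul_base x
    rw [show N (g • base F) = (N (base F)).image (g • ·) from ?_,
      Finset.card_image_of_injective _ (MulAction.injective g), hN0]
    ext z
    obtain ⟨z', rfl⟩ : ∃ z', g • z' = z := ⟨g⁻¹ • z, smul_inv_smul g z⟩
    rw [mem, (MulAction.injective g).mem_finset_image, mem, r_smul_iff, smul_left_cancel_iff]
  have h77 : Fintype.card (G ⧸ K F) = 77 := by rw [← Nat.card_eq_fintype_card, card_quot hcard]
  have hsum := Finset.card_eq_sum_card_fiberwise (f := N) (s := Finset.univ)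
    (t := Finset.univ.image N) (fun x hx => Finset.mem_image_of_mem N hx)
  have hfib : ∀ S ∈ Finset.univ.image N, (Finset.univ.filter fun x => N x = S).card = 17 := by
    intro S hS
    obtain ⟨x, -, rfl⟩ := Finset.mem_image.1 hS
    rw [← h17 x]
    congr 1
    ext y
    simp [eqN x y]
  rw [Finset.card_univ, h77, Finset.sum_congr rfl hfib, Finset.sum_const, smul_eq_mul] at hsum
  omega

theorem no_triangle {x y z : G ⧸ K F} (hy : R F x y) (hz : R F x z) : ¬ R F y z := by
  obtain ⟨d, hd⟩ := exists_adj (F := F) hcard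
  obtain ⟨g, rfl⟩ := exists_smul_base x
  obtain ⟨y', rfl⟩ : ∃ y', g • y' = y := ⟨g⁻¹ • y, smul_inv_smul g y⟩
  obtain ⟨z', rfl⟩ : ∃ z', g • z' = z := ⟨g⁻¹ • z, smul_inv_smul g z⟩
  rw [r_smul_iff] at hy hz ⊢
  obtain ⟨a, rfl⟩ := pt_surj hcard hd hy
  obtain ⟨b, rfl⟩ := pt_surj hcard hd hz
  intro h
  refine independent hcard hd (a + b) ?_
  have h1 := r_smul (e F a) h
  rwa [e_smul_self, e_smul_e] at h1

theorem degree [Fintype (G ⧸ K F)] (x : G ⧸ K F) :
    (Finset.univ.filter fun y => R F x y).card = 16 := by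
  obtain ⟨g, rfl⟩ := exists_smul_base x
  rw [← card_adj (F := F) hcard, show (Finset.univ.filter fun y => R F (g • base F) y) =
    (Finset.univ.filter fun y => R F (base F) y).image (g • ·) from ?_,
    Finset.card_image_of_injective _ (MulAction.injective g)]
  ext z
  obtain ⟨z', rfl⟩ : ∃ z', g • z' = z := ⟨g⁻¹ • z, smul_inv_smul g z⟩
  rw [(MulAction.injective g).mem_finset_image]
  simp [r_smul_iff]

theorem not_adj_base {d y : G ⧸ K F} (hd : R F (base F) d) (h : R F d y) :
    ¬ R F (base F) y := fun hb => no_triangle hcard hd hb h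

/-- Each plane has exactly one point joined to a fixed neighbour of the base. -/
theorem unique_point {d : G ⧸ K F} (hd : R F (base F) d) {W : Finset Model.Vec}
    (hW : W ∈ Model.planes) :
    ∃! y : G ⧸ K F, y ≠ base F ∧ R F d y ∧ planeOf F y = W := by
  letI := Fintype.ofFinite (G ⧸ K F)
  set N1 := Finset.univ.filter fun y : G ⧸ K F => y ≠ base F ∧ R F d y with hN1
  have hmap : ∀ y ∈ N1, planeOf F y ∈ Model.planes := fun y hy => by
    rw [hN1, Finset.mem_filter] at hy
    exact planeOf_mem hy.2.1 (not_adj_base hcard hd hy.2.2)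
  have h15 : N1.card = 15 := by
    have h := degree hcard d
    rw [show (Finset.univ.filter fun y => R F d y) = insert (base F) N1 from ?_,
      Finset.card_insert_of_notMem (by simp [N1])] at h
    · omega
    ext y
    simp only [hN1, Finset.mem_insert, Finset.mem_filter, Finset.mem_univ, true_and]
    by_cases hb : y = base F
    · simp [hb, r_symm hd]
    · simp [hb]
  have hle : ∀ U ∈ Model.planes, ∀ U' ∈ Model.planes,
      (N1.filter fun y => planeOf F y = U).card ≤ (N1.filter fun y => planeOf F y = U').card := by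
    intro U hU U' hU'
    obtain ⟨l, hl, hld, hlU⟩ := plane_stab hcard hd hU hU'
    refine Finset.card_le_card_of_injOn (fun y => l • y) (fun y hy => ?_)
      (MulAction.injective l).injOn
    rw [Finset.mem_coe, Finset.mem_filter, hN1, Finset.mem_filter] at hy ⊢
    refine ⟨⟨Finset.mem_univ _, fun h => hy.1.2.1
      (smul_left_cancel l (h.trans (fix_base.2 hl).symm)), ?_⟩, ?_⟩
    · conv => arg 2; rw [← hld]
      exact r_smul l hy.1.2.2
    · rw [planeOf_smul hl, hy.2, hlU]
  have hsum := Finset.card_eq_sum_card_fiberwise hmap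
  rw [Finset.sum_congr rfl fun U hU => le_antisymm (hle U hU W hW) (hle W hW U hU),
    Finset.sum_const, Model.card_planes, smul_eq_mul, h15] at hsum
  have h1 : (N1.filter fun y => planeOf F y = W).card = 1 := by omega
  obtain ⟨y, hy⟩ := Finset.card_eq_one.1 h1
  have hmem : ∀ z, (z ≠ base F ∧ R F d z ∧ planeOf F z = W) ↔ z = y := fun z => by
    have h2 := Finset.ext_iff.1 hy z
    simp only [hN1, Finset.mem_filter, Finset.mem_univ, true_and, Finset.mem_singleton] at h2
    rwa [and_assoc] at h2
  exact ⟨y, (hmem y).2 rfl, fun z hz => (hmem z).1 hz⟩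

/-- A point is the translate of the point of its plane by any of its coordinates. -/
theorem eq_translate {d y x : G ⧸ K F} (hd : R F (base F) d) {W : Finset Model.Vec}
    (hW : W ∈ Model.planes) (hx : x ≠ base F ∧ R F d x ∧ planeOf F x = W)
    (hy : y ≠ base F) (hp : planeOf F y = W) {v : Model.Vec} (hv : R F (e F v • d) y) :
    y = e F v • x := by
  have h1 : e F v • y ≠ base F := fun h => hy
    (smul_left_cancel (e F v) (h.trans (fix_base_e v).symm))
  have h2 : R F d (e F v • y) := by
    have h := r_smul (e F v) hv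
    rwa [e_smul_self] at h
  rw [← (unique_point hcard hd hW).unique ⟨h1, h2, (planeOf_e v y).trans hp⟩ hx, e_smul_self]

theorem adj_coset {d x : G ⧸ K F} (hd : R F (base F) d) {W : Finset Model.Vec}
    (hW : W ∈ Model.planes) (hx : x ≠ base F ∧ R F d x ∧ planeOf F x = W) (v : Model.Vec) :
    R F (e F v • d) x ↔ v ∈ W := by
  constructor
  · intro h
    rw [← hx.2.2, mem_planeOf]
    exact (eq_translate hcard hd hW hx hx.1 hx.2.2 h).symm
  · intro h
    rw [← hx.2.2, mem_planeOf] at h
    conv => arg 3; rw [← h]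
    exact r_smul _ hx.2.1

/-- The point of a plane of the model. -/
theorem exists_point {d : G ⧸ K F} (hd : R F (base F) d) (S : Model.Block) :
    ∃ y : G ⧸ K F, y ≠ base F ∧ ¬ R F (base F) y ∧ planeOf F y = Model.dir S.1 ∧
      ∀ v, R F (e F v • d) y ↔ v ∈ S.1 := by
  obtain ⟨v0, hv0⟩ := Finset.card_pos.1 (show 0 < S.1.card by rw [S.2.1]; omega)
  have hW := Model.dir_mem_planes S.2
  obtain ⟨x, hx, -⟩ := unique_point hcard hd hW
  refine ⟨e F v0 • x, fun h => hx.1 (smul_left_cancel (e F v0) (h.trans (fix_base_e v0).symm)),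
    fun h => ?_, (planeOf_e v0 x).trans hx.2.2, fun v => ?_⟩
  · rw [← fix_base_e v0, r_smul_iff] at h
    exact not_adj_base hcard hd hx.2.1 h
  · rw [← r_smul_iff (e F v0), e_smul_e, e_smul_self, adj_coset hcard hd hW hx,
      Model.mem_iff_dir S.2 hv0]

/-- No two parallel planes are joined. -/
theorem not_adj_parallel {d x : G ⧸ K F} (hd : R F (base F) d) {W : Finset Model.Vec}
    (hW : W ∈ Model.planes) (hx : x ≠ base F ∧ R F d x ∧ planeOf F x = W) (u : Model.Vec) :
    ¬ R F x (e F u • x) := by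
  intro hu
  have huW : u ∉ W := fun h => by
    rw [← hx.2.2, mem_planeOf] at h
    rw [h] at hu
    exact r_irrefl x hu
  have hall : ∀ u', u' ∉ W → R F x (e F u' • x) := by
    intro u' hu'
    obtain ⟨w, hwW, hw, hwu⟩ := Model.plane_orth W hW u
      (Finset.mem_sdiff.2 ⟨Finset.mem_univ _, huW⟩)
    obtain ⟨w', hwW', hw', hwu'⟩ := Model.plane_orth W hW u'
      (Finset.mem_sdiff.2 ⟨Finset.mem_univ _, hu'⟩)
    obtain ⟨b, hbW, hb, hbw, hWb⟩ := Model.plane_span W hW w hwW hw
    obtain ⟨b', hbW', hb', hbw', hWb'⟩ := Model.plane_span W hW w' hwW' hw'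
    obtain ⟨l, hl, hld, hla, hlb⟩ := flag_stab hcard hd hw hb hbw hw' hb' hbw'
      (Model.plane_form W hW w hwW b hbW) (Model.plane_form W hW w' hwW' b' hbW')
    have himg : W.image (kc F l) = W := by
      refine Finset.eq_of_subset_of_card_le (fun y hy => ?_)
        (by rw [Finset.card_image_of_injective _ (kc_inj hl)])
      obtain ⟨z, hz, rfl⟩ := Finset.mem_image.1 hy
      rw [← hWb] at hz
      simp only [Finset.mem_insert, Finset.mem_singleton] at hz
      have hb1 : kc F l b ∈ W := by
        rcases hlb with h | h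
        · rw [h]; exact hbW'
        · rw [h]; exact Model.plane_add W hW _ hwW' _ hbW'
      rcases hz with rfl | rfl | rfl | rfl
      · rw [kc_zero hl]; exact Model.zero_mem_plane W hW
      · rw [hla]; exact hwW'
      · exact hb1
      · rw [kc_add hl, hla]; exact Model.plane_add W hW _ hwW' _ hb1
    have hlx : l • x = x := by
      refine (unique_point hcard hd hW).unique ⟨fun h => hx.1
        (smul_left_cancel l (h.trans (fix_base.2 hl).symm)), ?_, ?_⟩ hx
      · conv => arg 2; rw [← hld]
        exact r_smul l hx.2.1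
      · rw [planeOf_smul hl, hx.2.2, himg]
    have h1 := r_smul l hu
    rw [hlx, ← e_smul hl, hlx] at h1
    have hkW : kc F l u ∉ W := fun h => huW (by
      rw [← himg, Finset.mem_image] at h
      obtain ⟨z, hz, hzu⟩ := h
      exact kc_inj hl hzu ▸ hz)
    have hf : Model.form w' (kc F l u) = 0 := by rw [← hla, kc_form hl, hwu]
    rcases Model.plane_coset W hW w' hwW' _ (Finset.mem_sdiff.2 ⟨Finset.mem_univ _, hkW⟩) u'
      (Finset.mem_sdiff.2 ⟨Finset.mem_univ _, hu'⟩) with h | h | h | h
    · exact absurd h hw'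
    · exact absurd (hf.symm.trans h) zero_ne_one
    · exact absurd (hwu'.symm.trans h) zero_ne_one
    · rw [← hx.2.2, mem_planeOf, ← e_smul_e] at h
      have h2 : e F u' • x = e F (kc F l u) • x := by
        rw [← smul_left_cancel_iff (e F (kc F l u)), h, e_smul_self]
      rwa [h2]
  obtain ⟨a, ha, b, hb, hab⟩ := Model.plane_three W hW
  refine no_triangle hcard (hall a ha) (hall b hb) ?_
  have h := r_smul (e F a) (hall _ hab)
  rwa [e_smul_e, Model.add_add_cancel_self] at h

/-- The graph is the model graph. -/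
theorem exists_equiv : ∃ ι : Model.Pt ≃ (G ⧸ K F), ∀ p q, R F (ι p) (ι q) ↔ Model.Adj p q := by
  obtain ⟨d, hd⟩ := exists_adj (F := F) hcard
  choose ψ hψ0 hψ1 hψ2 hψ3 using fun S : Model.Block => exists_point hcard hd S
  let f : Model.Pt → G ⧸ K F := fun p =>
    match p with
    | .inl _ => base F
    | .inr (.inl v) => e F v • d
    | .inr (.inr S) => ψ S
  have hinj : Function.Injective f := by
    rintro (u | v | S) (u' | v' | S') h
    · rfl
    · exact absurd h (adj_ne hcard (pt_adj hcard hd v'))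
    · exact absurd h.symm (hψ0 S')
    · exact absurd h.symm (adj_ne hcard (pt_adj hcard hd v))
    · rw [pt_inj hcard hd h]
    · exact absurd (pt_adj hcard hd v) (by rw [show e F v • d = ψ S' from h]; exact hψ1 S')
    · exact absurd h (hψ0 S)
    · exact absurd (pt_adj hcard hd v') (by rw [← show ψ S = e F v' • d from h]; exact hψ1 S)
    · have : S = S' := Subtype.ext (Finset.ext fun w => by
        rw [← hψ3 S w, ← hψ3 S' w, show ψ S = ψ S' from h])
      rw [this]
  have hbij : Function.Bijective f := (Nat.bijective_iff_injective_and_card f).2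
    ⟨hinj, by rw [Model.card_pt_eq, card_quot hcard]⟩
  refine ⟨Equiv.ofBijective f hbij, ?_⟩
  show ∀ p q, R F (f p) (f q) ↔ Model.Adj p q
  have hvb : ∀ v v', ¬ R F (e F v • d) (e F v' • d) := fun v v' h => by
    have h1 := r_smul (e F v) h
    rw [e_smul_self, e_smul_e] at h1
    exact independent hcard hd _ h1
  have hbb : ∀ S T : Model.Block, R F (ψ S) (ψ T) → Model.Adj (Model.pl S) (Model.pl T) := by
    intro S T h
    have hdis : Disjoint S.1 T.1 := Finset.disjoint_left.2 fun v h1 h2 =>
      no_triangle hcard ((hψ3 S v).2 h1) ((hψ3 T v).2 h2) h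
    refine ⟨hdis, (Model.block_meet hdis).resolve_right fun hdir => ?_⟩
    have hW := Model.dir_mem_planes S.2
    obtain ⟨x, hx, -⟩ := unique_point hcard hd hW
    obtain ⟨v, hv⟩ := Finset.card_pos.1 (show 0 < S.1.card by rw [S.2.1]; omega)
    obtain ⟨w, hw⟩ := Finset.card_pos.1 (show 0 < T.1.card by rw [T.2.1]; omega)
    rw [eq_translate hcard hd hW hx (hψ0 S) (hψ2 S) ((hψ3 S v).2 hv),
      eq_translate hcard hd hW hx (hψ0 T) ((hψ2 T).trans hdir.symm) ((hψ3 T w).2 hw)] at h
    have h1 := r_smul (e F v) h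
    rw [e_smul_self, e_smul_e] at h1
    exact not_adj_parallel hcard hd hW hx _ h1
  rintro (u | v | S) (u' | v' | S')
  · exact iff_of_false (r_irrefl _) (fun h => h)
  · exact iff_of_true (pt_adj hcard hd v') trivial
  · exact iff_of_false (hψ1 S') (fun h => h)
  · exact iff_of_true (r_symm (pt_adj hcard hd v)) trivial
  · exact iff_of_false (hvb v v') (fun h => h)
  · exact hψ3 S' v
  · exact iff_of_false (fun h => hψ1 S (r_symm h)) (fun h => h)
  · exact ⟨fun h => (hψ3 S v').1 (r_symm h), fun h => r_symm ((hψ3 S v').2 h)⟩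
  · refine ⟨hbb S S', fun h => ?_⟩
    have hsub : {p : Model.Pt | R F (ψ S) (f p)} ⊆ {p | Model.Adj (Model.pl S) p} := by
      rintro (u | v | T) hp
      · exact absurd (r_symm hp) (hψ1 S)
      · exact (hψ3 S v).1 (r_symm hp)
      · exact hbb S T hp
    have hcardset : {p : Model.Pt | R F (ψ S) (f p)}.ncard = 16 := by
      letI := Fintype.ofFinite (G ⧸ K F)
      rw [← degree hcard (ψ S), ← Set.ncard_coe_finset,
        ← Set.ncard_image_of_injective {p : Model.Pt | R F (ψ S) (f p)} hinj]
      congr 1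
      ext y
      obtain ⟨p, rfl⟩ := hbij.2 y
      rw [hinj.mem_set_image]
      simp
    have heq := Set.eq_of_subset_of_ncard_le hsub
      ((Model.degree_le S).trans hcardset.ge)
    have hm : Model.pl S' ∈ {p : Model.Pt | R F (ψ S) (f p)} := by
      rw [heq]
      exact h
    exact hm

end Delta

end Graph

/-- A group with a frame maps nontrivially to the automorphism group of the graph. -/
theorem exists_hom_aut {G : Type u} [Group G] [Finite G] (hcard : Nat.card G = 443520)
    (F : Frame G) : ∃ f : G →* Model.autGroup, f ≠ 1 := by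
  obtain ⟨ι, hι⟩ := Graph.exists_equiv (F := F) hcard
  let h : G →* Equiv.Perm Model.Pt :=
    (Equiv.permCongrHom ι.symm).toMonoidHom.comp (MulAction.toPermHom G (G ⧸ Graph.K F))
  have happ : ∀ g p, ι (h g p) = g • ι p := fun g p => by simp [h, Equiv.permCongrHom]
  have hmem : ∀ g, h g ∈ Model.autGroup := fun g p q => by
    rw [← hι, ← hι, happ, happ, Graph.r_smul_iff]
  refine ⟨h.codRestrict Model.autGroup hmem, fun h1 => ?_⟩
  have hne : Graph.K F ≠ ⊤ := fun htop => by
    have h2 := F.card_K
    rw [show normalizer (F.E : Set G) = ⊤ from htop, Subgroup.card_top, hcard] at h2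
    omega
  obtain ⟨g, hg⟩ : ∃ g, g ∉ Graph.K F := not_forall.1 fun hall => hne ((Subgroup.eq_top_iff' _).2 hall)
  refine hg (Graph.fix_base.1 ?_)
  obtain ⟨p, hp⟩ := ι.surjective (Graph.base F)
  rw [← hp, ← happ]
  congr 1
  exact congrArg (fun σ : Model.autGroup => σ.1 p) (DFunLike.congr_fun h1 g)

end Cfsg.Agent.M22Order
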