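import Cfsg.Agent.Lib.M22Order.Identify

/-!
# Finite facts on the isotropic planes used to build the graph
-/

set_option autoImplicit false

namespace Cfsg.Agent.M22Order.Model

/-- The fifteen totally isotropic planes through zero. -/
def planeList : List (Finset Vec) :=
  [   {(0, 0, 0, 0), (0, 0, 0, 1), (0, 1, 0, 0), (0, 1, 0, 1)},
      {(0, 0, 0, 0), (0, 0, 0, 1), (1, 0, 0, 0), (1, 0, 0, 1)},
      {(0, 0, 0, 0), (0, 0, 0, 1), (1, 1, 0, 0), (1, 1, 0, 1)},
      {(0, 0, 0, 0), (0, 0, 1, 0), (0, 1, 0, 0), (0, 1, 1, 0)},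
      {(0, 0, 0, 0), (0, 0, 1, 0), (1, 0, 0, 0), (1, 0, 1, 0)},
      {(0, 0, 0, 0), (0, 0, 1, 0), (1, 1, 0, 0), (1, 1, 1, 0)},
      {(0, 0, 0, 0), (0, 0, 1, 1), (0, 1, 0, 0), (0, 1, 1, 1)},
      {(0, 0, 0, 0), (0, 0, 1, 1), (1, 0, 0, 0), (1, 0, 1, 1)},
      {(0, 0, 0, 0), (0, 0, 1, 1), (1, 1, 0, 0), (1, 1, 1, 1)},
      {(0, 0, 0, 0), (0, 1, 0, 1), (1, 0, 1, 0), (1, 1, 1, 1)},
      {(0, 0, 0, 0), (0, 1, 0, 1), (1, 0, 1, 1), (1, 1, 1, 0)},
      {(0, 0, 0, 0), (0, 1, 1, 0), (1, 0, 0, 1), (1, 1, 1, 1)},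
      {(0, 0, 0, 0), (0, 1, 1, 0), (1, 0, 1, 1), (1, 1, 0, 1)},
      {(0, 0, 0, 0), (0, 1, 1, 1), (1, 0, 0, 1), (1, 1, 1, 0)},
      {(0, 0, 0, 0), (0, 1, 1, 1), (1, 0, 1, 0), (1, 1, 0, 1)}]

/-- The fifteen planes as a set. -/
def planes : Finset (Finset Vec) := ⟨↑planeList, by
  rw [Multiset.coe_nodup]; decide +kernel⟩

theorem card_planes : planes.card = 15 := rfl

theorem add_self : ∀ v : Vec, v + v = 0 := by decide +kernel

theorem add_add_cancel_self (a b : Vec) : a + (a + b) = b := by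
  rw [← add_assoc, add_self, zero_add]

theorem exists_orth : ∀ t : Vec, t ≠ 0 → ∃ x : Vec, x ≠ 0 ∧ x ≠ t ∧ form t x = 0 := by
  decide +kernel

set_option synthInstance.maxSize 512 in
theorem mem_planes : ∀ a b : Vec, a ≠ 0 → b ≠ 0 → a ≠ b → form a b = 0 →
    ({0, a, b, a + b} : Finset Vec) ∈ planes := by decide +kernel

theorem card_plane : ∀ W ∈ planes, W.card = 4 :=
  have h : planeList.all (fun W => decide (W.card = 4)) = true := by decide +kernel
  fun W hW => of_decide_eq_true (List.all_eq_true.1 h W hW)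

theorem plane_form : ∀ W ∈ planes, ∀ a ∈ W, ∀ b ∈ W, form a b = 0 := by decide +kernel

theorem plane_add : ∀ W ∈ planes, ∀ a ∈ W, ∀ b ∈ W, a + b ∈ W := by decide +kernel

theorem zero_mem_plane : ∀ W ∈ planes, (0 : Vec) ∈ W := by decide +kernel

theorem plane_orth : ∀ W ∈ planes, ∀ u ∈ Finset.univ \ W, ∃ w ∈ W, w ≠ 0 ∧ form w u = 0 := by
  decide +kernel

theorem plane_coset : ∀ W ∈ planes, ∀ w ∈ W, ∀ u ∈ Finset.univ \ W, ∀ u' ∈ Finset.univ \ W,
    w = 0 ∨ form w u = 1 ∨ form w u' = 1 ∨ u + u' ∈ W := by decide +kernel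

theorem plane_three : ∀ W ∈ planes, ∃ a : Vec, a ∉ W ∧ ∃ b : Vec, b ∉ W ∧ a + b ∉ W := by
  decide +kernel

theorem plane_span : ∀ W ∈ planes, ∀ w ∈ W, w ≠ 0 →
    ∃ x ∈ W, x ≠ 0 ∧ x ≠ w ∧ ({0, w, x, w + x} : Finset Vec) = W := by decide +kernel

theorem plane_ne_zero : ∀ W ∈ planes, ∃ w ∈ W, w ≠ 0 := by decide +kernel

/-- Two planes meeting trivially have no disjoint translates. -/
theorem plane_cover : ∀ W ∈ planes, ∀ W' ∈ planes,
    W = W' ∨ (W ∩ W').card = 2 ∨ ∀ v : Vec, ∃ x ∈ W, v + x ∈ W' := by decide +kernel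

/-- The planes disjoint from `W` in the graph. -/
def nbs (W : Finset Vec) : Finset (Finset Vec) :=
  (planes.filter fun W' => (W ∩ W').card = 2).biUnion fun W' =>
    (Finset.univ.filter fun u => ∀ x ∈ W, u + x ∉ W').image fun u => W'.image fun w => u + w

theorem card_nbs : ∀ W ∈ planes, (nbs W).card ≤ 12 :=
  have h : planeList.all (fun W => decide ((nbs W).card ≤ 12)) = true := by decide +kernel
  fun W hW => of_decide_eq_true (List.all_eq_true.1 h W hW)

theorem dir_eq {S : Finset Vec} (hS : IsBlock S) {v : Vec} (hv : v ∈ S) :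
    dir S = S.image (fun w => v + w) := by
  refine (Finset.eq_of_subset_of_card_le (fun y hy => ?_) ?_).symm
  · obtain ⟨w, hw, rfl⟩ := Finset.mem_image.1 hy
    exact Finset.mem_image.2 ⟨(v, w), Finset.mem_product.2 ⟨hv, hw⟩, rfl⟩
  · rw [Finset.card_image_of_injective _ (fun a b h => add_left_cancel h), hS.1, hS.2.1]

theorem image_dir {S : Finset Vec} (hS : IsBlock S) {v : Vec} (hv : v ∈ S) :
    (dir S).image (fun w => v + w) = S := by
  rw [dir_eq hS hv, Finset.image_image]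
  conv_rhs => rw [← Finset.image_id (s := S)]
  exact Finset.image_congr fun w _ => add_add_cancel_self v w

theorem mem_iff_dir {S : Finset Vec} (hS : IsBlock S) {v : Vec} (hv : v ∈ S) (w : Vec) :
    w ∈ S ↔ v + w ∈ dir S := by
  rw [dir_eq hS hv, Finset.mem_image]
  exact ⟨fun h => ⟨w, h, rfl⟩, fun ⟨u, hu, e⟩ => add_left_cancel e ▸ hu⟩

theorem dir_mem_planes {S : Finset Vec} (hS : IsBlock S) : dir S ∈ planes := by
  obtain ⟨v, hv⟩ := Finset.card_pos.1 (show 0 < S.card by rw [hS.1]; omega)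
  have h1 : 1 < (S.erase v).card := by rw [Finset.card_erase_of_mem hv, hS.1]; omega
  obtain ⟨x, hx, y, hy, hxy⟩ := Finset.one_lt_card.1 h1
  rw [Finset.mem_erase] at hx hy
  have hd : ∀ w ∈ S, v + w ∈ dir S := fun w hw => (mem_iff_dir hS hv w).1 hw
  have hne : ∀ w, w ≠ v → v + w ≠ 0 := fun w hw e => hw
    (add_left_cancel (e.trans (add_self v).symm))
  have hne' : v + x ≠ v + y := fun e => hxy (add_left_cancel e)
  have hf := hS.2.2 _ (hd x hx.2) _ (hd y hy.2)
  have hm := mem_planes _ _ (hne x hx.1) (hne y hy.1) hne' hf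
  convert hm using 1
  refine (Finset.eq_of_subset_of_card_le ?_ (by rw [hS.2.1, card_plane _ hm])).symm
  have h0 : (0 : Vec) ∈ dir S := by
    have := hd v hv
    rwa [add_self] at this
  have h4 : v + x + (v + y) ∈ dir S := by
    rw [add_add_add_comm, add_self, zero_add]
    exact Finset.mem_image.2 ⟨(x, y), Finset.mem_product.2 ⟨hx.2, hy.2⟩, rfl⟩
  simp only [Finset.insert_subset_iff, Finset.singleton_subset_iff]
  exact ⟨h0, hd x hx.2, hd y hy.2, h4⟩

theorem block_meet {S T : Block} (h : Disjoint S.1 T.1) :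
    (dir S.1 ∩ dir T.1).card = 2 ∨ dir S.1 = dir T.1 := by
  obtain ⟨v, hv⟩ := Finset.card_pos.1 (show 0 < S.1.card by rw [S.2.1]; omega)
  obtain ⟨u, hu⟩ := Finset.card_pos.1 (show 0 < T.1.card by rw [T.2.1]; omega)
  rcases plane_cover _ (dir_mem_planes S.2) _ (dir_mem_planes T.2) with e | e | e
  · exact Or.inr e
  · exact Or.inl e
  · obtain ⟨x, hx, hx'⟩ := e (u + v)
    have hS' : v + x ∈ S.1 := by rw [mem_iff_dir S.2 hv, add_add_cancel_self]; exact hx
    refine absurd ?_ (Finset.disjoint_left.1 h hS')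
    rw [mem_iff_dir T.2 hu, ← add_assoc]
    exact hx'

theorem card_block_eq : Nat.card Block = 60 := by
  have h : ((Finset.powersetCard 4 (Finset.univ : Finset Vec)).filter IsBlock).card = 60 := by
    decide +kernel
  rw [← h, ← Nat.card_eq_finsetCard]
  exact Nat.card_congr (Equiv.subtypeEquivRight fun S => by
    rw [Finset.mem_filter, Finset.mem_powersetCard]
    exact ⟨fun hS => ⟨⟨Finset.subset_univ _, hS.1⟩, hS⟩, fun hS => hS.2⟩)

theorem card_pt_eq : Nat.card Pt = 77 := by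
  rw [Nat.card_sum, Nat.card_sum, card_block_eq, Nat.card_eq_fintype_card (α := Vec), Nat.card_unique]
  decide

/-- The point of a plane. -/
def pl (S : Block) : Pt := .inr (.inr S)

/-- A point of a plane has at most sixteen neighbours. -/
theorem degree_le (S : Block) : {p : Pt | Adj (pl S) p}.ncard ≤ 16 := by
  classical
  obtain ⟨v, hv⟩ := Finset.card_pos.1 (show 0 < S.1.card by rw [S.2.1]; omega)
  let A : Set Pt := vec '' (↑S.1 : Set Vec)
  let Bs : Set Block := {T : Block | Disjoint S.1 T.1 ∧ (dir S.1 ∩ dir T.1).card = 2}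
  have hsub : {p : Pt | Adj (pl S) p} ⊆ A ∪ pl '' Bs := by
    rintro (u | w | T) h
    · exact absurd h (by simp [Adj, pl])
    · exact Or.inl ⟨w, h, rfl⟩
    · exact Or.inr ⟨T, h, rfl⟩
  have hA : A.ncard ≤ 4 := by
    refine (Set.ncard_image_le).trans ?_
    rw [Set.ncard_coe_finset, S.2.1]
  have hB : (pl '' Bs).ncard ≤ 12 := by
    refine (Set.ncard_image_le).trans ?_
    refine le_trans ?_ (le_trans Finset.card_image_le (card_nbs _ (dir_mem_planes S.2)) :
      ((nbs (dir S.1)).image fun U => U.image fun w => v + w).card ≤ 12)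
    rw [← Set.ncard_coe_finset]
    refine Set.ncard_le_ncard_of_injOn Subtype.val (fun T hT => ?_) Subtype.val_injective.injOn
    obtain ⟨hd, hc⟩ := hT
    obtain ⟨u, hu⟩ := Finset.card_pos.1 (show 0 < T.1.card by rw [T.2.1]; omega)
    refine Finset.mem_coe.2 (Finset.mem_image.2 ⟨(dir T.1).image (fun w => (v + u) + w), ?_, ?_⟩)
    · refine Finset.mem_biUnion.2 ⟨dir T.1, Finset.mem_filter.2 ⟨dir_mem_planes T.2, hc⟩,
        Finset.mem_image.2 ⟨v + u, Finset.mem_filter.2 ⟨Finset.mem_univ _, fun x hx hx' => ?_⟩, rfl⟩⟩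
      have hS' : v + x ∈ S.1 := by rw [mem_iff_dir S.2 hv, add_add_cancel_self]; exact hx
      refine Finset.disjoint_left.1 hd hS' ?_
      rw [mem_iff_dir T.2 hu, ← add_assoc, add_comm u v]
      exact hx'
    · rw [Finset.image_image]
      refine (Finset.image_congr fun w _ => ?_).trans (image_dir T.2 hu)
      show v + (v + u + w) = u + w
      rw [add_assoc, add_add_cancel_self]
  calc {p : Pt | Adj (pl S) p}.ncard ≤ (A ∪ pl '' Bs).ncard := Set.ncard_le_ncard hsub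
    _ ≤ A.ncard + (pl '' Bs).ncard := Set.ncard_union_le _ _
    _ ≤ 16 := by omega

end Cfsg.Agent.M22Order.Model
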