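import Cfsg.Agent.Lib.M22Order.Frame
import Cfsg.Agent.Lib.M22Order.GraphModel

/-!
# The graph on the 77 cosets of the normalizer of `E`

Two cosets are joined when no involution of the elementary subgroup of one fixes the other; this
graph is the model graph, which gives the map to its automorphism group.
-/

set_option autoImplicit false
set_option linter.unusedSectionVars false

namespace Cfsg.Agent.M22Order.Graph

open Subgroup

open scoped _root_.Classical

universe u

variable {G : Type u} [Group G] (F : Frame G)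

/-- The point stabilizer. -/
abbrev K : Subgroup G := normalizer (F.E : Set G)

/-- The base coset. -/
def base : G ⧸ K F := ((1 : G) : G ⧸ K F)

/-- `t` lies in the elementary subgroup of the point `x`. -/
def InE (t : G) (x : G ⧸ K F) : Prop := x.out⁻¹ * t * x.out ∈ F.E

/-- The relation: no nontrivial element of the first subgroup fixes the second point. -/
def R (x y : G ⧸ K F) : Prop := ∀ t : G, InE F t x → t • y = y → t = 1

variable {F}

theorem mem_K {k : G} (hk : k ∈ K F) (x : G) : x ∈ F.E ↔ k * x * k⁻¹ ∈ F.E :=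
  Subgroup.mem_normalizer_iff.1 hk x

theorem inE_mk {t g : G} : InE F t (g : G ⧸ K F) ↔ g⁻¹ * t * g ∈ F.E := by
  obtain ⟨k, hk⟩ := QuotientGroup.mk_out_eq_mul (K F) g
  rw [InE, hk, mem_K k.2 ((g * k)⁻¹ * t * (g * k))]
  rw [show (k : G) * ((g * k)⁻¹ * t * (g * k)) * (k : G)⁻¹ = g⁻¹ * t * g by group]

theorem fix_mk {t g : G} : t • (g : G ⧸ K F) = g ↔ g⁻¹ * t * g ∈ K F := by
  show ((t * g : G) : G ⧸ K F) = g ↔ _
  rw [eq_comm, QuotientGroup.eq, ← mul_assoc]

theorem inE_base {t : G} : InE F t (base F) ↔ t ∈ F.E := by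
  rw [base, inE_mk, inv_one, one_mul, mul_one]

theorem fix_base {t : G} : t • base F = base F ↔ t ∈ K F := by
  rw [base, fix_mk, inv_one, one_mul, mul_one]

theorem exists_smul_base (x : G ⧸ K F) : ∃ g : G, g • base F = x := by
  obtain ⟨g, rfl⟩ := QuotientGroup.mk_surjective x
  refine ⟨g, ?_⟩
  show ((g * 1 : G) : G ⧸ K F) = g
  rw [mul_one]

theorem inE_smul {t : G} {x : G ⧸ K F} (g : G) :
    InE F (g * t * g⁻¹) (g • x) ↔ InE F t x := by
  obtain ⟨h, rfl⟩ := QuotientGroup.mk_surjective x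
  show InE F (g * t * g⁻¹) ((g * h : G) : G ⧸ K F) ↔ _
  rw [inE_mk, inE_mk, show (g * h)⁻¹ * (g * t * g⁻¹) * (g * h) = h⁻¹ * t * h by group]

theorem r_smul {x y : G ⧸ K F} (g : G) (h : R F x y) : R F (g • x) (g • y) := by
  intro t ht hf
  have e : g * (g⁻¹ * t * g) * g⁻¹ = t := by group
  have h1 : InE F (g⁻¹ * t * g) x := (inE_smul g).1 (by rw [e]; exact ht)
  have h2 : (g⁻¹ * t * g) • y = y := by
    rw [mul_smul, mul_smul, hf, inv_smul_smul]
  rw [← e, h _ h1 h2, mul_one, mul_inv_cancel]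

theorem r_smul_iff {x y : G ⧸ K F} (g : G) : R F (g • x) (g • y) ↔ R F x y :=
  ⟨fun h => by simpa using r_smul g⁻¹ h, r_smul g⟩

theorem inE_mul {s t : G} {x : G ⧸ K F} (hs : InE F s x) (ht : InE F t x) : InE F (s * t) x := by
  unfold InE at *
  rw [show x.out⁻¹ * (s * t) * x.out = (x.out⁻¹ * s * x.out) * (x.out⁻¹ * t * x.out) by group]
  exact mul_mem hs ht

theorem inE_inv {s : G} {x : G ⧸ K F} (hs : InE F s x) : InE F s⁻¹ x := by
  unfold InE at *
  rw [show x.out⁻¹ * s⁻¹ * x.out = (x.out⁻¹ * s * x.out)⁻¹ by group]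
  exact inv_mem hs

theorem φ_one : F.φ 1 = 0 := by
  have h := F.φ_mul 1 (one_mem _) 1 (one_mem _)
  rw [mul_one] at h
  exact add_left_cancel (h.symm.trans (add_zero _).symm)

theorem sq_one {x : G} (hx : x ∈ F.E) : x * x = 1 :=
  F.φ_eq_zero _ (mul_mem hx hx) ((F.φ_mul x hx x hx).trans (Model.add_self _))

theorem φ_inj {x y : G} (hx : x ∈ F.E) (hy : y ∈ F.E) (h : F.φ x = F.φ y) : x = y := by
  have h1 : x * y = 1 :=
    F.φ_eq_zero _ (mul_mem hx hy) (by rw [F.φ_mul x hx y hy, h, Model.add_self])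
  exact mul_right_cancel (h1.trans (sq_one hy).symm)

theorem comm {x y : G} (hx : x ∈ F.E) (hy : y ∈ F.E) : x * y = y * x :=
  φ_inj (mul_mem hx hy) (mul_mem hy hx) (by rw [F.φ_mul x hx y hy, F.φ_mul y hy x hx, add_comm])

theorem order_two {x : G} (hx : x ∈ F.E) (h1 : x ≠ 1) : orderOf x = 2 :=
  orderOf_eq_prime (by rw [pow_two]; exact sq_one hx) h1

theorem le_K : F.E ≤ K F := Subgroup.le_normalizer

theorem fix_of_inE {t : G} {x : G ⧸ K F} (h : InE F t x) : t • x = x := by
  obtain ⟨g, rfl⟩ := QuotientGroup.mk_surjective x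
  exact fix_mk.2 (le_K (inE_mk.1 h))

theorem inE_unique {t : G} (ht1 : t ≠ 1) {x y : G ⧸ K F} (hx : InE F t x) (hy : InE F t y) :
    x = y := by
  obtain ⟨g, rfl⟩ := QuotientGroup.mk_surjective x
  obtain ⟨h, rfl⟩ := QuotientGroup.mk_surjective y
  rw [inE_mk] at hx hy
  have hne : g⁻¹ * t * g ≠ 1 := fun e => ht1 (by
    rw [show t = g * (g⁻¹ * t * g) * g⁻¹ by group, e, mul_one, mul_inv_cancel])
  have hk := F.unique _ hx hne (h⁻¹ * g)
    (by rwa [show h⁻¹ * g * (g⁻¹ * t * g) * (h⁻¹ * g)⁻¹ = h⁻¹ * t * h by group])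
  exact (QuotientGroup.eq.2 hk).symm

theorem fix_of_commute {t s : G} {x : G ⧸ K F} (ht1 : t ≠ 1) (ht : InE F t x) (h : Commute s t) :
    s • x = x := by
  obtain ⟨g, rfl⟩ := QuotientGroup.mk_surjective x
  rw [inE_mk] at ht
  have hne : g⁻¹ * t * g ≠ 1 := fun e => ht1 (by
    rw [show t = g * (g⁻¹ * t * g) * g⁻¹ by group, e, mul_one, mul_inv_cancel])
  refine fix_mk.2 (F.cen_le _ ht hne (Subgroup.mem_centralizer_singleton_iff.2 ?_))
  calc g⁻¹ * s * g * (g⁻¹ * t * g) = g⁻¹ * (s * t) * g := by group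
    _ = g⁻¹ * (t * s) * g := by rw [h.eq]
    _ = g⁻¹ * t * g * (g⁻¹ * s * g) := by group

/-- The element of `E` with given coordinates. -/
noncomputable def e (F : Frame G) (v : Model.Vec) : G := Classical.choose (F.φ_surj v)

theorem e_mem (v : Model.Vec) : e F v ∈ F.E := (Classical.choose_spec (F.φ_surj v)).1

theorem φ_e (v : Model.Vec) : F.φ (e F v) = v := (Classical.choose_spec (F.φ_surj v)).2

theorem e_φ {x : G} (hx : x ∈ F.E) : e F (F.φ x) = x := φ_inj (e_mem _) hx (φ_e _)

theorem e_zero : e F 0 = 1 := by rw [← φ_one (F := F), e_φ (one_mem _)]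

theorem e_add (v w : Model.Vec) : e F (v + w) = e F v * e F w :=
  φ_inj (e_mem _) (mul_mem (e_mem _) (e_mem _))
    (by rw [φ_e, F.φ_mul _ (e_mem _) _ (e_mem _), φ_e, φ_e])

theorem e_eq_one {v : Model.Vec} : e F v = 1 ↔ v = 0 :=
  ⟨fun h => by rw [← φ_e (F := F) v, h, φ_one], fun h => h ▸ e_zero⟩

theorem e_inj : Function.Injective (e F) := fun v w h => by rw [← φ_e (F := F) v, h, φ_e]

/-- The map on coordinates induced by conjugation. -/
noncomputable def kc (F : Frame G) (k : G) (v : Model.Vec) : Model.Vec := F.φ (k * e F v * k⁻¹)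

theorem e_kc {k : G} (hk : k ∈ K F) (v : Model.Vec) : e F (kc F k v) = k * e F v * k⁻¹ :=
  e_φ ((mem_K hk _).1 (e_mem v))

theorem kc_inj {k : G} (hk : k ∈ K F) : Function.Injective (kc F k) := fun v w h => by
  have := congrArg (e F) h
  rw [e_kc hk, e_kc hk] at this
  exact e_inj (mul_left_cancel (mul_right_cancel this))

theorem kc_surj {k : G} (hk : k ∈ K F) : Function.Surjective (kc F k) :=
  Finite.injective_iff_surjective.1 (kc_inj hk)

theorem kc_zero {k : G} (hk : k ∈ K F) : kc F k 0 = 0 :=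
  e_inj (by rw [e_kc hk, e_zero, mul_one, mul_inv_cancel])

theorem kc_add {k : G} (hk : k ∈ K F) (v w : Model.Vec) :
    kc F k (v + w) = kc F k v + kc F k w :=
  e_inj (by rw [e_kc hk, e_add, e_add, e_kc hk, e_kc hk]; group)

theorem kc_form {k : G} (hk : k ∈ K F) (v w : Model.Vec) :
    Model.form (kc F k v) (kc F k w) = Model.form v w := by
  rw [kc, kc, F.form_inv k hk _ (e_mem _) _ (e_mem _), φ_e, φ_e]

theorem e_smul {k : G} (hk : k ∈ K F) (v : Model.Vec) (y : G ⧸ K F) :
    e F (kc F k v) • k • y = k • e F v • y := by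
  rw [e_kc hk, ← mul_smul, ← mul_smul]
  congr 1
  group

theorem fix_base_e (v : Model.Vec) : e F v • base F = base F := fix_base.2 (le_K (e_mem v))

theorem e_smul_e (v w : Model.Vec) (y : G ⧸ K F) : e F v • e F w • y = e F (v + w) • y := by
  rw [e_add, mul_smul]

theorem e_smul_self (v : Model.Vec) (y : G ⧸ K F) : e F v • e F v • y = y := by
  rw [e_smul_e, Model.add_self, e_zero, one_smul]

theorem r_irrefl (x : G ⧸ K F) : ¬ R F x x := by
  intro h
  obtain ⟨g, rfl⟩ := exists_smul_base x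
  have h0 := (r_smul_iff g).1 h
  have h1 := h0 (e F (1, 0, 0, 0)) (inE_base.2 (e_mem _)) (fix_base_e _)
  exact absurd (e_eq_one.1 h1) (by decide)

theorem not_r_base {y : G ⧸ K F} :
    ¬ R F (base F) y ↔ ∃ t ∈ F.E, t ≠ 1 ∧ t • y = y := by
  simp only [R, inE_base, not_forall]
  exact ⟨fun ⟨t, h1, h2, h3⟩ => ⟨t, h1, h3, h2⟩, fun ⟨t, h1, h3, h2⟩ => ⟨t, h1, h2, h3⟩⟩

theorem exists_back {y : G ⧸ K F} (hy : y ≠ base F) (h : ¬ R F (base F) y) :
    ∃ u : G, InE F u y ∧ u ≠ 1 ∧ u ∈ K F := by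
  obtain ⟨t, ht, ht1, htf⟩ := not_r_base.1 h
  obtain ⟨g, rfl⟩ := QuotientGroup.mk_surjective y
  have hK := fix_mk.1 htf
  have hnE : g⁻¹ * t * g ∉ F.E := fun hE => hy (inE_unique ht1 (inE_mk.2 hE) (inE_base.2 ht))
  have h2 : orderOf (g⁻¹ * t * g) = 2 := by
    refine orderOf_eq_prime ?_ fun h1 => ht1 ?_
    · rw [pow_two, show g⁻¹ * t * g * (g⁻¹ * t * g) = g⁻¹ * (t * t) * g by group, sq_one ht]
      group
    · rw [show t = g * (g⁻¹ * t * g) * g⁻¹ by group, h1, mul_one, mul_inv_cancel]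
  obtain ⟨hc, -⟩ := F.outside _ hK hnE h2
  obtain ⟨a, ha, ha1⟩ : ∃ a ∈ (F.E ⊓ centralizer ({g⁻¹ * t * g} : Set G) : Subgroup G), a ≠ 1 := by
    rcases Subgroup.bot_or_exists_ne_one
      (F.E ⊓ centralizer ({g⁻¹ * t * g} : Set G) : Subgroup G) with h0 | h0
    · rw [h0, Subgroup.card_bot] at hc
      omega
    · exact h0
  obtain ⟨haE, hac⟩ := Subgroup.mem_inf.1 ha
  have hac' := Subgroup.mem_centralizer_singleton_iff.1 hac
  refine ⟨g * a * g⁻¹, inE_mk.2 ?_, fun h1 => ha1 ?_, F.cen_le t ht ht1 ?_⟩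
  · rwa [show g⁻¹ * (g * a * g⁻¹) * g = a by group]
  · rw [show a = g⁻¹ * (g * a * g⁻¹) * g by group, h1]
    group
  · refine Subgroup.mem_centralizer_singleton_iff.2 ?_
    calc g * a * g⁻¹ * t = g * (a * (g⁻¹ * t * g)) * g⁻¹ := by group
      _ = g * (g⁻¹ * t * g * a) * g⁻¹ := by rw [hac']
      _ = t * (g * a * g⁻¹) := by group

theorem r_symm {x y : G ⧸ K F} (h : R F x y) : R F y x := by
  by_contra hc
  obtain ⟨g, rfl⟩ := exists_smul_base y
  obtain ⟨z, rfl⟩ : ∃ z, g • z = x := ⟨g⁻¹ • x, smul_inv_smul g x⟩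
  rw [r_smul_iff] at h hc
  by_cases hz : z = base F
  · exact hc (hz ▸ h)
  · obtain ⟨u, hu, hu1, huK⟩ := exists_back hz hc
    exact hu1 (h u hu (fix_base.2 huK))

/-- The coordinates of the elements of `E` fixing a point. -/
noncomputable def planeOf (F : Frame G) (y : G ⧸ K F) : Finset Model.Vec :=
  Finset.univ.filter fun v => e F v • y = y

theorem mem_planeOf {v : Model.Vec} {y : G ⧸ K F} : v ∈ planeOf F y ↔ e F v • y = y := by
  simp [planeOf]

theorem planeOf_e (w : Model.Vec) (y : G ⧸ K F) : planeOf F (e F w • y) = planeOf F y := by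
  ext v
  rw [mem_planeOf, mem_planeOf, e_smul_e, add_comm, ← e_smul_e]
  exact smul_left_cancel_iff _

theorem planeOf_smul {k : G} (hk : k ∈ K F) (y : G ⧸ K F) :
    planeOf F (k • y) = (planeOf F y).image (kc F k) := by
  ext v
  obtain ⟨w, rfl⟩ := kc_surj hk v
  rw [mem_planeOf, e_smul hk, smul_left_cancel_iff, Finset.mem_image]
  exact ⟨fun h => ⟨w, mem_planeOf.2 h, rfl⟩, fun ⟨w', h1, h2⟩ => kc_inj hk h2 ▸ mem_planeOf.1 h1⟩

theorem planeOf_mem {y : G ⧸ K F} (hy : y ≠ base F) (h : ¬ R F (base F) y) :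
    planeOf F y ∈ Model.planes := by
  obtain ⟨u, hu, hu1, huK⟩ := exists_back hy h
  have huE : u ∉ F.E := fun hE => hy (inE_unique hu1 hu (inE_base.2 hE))
  have hu2 : orderOf u = 2 := by
    refine orderOf_eq_prime ?_ hu1
    have h0 := sq_one (F := F) hu
    rw [show y.out⁻¹ * u * y.out * (y.out⁻¹ * u * y.out) = y.out⁻¹ * (u * u) * y.out by group] at h0
    rw [pow_two, show u * u = y.out * (y.out⁻¹ * (u * u) * y.out) * y.out⁻¹ by group, h0]
    group
  obtain ⟨hc, hiso⟩ := F.outside u huK huE hu2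
  have key : ∀ v, v ∈ planeOf F y ↔ e F v ∈ (F.E ⊓ centralizer ({u} : Set G) : Subgroup G) := by
    intro v
    rw [mem_planeOf, Subgroup.mem_inf, Subgroup.mem_centralizer_singleton_iff]
    constructor
    · intro hv
      refine ⟨e_mem v, ?_⟩
      have h1 : InE F (e F v * u * (e F v)⁻¹ * u⁻¹) y := by
        refine inE_mul ?_ (inE_inv hu)
        conv => arg 3; rw [← hv]
        exact (inE_smul _).2 hu
      have h2 : InE F (e F v * u * (e F v)⁻¹ * u⁻¹) (base F) := by
        rw [inE_base, show e F v * u * (e F v)⁻¹ * u⁻¹ = e F v * (u * (e F v)⁻¹ * u⁻¹) by group]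
        exact mul_mem (e_mem v) ((mem_K huK _).1 (inv_mem (e_mem v)))
      by_contra hne
      exact hy (inE_unique (fun h0 => hne (mul_inv_eq_iff_eq_mul.1 (mul_inv_eq_one.1 h0)))
        h1 h2)
    · exact fun h => fix_of_commute hu1 hu h.2
  have hcard : (planeOf F y).card = 4 := by
    rw [← hc, ← Nat.card_eq_finsetCard]
    exact Nat.card_congr
      { toFun := fun v => ⟨e F v.1, (key _).1 v.2⟩
        invFun := fun x => ⟨F.φ x.1, (key _).2 (by
          rw [e_φ (Subgroup.mem_inf.1 x.2).1]; exact x.2)⟩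
        left_inv := fun v => Subtype.ext (φ_e _)
        right_inv := fun x => Subtype.ext (e_φ (Subgroup.mem_inf.1 x.2).1) }
  have h1 : 1 < ((planeOf F y).erase 0).card := by
    rw [Finset.card_erase_of_mem (by rw [mem_planeOf, e_zero, one_smul]), hcard]
    omega
  obtain ⟨a, ha, b, hb, hab⟩ := Finset.one_lt_card.1 h1
  rw [Finset.mem_erase] at ha hb
  have hf : Model.form a b = 0 := by
    have h3 := hiso _ ((key a).1 ha.2) _ ((key b).1 hb.2)
    rwa [φ_e, φ_e] at h3
  have hm := Model.mem_planes a b ha.1 hb.1 hab hf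
  convert hm using 1
  refine (Finset.eq_of_subset_of_card_le ?_ (by rw [hcard, Model.card_plane _ hm])).symm
  simp only [Finset.insert_subset_iff, Finset.singleton_subset_iff]
  refine ⟨by rw [mem_planeOf, e_zero, one_smul], ha.2, hb.2, ?_⟩
  rw [mem_planeOf] at ha hb ⊢
  rw [← e_smul_e, hb.2, ha.2]

section Counting

variable [Finite G]

theorem card_quot (hcard : Nat.card G = 443520) : Nat.card (G ⧸ K F) = 77 := by
  have h := (K F).card_eq_card_quotient_mul_card_subgroup
  rw [hcard, show Nat.card (K F) = 5760 from F.card_K] at h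
  omega

theorem conj_trans {t t' : G} (ht : t ∈ F.E) (h1 : t ≠ 1) (ht' : t' ∈ F.E) (h1' : t' ≠ 1) :
    ∃ k ∈ K F, k * t * k⁻¹ = t' := by
  obtain ⟨x, hx0, hxt, hf⟩ := Model.exists_orth (F.φ t) fun h => h1 (F.φ_eq_zero t ht h)
  obtain ⟨x', hx0', hxt', hf'⟩ := Model.exists_orth (F.φ t') fun h => h1' (F.φ_eq_zero t' ht' h)
  obtain ⟨k, hk, hkt, -⟩ := F.flag t ht (e F x) (e_mem x) t' ht' (e F x') (e_mem x') h1 h1'
    (fun h => hx0 (e_eq_one.1 h)) (fun h => hxt (by rw [← h, φ_e]))
    (fun h => hx0' (e_eq_one.1 h)) (fun h => hxt' (by rw [← h, φ_e]))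
    (by rwa [φ_e]) (by rwa [φ_e])
  exact ⟨k, hk, hkt⟩

/-- The elements of `E` other than one. -/
noncomputable def invE (F : Frame G) : Finset G :=
  letI := Fintype.ofFinite G
  Finset.univ.filter fun t => t ∈ F.E ∧ t ≠ 1

/-- The involutions of `K`. -/
noncomputable def invK (F : Frame G) : Finset G :=
  letI := Fintype.ofFinite G
  Finset.univ.filter fun t => t ∈ K F ∧ orderOf t = 2

theorem mem_invE {t : G} : t ∈ invE F ↔ t ∈ F.E ∧ t ≠ 1 := by simp [invE]

theorem mem_invK {t : G} : t ∈ invK F ↔ t ∈ K F ∧ orderOf t = 2 := by simp [invK]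

theorem card_invE : (invE F).card = 15 := by
  have h : (invE F).card = ((Finset.univ : Finset Model.Vec).erase 0).card := by
    refine Finset.card_bij' (fun t _ => F.φ t) (fun v _ => e F v) ?_ ?_ ?_ ?_
    · intro t ht
      exact Finset.mem_erase.2 ⟨fun h => (mem_invE.1 ht).2 (F.φ_eq_zero t (mem_invE.1 ht).1 h),
        Finset.mem_univ _⟩
    · intro v hv
      exact mem_invE.2 ⟨e_mem v, fun h => (Finset.mem_erase.1 hv).1 (e_eq_one.1 h)⟩
    · intro t ht
      exact e_φ (mem_invE.1 ht).1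
    · intro v _
      exact φ_e v
  rw [h]
  decide

theorem invE_subset : invE F ⊆ invK F := fun t ht =>
  mem_invK.2 ⟨le_K (mem_invE.1 ht).1, order_two (mem_invE.1 ht).1 (mem_invE.1 ht).2⟩

theorem card_comm_outside {t : G} (ht : t ∈ F.E) (ht1 : t ≠ 1) :
    ((invK F \ invE F).filter fun u => Commute u t).card = 36 := by
  have h50 : ((invK F).filter fun u => Commute u t ∧ u ≠ t).card = 50 := by
    rw [← F.card_commuting t ht ht1, ← Nat.card_eq_finsetCard]
    refine Nat.card_congr (Equiv.subtypeEquivRight fun u => ?_)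
    rw [Finset.mem_filter, mem_invK]
    exact ⟨fun h => ⟨h.1.2, h.2⟩, fun h => ⟨⟨F.cen_le t ht ht1
      (Subgroup.mem_centralizer_singleton_iff.2 h.2.1.eq), h.1⟩, h.2⟩⟩
  have hsplit : ((invK F).filter fun u => Commute u t ∧ u ≠ t) =
      ((invK F \ invE F).filter fun u => Commute u t) ∪ (invE F).erase t := by
    ext u
    simp only [Finset.mem_filter, Finset.mem_union, Finset.mem_sdiff, Finset.mem_erase]
    constructor
    · intro h
      by_cases hE : u ∈ invE F
      · exact Or.inr ⟨h.2.2, hE⟩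
      · exact Or.inl ⟨⟨h.1, hE⟩, h.2.1⟩
    · rintro (h | h)
      · exact ⟨h.1.1, h.2, fun e => h.1.2 (e ▸ mem_invE.2 ⟨ht, ht1⟩)⟩
      · exact ⟨invE_subset h.2, comm (mem_invE.1 h.2).1 ht, h.1⟩
  rw [hsplit, Finset.card_union_of_disjoint (Finset.disjoint_left.2 fun u h1 h2 =>
      (Finset.mem_sdiff.1 (Finset.mem_filter.1 h1).1).2 (Finset.mem_erase.1 h2).2),
    Finset.card_erase_of_mem (mem_invE.2 ⟨ht, ht1⟩), card_invE] at h50
  omega

theorem card_invK : (invK F).card = 195 := by
  have h := Finset.sum_card_bipartiteAbove_eq_sum_card_bipartiteBelow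
    (s := invE F) (t := invK F \ invE F) (fun t u => Commute u t)
  have hl : ∀ t ∈ invE F,
      (Finset.bipartiteAbove (fun t u => Commute u t) (invK F \ invE F) t).card = 36 :=
    fun t ht => card_comm_outside (mem_invE.1 ht).1 (mem_invE.1 ht).2
  letI := Fintype.ofFinite G
  have hr : ∀ u ∈ invK F \ invE F,
      (Finset.bipartiteBelow (fun t u => Commute u t) (invE F) u).card = 3 := by
    intro u hu
    rw [Finset.mem_sdiff, mem_invK] at hu
    have huE : u ∉ F.E := fun h => hu.2 (mem_invE.2 ⟨h, fun h1 => by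
      rw [h1, orderOf_one] at hu; omega⟩)
    obtain ⟨hc, -⟩ := F.outside u hu.1.1 huE hu.1.2
    have hins : insert 1 (Finset.bipartiteBelow (fun t u => Commute u t) (invE F) u) =
        Finset.univ.filter fun t => t ∈ (F.E ⊓ centralizer ({u} : Set G) : Subgroup G) := by
      ext t
      simp only [Finset.mem_insert, Finset.mem_bipartiteBelow, mem_invE, Finset.mem_filter,
        Finset.mem_univ, true_and, Subgroup.mem_inf, Subgroup.mem_centralizer_singleton_iff]
      constructor
      · rintro (rfl | h)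
        · exact ⟨one_mem _, by rw [one_mul, mul_one]⟩
        · exact ⟨h.1.1, h.2.symm.eq⟩
      · intro h
        by_cases h1 : t = 1
        · exact Or.inl h1
        · exact Or.inr ⟨⟨h.1, h1⟩, h.2.symm⟩
    have := congrArg Finset.card hins
    rw [Finset.card_insert_of_notMem (fun h1 =>
      (mem_invE.1 ((Finset.mem_bipartiteBelow _).1 h1).1).2 rfl), ← Fintype.card_subtype,
      ← Nat.card_eq_fintype_card] at this
    rw [hc] at this
    omega
  rw [Finset.sum_congr rfl hl, Finset.sum_congr rfl hr, Finset.sum_const, Finset.sum_const,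
    card_invE, Finset.card_sdiff_of_subset invE_subset, card_invE, smul_eq_mul, smul_eq_mul] at h
  omega

theorem card_fix (hcard : Nat.card G = 443520) {t : G} (ht : t ∈ F.E) (ht1 : t ≠ 1)
    [Fintype (G ⧸ K F)] : (Finset.univ.filter fun y : G ⧸ K F => t • y = y).card = 13 := by
  letI := Fintype.ofFinite G
  let A : Finset G := Finset.univ.filter fun g => g⁻¹ * t * g ∈ K F
  have hconj2 : ∀ g : G, orderOf (g⁻¹ * t * g) = 2 := fun g => orderOf_eq_prime
    (by rw [pow_two, show g⁻¹ * t * g * (g⁻¹ * t * g) = g⁻¹ * (t * t) * g by group, sq_one ht]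
        group)
    fun h => ht1 (by rw [show t = g * (g⁻¹ * t * g) * g⁻¹ by group, h, mul_one, mul_inv_cancel])
  -- the centralizer
  have hC : Nat.card (centralizer ({t} : Set G)) = 384 := by
    have hmap : ∀ k ∈ (Finset.univ.filter fun k => k ∈ K F : Finset G),
        k * t * k⁻¹ ∈ invE F := by
      intro k hk
      refine mem_invE.2 ⟨(mem_K (Finset.mem_filter.1 hk).2 t).1 ht, fun h => ht1 ?_⟩
      rw [show t = k⁻¹ * (k * t * k⁻¹) * k by group, h]
      group
    have h1 := Finset.card_eq_sum_card_fiberwise hmap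
    have h2 : ∀ t' ∈ invE F, ((Finset.univ.filter fun k => k ∈ K F).filter
        fun k => k * t * k⁻¹ = t').card = Nat.card (centralizer ({t} : Set G)) := by
      intro t' ht'
      obtain ⟨k, hk, hkt⟩ := conj_trans ht ht1 (mem_invE.1 ht').1 (mem_invE.1 ht').2
      rw [← Nat.card_eq_finsetCard]
      refine Nat.card_congr
        { toFun := fun x => ⟨k⁻¹ * x.1, Subgroup.mem_centralizer_singleton_iff.2 ?_⟩
          invFun := fun c => ⟨k * c.1, ?_⟩
          left_inv := fun x => Subtype.ext (mul_inv_cancel_left k x.1)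
          right_inv := fun c => Subtype.ext (inv_mul_cancel_left k c.1) }
      · have hx : x.1 * t * x.1⁻¹ = k * t * k⁻¹ := (Finset.mem_filter.1 x.2).2.trans hkt.symm
        calc k⁻¹ * x.1 * t = k⁻¹ * (x.1 * t * x.1⁻¹) * x.1 := by group
          _ = k⁻¹ * (k * t * k⁻¹) * x.1 := by rw [hx]
          _ = t * (k⁻¹ * x.1) := by group
      · refine Finset.mem_filter.2 ⟨Finset.mem_filter.2 ⟨Finset.mem_univ _,
          mul_mem hk (F.cen_le t ht ht1 c.2)⟩, ?_⟩
        rw [← hkt, show k * c.1 * t * (k * c.1)⁻¹ = k * (c.1 * t * c.1⁻¹) * k⁻¹ by group,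
          Subgroup.mem_centralizer_singleton_iff.1 c.2]
        group
    rw [Finset.sum_congr rfl h2, Finset.sum_const, card_invE, smul_eq_mul,
      ← Fintype.card_subtype, ← Nat.card_eq_fintype_card] at h1
    rw [show Nat.card {k // k ∈ K F} = 5760 from F.card_K] at h1
    omega
  have hA1 : A.card = 384 * 195 := by
    have hmap : ∀ g ∈ A, g⁻¹ * t * g ∈ invK F := fun g hg =>
      mem_invK.2 ⟨(Finset.mem_filter.1 hg).2, hconj2 g⟩
    rw [Finset.card_eq_sum_card_fiberwise hmap]
    have h2 : ∀ s ∈ invK F, (A.filter fun g => g⁻¹ * t * g = s).card = 384 := by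
      intro s hs
      obtain ⟨h, hh⟩ := F.every s (mem_invK.1 hs).2
      have hh1 : h * s * h⁻¹ ≠ 1 := fun h1 => by
        have h2 := (mem_invK.1 hs).2
        rw [show s = h⁻¹ * (h * s * h⁻¹) * h by group, h1, mul_one, inv_mul_cancel,
          orderOf_one] at h2
        omega
      obtain ⟨k, hk, hkt⟩ := conj_trans hh hh1 ht ht1
      have hg0 : (k * h)⁻¹ * t * (k * h) = s := by
        rw [← hkt]
        group
      rw [← hC, ← Nat.card_eq_finsetCard]
      refine Nat.card_congr
        { toFun := fun x => ⟨x.1 * (k * h)⁻¹, Subgroup.mem_centralizer_singleton_iff.2 ?_⟩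
          invFun := fun c => ⟨c.1 * (k * h), ?_⟩
          left_inv := fun x => Subtype.ext (inv_mul_cancel_right x.1 (k * h))
          right_inv := fun c => Subtype.ext (mul_inv_cancel_right c.1 (k * h)) }
      · have hx : x.1⁻¹ * t * x.1 = (k * h)⁻¹ * t * (k * h) :=
          (Finset.mem_filter.1 x.2).2.trans hg0.symm
        calc x.1 * (k * h)⁻¹ * t = x.1 * ((k * h)⁻¹ * t * (k * h)) * (k * h)⁻¹ := by group
          _ = x.1 * (x.1⁻¹ * t * x.1) * (k * h)⁻¹ := by rw [hx]
          _ = t * (x.1 * (k * h)⁻¹) := by group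
      · have hc : (c.1 * (k * h))⁻¹ * t * (c.1 * (k * h)) = s := by
          rw [← hg0, mul_inv_rev, show (k * h)⁻¹ * c.1⁻¹ * t * (c.1 * (k * h)) =
            (k * h)⁻¹ * (c.1⁻¹ * (t * c.1)) * (k * h) by group,
            ← Subgroup.mem_centralizer_singleton_iff.1 c.2, inv_mul_cancel_left]
        exact Finset.mem_filter.2 ⟨Finset.mem_filter.2
          ⟨Finset.mem_univ _, hc ▸ (mem_invK.1 hs).1⟩, hc⟩
    rw [Finset.sum_congr rfl h2, Finset.sum_const, card_invK, smul_eq_mul, mul_comm]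
  have hmap : ∀ g ∈ A, (g : G ⧸ K F) ∈ Finset.univ.filter fun y : G ⧸ K F => t • y = y :=
    fun g hg => Finset.mem_filter.2 ⟨Finset.mem_univ _, fix_mk.2 (Finset.mem_filter.1 hg).2⟩
  have hA2 := Finset.card_eq_sum_card_fiberwise hmap
  have h3 : ∀ y ∈ (Finset.univ.filter fun y : G ⧸ K F => t • y = y),
      (A.filter fun g : G => (QuotientGroup.mk g : G ⧸ K F) = y).card = 5760 := by
    intro y hy
    obtain ⟨g0, rfl⟩ := QuotientGroup.mk_surjective y
    rw [← F.card_K, ← Nat.card_eq_finsetCard]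
    refine Nat.card_congr
      { toFun := fun x => ⟨g0⁻¹ * x.1, QuotientGroup.eq.1 (Finset.mem_filter.1 x.2).2.symm⟩
        invFun := fun k => ⟨g0 * k.1, ?_⟩
        left_inv := fun x => Subtype.ext (mul_inv_cancel_left g0 x.1)
        right_inv := fun k => Subtype.ext (inv_mul_cancel_left g0 k.1) }
    have hq : ((g0 * k.1 : G) : G ⧸ K F) = g0 := QuotientGroup.mk_mul_of_mem g0 k.2
    refine Finset.mem_filter.2 ⟨Finset.mem_filter.2 ⟨Finset.mem_univ _, fix_mk.1 ?_⟩, hq⟩
    rw [hq]
    exact (Finset.mem_filter.1 hy).2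
  rw [Finset.sum_congr rfl h3, Finset.sum_const, smul_eq_mul, hA1] at hA2
  omega

theorem card_nonadj (hcard : Nat.card G = 443520) [Fintype (G ⧸ K F)] :
    (Finset.univ.filter fun y : G ⧸ K F => y ≠ base F ∧ ¬ R F (base F) y).card = 60 := by
  set P : Finset Model.Vec := Finset.univ.erase 0 with hP
  set N := Finset.univ.filter fun y : G ⧸ K F => y ≠ base F ∧ ¬ R F (base F) y with hN
  have h := Finset.sum_card_bipartiteAbove_eq_sum_card_bipartiteBelow
    (s := P) (t := N) (fun v (y : G ⧸ K F) => e F v • y = y)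
  have hl : ∀ v ∈ P, (Finset.bipartiteAbove (fun v (y : G ⧸ K F) => e F v • y = y) N v).card
      = 12 := by
    intro v hv
    have hv0 := (Finset.mem_erase.1 hv).1
    have hne : e F v ≠ 1 := fun h => hv0 (e_eq_one.1 h)
    have h13 := card_fix hcard (F := F) (e_mem v) hne
    have hins : (Finset.univ.filter fun y : G ⧸ K F => e F v • y = y) =
        insert (base F) (Finset.bipartiteAbove (fun v (y : G ⧸ K F) => e F v • y = y) N v) := by
      ext y
      simp only [Finset.mem_insert, Finset.mem_bipartiteAbove, hN, Finset.mem_filter,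
        Finset.mem_univ, true_and]
      constructor
      · intro hy
        by_cases hb : y = base F
        · exact Or.inl hb
        · exact Or.inr ⟨⟨hb, not_r_base.2 ⟨_, e_mem v, hne, hy⟩⟩, hy⟩
      · rintro (rfl | h)
        · exact fix_base_e v
        · exact h.2
    rw [hins, Finset.card_insert_of_notMem (fun hb => by
      have := ((Finset.mem_bipartiteAbove _).1 hb).1
      rw [hN, Finset.mem_filter] at this
      exact this.2.1 rfl)] at h13
    omega
  have hr : ∀ y ∈ N,
      (Finset.bipartiteBelow (fun v (y : G ⧸ K F) => e F v • y = y) P y).card = 3 := by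
    intro y hy
    rw [hN, Finset.mem_filter] at hy
    have hm := planeOf_mem hy.2.1 hy.2.2
    have he : Finset.bipartiteBelow (fun v (y : G ⧸ K F) => e F v • y = y) P y =
        (planeOf F y).erase 0 := by
      ext v
      simp only [Finset.mem_bipartiteBelow, hP, Finset.mem_erase, Finset.mem_univ, and_true,
        mem_planeOf]
    rw [he, Finset.card_erase_of_mem (Model.zero_mem_plane _ hm), Model.card_plane _ hm]
  have hP15 : P.card = 15 := by rw [hP]; decide
  rw [Finset.sum_congr rfl hl, Finset.sum_congr rfl hr, Finset.sum_const, Finset.sum_const,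
    hP15, smul_eq_mul, smul_eq_mul] at h
  omega

theorem card_adj (hcard : Nat.card G = 443520) [Fintype (G ⧸ K F)] :
    (Finset.univ.filter fun y : G ⧸ K F => R F (base F) y).card = 16 := by
  have h77 : Fintype.card (G ⧸ K F) = 77 := by rw [← Nat.card_eq_fintype_card, card_quot hcard]
  have h1 := Finset.card_filter_add_card_filter_not (s := (Finset.univ : Finset (G ⧸ K F)))
    (fun y => R F (base F) y)
  have h2 : (Finset.univ.filter fun y : G ⧸ K F => ¬ R F (base F) y) =
      insert (base F) (Finset.univ.filter fun y : G ⧸ K F => y ≠ base F ∧ ¬ R F (base F) y) := by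
    ext y
    simp only [Finset.mem_insert, Finset.mem_filter, Finset.mem_univ, true_and]
    by_cases hb : y = base F
    · simp [hb, r_irrefl]
    · simp [hb]
  rw [h2, Finset.card_insert_of_notMem (by simp), card_nonadj hcard, Finset.card_univ, h77] at h1
  omega

end Counting

end Cfsg.Agent.M22Order.Graph
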