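import Cfsg.Agent.Lib.M22Order.Model

/-!
# The automorphism group of the M22 graph is small

The stabiliser of the base point and of the zero vector is determined by the images of a symplectic
basis, so the automorphism group has order at most `887040` and at most one simple subgroup of
order `443520`.
-/

set_option autoImplicit false

namespace Cfsg.Agent.M22Order.Model

open scoped _root_.Classical

/-- The base point. -/
def base : Pt := .inl ()

/-- A vector as a point. -/
def vec (v : Vec) : Pt := .inr (.inl v)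

theorem adj_base {x : Pt} : Adj base x ↔ ∃ v, x = vec v := by
  rcases x with u | v | S
  · simp [Adj, base, vec]
  · simp [Adj, base, vec]
  · simp [Adj, base, vec]

theorem vec_injective : Function.Injective vec := fun a b h => by simpa [vec] using h

/-- Sixty planes. -/
theorem card_block : Nat.card Block ≤ 60 := by
  have h : ((Finset.powersetCard 4 (Finset.univ : Finset Vec)).filter IsBlock).card = 60 := by
    decide +kernel
  rw [← h, ← Nat.card_eq_finsetCard]
  exact Nat.card_le_card_of_injective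
    (fun S => ⟨S.1, Finset.mem_filter.2
      ⟨Finset.mem_powersetCard.2 ⟨Finset.subset_univ _, S.2.1⟩, S.2⟩⟩)
    fun S T e => Subtype.ext (congrArg Subtype.val e :)

theorem card_pt : Nat.card Pt ≤ 77 := by
  have h := card_block
  rw [Nat.card_sum, Nat.card_sum, Nat.card_eq_fintype_card (α := Vec), Nat.card_unique]
  have : Fintype.card Vec = 16 := by decide
  omega

/-- The stabiliser of the base point and the zero vector. -/
def stab2 : Subgroup autGroup where
  carrier := {σ | σ.1 base = base ∧ σ.1 (vec 0) = vec 0}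
  one_mem' := ⟨rfl, rfl⟩
  mul_mem' := fun {σ τ} hs ht => ⟨by simp [Equiv.Perm.mul_apply, ht.1, hs.1],
    by simp [Equiv.Perm.mul_apply, ht.2, hs.2]⟩
  inv_mem' := fun {σ} hs => ⟨by
      show σ.1⁻¹ base = base
      rw [Equiv.Perm.inv_eq_iff_eq]; exact hs.1.symm, by
      show σ.1⁻¹ (vec 0) = vec 0
      rw [Equiv.Perm.inv_eq_iff_eq]; exact hs.2.symm⟩

/-- The stabiliser of the base point. -/
def stab1 : Subgroup autGroup where
  carrier := {σ | σ.1 base = base}
  one_mem' := rfl
  mul_mem' := fun {σ τ} (hs : σ.1 base = base) (ht : τ.1 base = base) => by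
    simp [Equiv.Perm.mul_apply, ht, hs]
  inv_mem' := fun {σ} (hs : σ.1 base = base) => by
    show σ.1⁻¹ base = base
    rw [Equiv.Perm.inv_eq_iff_eq]; exact hs.symm

theorem image_vec {σ : autGroup} (h : σ.1 base = base) (v : Vec) : ∃ w, σ.1 (vec v) = vec w := by
  refine adj_base.1 ?_
  conv_lhs => rw [← h]
  exact (σ.2 base (vec v)).2 (adj_base.2 ⟨v, rfl⟩)

theorem index_stab1 : stab1.index ≤ 77 := by
  refine le_trans ?_ card_pt
  rw [Subgroup.index_eq_card]
  refine Nat.card_le_card_of_injective (fun q => q.out.1 base) fun q r h => ?_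
  rw [← q.out_eq, ← r.out_eq]
  refine QuotientGroup.eq.2 ?_
  show (q.out.1⁻¹ * r.out.1) base = base
  simp only at h
  rw [Equiv.Perm.mul_apply, ← h, Equiv.Perm.inv_eq_iff_eq]

theorem index_stab2 : stab2.relIndex stab1 ≤ 16 := by
  rw [Subgroup.relIndex, Subgroup.index_eq_card]
  have h16 : Nat.card Vec = 16 := by
    rw [Nat.card_eq_fintype_card]
    decide
  rw [← h16]
  refine Nat.card_le_card_of_injective
    (fun q => Classical.choose (image_vec (σ := q.out.1) q.out.2 0)) fun q r h => ?_
  have hq := Classical.choose_spec (image_vec (σ := q.out.1) q.out.2 0)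
  have hr := Classical.choose_spec (image_vec (σ := r.out.1) r.out.2 0)
  simp only at h
  rw [h, ← hr] at hq
  rw [← q.out_eq, ← r.out_eq]
  refine QuotientGroup.eq.2 (Subgroup.mem_subgroupOf.2 ⟨?_, ?_⟩)
  · exact (q.out⁻¹ * r.out).2
  · show (q.out.1.1⁻¹ * r.out.1.1) (vec 0) = vec 0
    rw [Equiv.Perm.mul_apply, ← hq, Equiv.Perm.inv_eq_iff_eq]

section Stab

variable {σ : autGroup} (hσ : σ.1 base = base)
include hσ

/-- The permutation of the vectors. -/
noncomputable def act (v : Vec) : Vec := Classical.choose (image_vec hσ v)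

theorem act_spec (v : Vec) : σ.1 (vec v) = vec (act hσ v) := Classical.choose_spec (image_vec hσ v)

theorem image_block (S : Block) : ∃ T : Block, σ.1 (.inr (.inr S)) = .inr (.inr T) := by
  rcases h : σ.1 (.inr (.inr S)) with u | v | T
  · exfalso
    have : σ.1 (.inr (.inr S)) = σ.1 base := by rw [h, hσ]; rfl
    simp [base] at this
  · exfalso
    have h1 : Adj base (σ.1 (.inr (.inr S))) := adj_base.2 ⟨v, h⟩
    rw [← hσ, σ.2] at h1
    obtain ⟨w, hw⟩ := adj_base.1 h1
    simp [vec] at hw
  · exact ⟨T, rfl⟩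

theorem mem_image_block {S T : Block} (h : σ.1 (.inr (.inr S)) = .inr (.inr T)) (v : Vec) :
    act hσ v ∈ T.1 ↔ v ∈ S.1 := by
  have h1 := σ.2 (vec v) (.inr (.inr S))
  rw [act_spec hσ, h] at h1
  exact h1

end Stab

theorem plane_isBlock : ∀ a b : Vec, a ≠ 0 → b ≠ 0 → a ≠ b → form a b = 0 →
    IsBlock ({0, a, b, a + b} : Finset Vec) := by
  decide +kernel

theorem form_trivial : ∀ a b : Vec, (a = 0 ∨ b = 0 ∨ a = b) → form a b = 0 := by decide +kernel

theorem form_act_of_zero {σ : autGroup} (hσ : σ ∈ stab2) {a b : Vec} (h : form a b = 0) :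
    form (act hσ.1 a) (act hσ.1 b) = 0 := by
  have h0 : act hσ.1 0 = 0 := vec_injective ((act_spec hσ.1 0).symm.trans hσ.2)
  have hinj : Function.Injective (act hσ.1) := fun x y e =>
    vec_injective (σ.1.injective ((act_spec hσ.1 x).trans
      ((congrArg vec e).trans (act_spec hσ.1 y).symm)))
  by_cases hc : a = 0 ∨ b = 0 ∨ a = b
  · refine form_trivial _ _ ?_
    rcases hc with rfl | rfl | rfl
    · exact Or.inl h0
    · exact Or.inr (Or.inl h0)
    · exact Or.inr (Or.inr rfl)
  push Not at hc
  obtain ⟨T, hT⟩ := image_block hσ.1 ⟨_, plane_isBlock a b hc.1 hc.2.1 hc.2.2 h⟩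
  have hm := fun v => mem_image_block hσ.1 hT v
  have h0T : (0 : Vec) ∈ T.1 := h0 ▸ (hm 0).2 (by simp)
  have hd : ∀ x ∈ T.1, x ∈ dir T.1 := fun x hx =>
    Finset.mem_image.2 ⟨(x, 0), Finset.mem_product.2 ⟨hx, h0T⟩, add_zero x⟩
  exact T.2.2.2 _ (hd _ ((hm a).2 (by simp))) _ (hd _ ((hm b).2 (by simp)))

theorem z2_cases : ∀ x : ZMod 2, x = 0 ∨ x = 1 := by decide

theorem form_act {σ : autGroup} (hσ : σ ∈ stab2) (a b : Vec) :
    form (act hσ.1 a) (act hσ.1 b) = form a b := by
  rcases z2_cases (form a b) with h | h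
  · rw [h, form_act_of_zero hσ h]
  · rcases z2_cases (form (act hσ.1 a) (act hσ.1 b)) with h' | h'
    · exfalso
      have hσ' : σ⁻¹ ∈ stab2 := stab2.inv_mem hσ
      have hback : ∀ v, act hσ'.1 (act hσ.1 v) = v := fun v => by
        refine vec_injective ?_
        rw [← act_spec hσ'.1, ← act_spec hσ.1]
        exact σ.1.symm_apply_apply _
      have h2 := form_act_of_zero hσ' h'
      rw [hback, hback, h] at h2
      exact one_ne_zero h2
    · rw [h, h']

/-- A symplectic basis. -/
def e1 : Vec := (1, 0, 0, 0)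
/-- A symplectic basis. -/
def f1 : Vec := (0, 1, 0, 0)
/-- A symplectic basis. -/
def e2 : Vec := (0, 0, 1, 0)
/-- A symplectic basis. -/
def f2 : Vec := (0, 0, 0, 1)

theorem eq_of_forms : ∀ x v : Vec, form x e1 = form v e1 → form x f1 = form v f1 →
    form x e2 = form v e2 → form x f2 = form v f2 → x = v := by decide +kernel

/-- Hyperbolic pairs. -/
def hyp : Finset (Vec × Vec) := Finset.univ.filter fun p => form p.1 p.2 = 1

/-- Pairs of orthogonal hyperbolic pairs. -/
def quads : Finset ((Vec × Vec) × (Vec × Vec)) :=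
  (hyp ×ˢ hyp).filter fun t => form t.1.1 t.2.1 = 0 ∧ form t.1.1 t.2.2 = 0 ∧
    form t.1.2 t.2.1 = 0 ∧ form t.1.2 t.2.2 = 0

theorem card_quads : quads.card = 720 := by decide +kernel

theorem act_eq_self {σ : autGroup} (hσ : σ ∈ stab2) (h1 : act hσ.1 e1 = e1) (h2 : act hσ.1 f1 = f1)
    (h3 : act hσ.1 e2 = e2) (h4 : act hσ.1 f2 = f2) : σ = 1 := by
  have hv : ∀ v, act hσ.1 v = v := fun v => eq_of_forms _ v
    (by conv_lhs => rw [← h1]; exact form_act hσ v e1)
    (by conv_lhs => rw [← h2]; exact form_act hσ v f1)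
    (by conv_lhs => rw [← h3]; exact form_act hσ v e2)
    (by conv_lhs => rw [← h4]; exact form_act hσ v f2)
  refine Subtype.ext (Equiv.ext fun x => ?_)
  show σ.1 x = x
  rcases x with u | v | S
  · exact hσ.1
  · show σ.1 (vec v) = vec v
    rw [act_spec hσ.1, hv]
  · obtain ⟨T, hT⟩ := image_block hσ.1 S
    rw [hT]
    have : T = S := Subtype.ext (Finset.ext fun v => by
      conv_lhs => rw [← hv v]
      exact mem_image_block hσ.1 hT v)
    rw [this]

theorem act_mul {σ τ : autGroup} (hσ : σ.1 base = base) (hτ : τ.1 base = base)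
    (hστ : (σ * τ).1 base = base) (v : Vec) : act hστ v = act hσ (act hτ v) := by
  refine vec_injective ?_
  rw [← act_spec hστ, ← act_spec hσ, ← act_spec hτ]
  rfl

theorem card_stab2 : Nat.card stab2 ≤ 720 := by
  rw [← card_quads, ← Nat.card_eq_finsetCard]
  refine Nat.card_le_card_of_injective (fun σ => ⟨((act σ.2.1 e1, act σ.2.1 f1),
    (act σ.2.1 e2, act σ.2.1 f2)), ?_⟩) fun σ τ h => ?_
  · simp only [quads, hyp, Finset.mem_filter, Finset.mem_product, Finset.mem_univ, true_and,
      form_act σ.2]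
    decide
  · simp only [Subtype.mk.injEq, Prod.mk.injEq] at h
    obtain ⟨⟨h1, h2⟩, h3, h4⟩ := h
    have hm : (τ⁻¹ * σ : stab2).1 ∈ stab2 := (τ⁻¹ * σ).2
    have key : ∀ v, act σ.2.1 v = act τ.2.1 v → act hm.1 v = v := fun v e => by
      refine vec_injective ?_
      rw [← act_spec hm.1]
      show τ.1.1⁻¹ (σ.1.1 (vec v)) = vec v
      rw [act_spec σ.2.1, e, ← act_spec τ.2.1]
      exact τ.1.1.symm_apply_apply _
    have h5 := act_eq_self hm (key _ h1) (key _ h2) (key _ h3) (key _ h4)
    exact (inv_mul_eq_one.1 (Subtype.ext h5 : τ⁻¹ * σ = 1)).symm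

theorem card_autGroup : Nat.card autGroup ≤ 887040 := by
  have h1 : stab2 ≤ stab1 := fun σ h => h.1
  rw [← stab2.card_mul_index, ← Subgroup.relIndex_mul_index h1]
  calc Nat.card stab2 * (stab2.relIndex stab1 * stab1.index) ≤ 720 * (16 * 77) :=
        Nat.mul_le_mul card_stab2 (Nat.mul_le_mul index_stab2 index_stab1)
    _ = 887040 := rfl

end Cfsg.Agent.M22Order.Model

namespace Cfsg.Agent.M22Order

universe u v

/-- Simple groups of order `443520` acting on the graph are isomorphic. -/
theorem nonempty_mulEquiv_of_aut {G : Type u} {H : Type v} [Group G] [Group H] [Finite G] [Finite H]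
    [IsSimpleGroup G] [IsSimpleGroup H] (hG : Nat.card G = 443520) (hH : Nat.card H = 443520)
    (f : G →* Model.autGroup) (g : H →* Model.autGroup) (hf : f ≠ 1) (hg : g ≠ 1) :
    Nonempty (G ≃* H) := by
  have fi : Function.Injective f := (MonoidHom.ker_eq_bot_iff f).1
    (f.normal_ker.eq_bot_or_eq_top.resolve_right fun h => hf (MonoidHom.ker_eq_top_iff.1 h))
  have gi : Function.Injective g := (MonoidHom.ker_eq_bot_iff g).1
    (g.normal_ker.eq_bot_or_eq_top.resolve_right fun h => hg (MonoidHom.ker_eq_top_iff.1 h))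
  have cA : Nat.card f.range = 443520 := (Nat.card_range_of_injective fi).trans hG
  have cB : Nat.card g.range = 443520 := (Nat.card_range_of_injective gi).trans hH
  have hle := Model.card_autGroup
  have hpos : 0 < Nat.card Model.autGroup := Nat.card_pos
  have key : ∀ A : Subgroup Model.autGroup, Nat.card A = 443520 → A.Normal := by
    intro A hA
    have h := A.card_mul_index
    rw [hA] at h
    have h2 : A.index = 1 ∨ A.index = 2 := by
      have : 0 < A.index := Nat.pos_of_ne_zero Subgroup.index_ne_zero_of_finite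
      omega
    rcases h2 with h2 | h2
    · rw [Subgroup.index_eq_one.1 h2]; infer_instance
    · exact Subgroup.normal_of_index_eq_two h2
  haveI := key _ cB
  haveI : IsSimpleGroup f.range := (MonoidHom.ofInjective fi).symm.isSimpleGroup
  have hAB : f.range ≤ g.range := by
    rcases ((inferInstance : (g.range.subgroupOf f.range).Normal)).eq_bot_or_eq_top with h | h
    · exfalso
      rw [Subgroup.subgroupOf_eq_bot, disjoint_iff] at h
      have h3 : Nat.card (f.range × g.range) ≤ Nat.card Model.autGroup :=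
        Nat.card_le_card_of_injective _ (Subgroup.mul_injective_of_disjoint (disjoint_iff.2 (inf_comm g.range f.range ▸ h)))
      rw [Nat.card_prod, cA, cB] at h3
      omega
    · exact Subgroup.subgroupOf_eq_top.1 h
  have hEq : f.range = g.range := Subgroup.eq_of_le_of_card_ge hAB (by rw [cA, cB])
  exact ⟨(MonoidHom.ofInjective fi).trans ((MulEquiv.subgroupCongr hEq).trans (MonoidHom.ofInjective gi).symm)⟩

end Cfsg.Agent.M22Order
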