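import Cfsg.Agent.Lib.M22Order.Four
import Mathlib.GroupTheory.Nilpotent

/-!
# Simple groups of order 443520: the centralizer of a four group inside the core
-/

set_option autoImplicit false
set_option linter.style.haveILetI false
set_option linter.unusedSectionVars false

namespace Cfsg.Agent.M22Order

open Subgroup
open Cfsg.Agent.M12Order (cen card_fixed_mod)

universe u

variable {G : Type u} [Group G] [Finite G]

/-- The four groups of `a` and `b` commute. -/
def Com (a b : G) : Prop := ∀ x ∈ fourGroup a, ∀ z ∈ fourGroup b, Commute x z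

theorem Com.symm {a b : G} (h : Com a b) : Com b a := fun x hx z hz => (h z hz x hx).symm

theorem com_inv {a b : G} : Com a b⁻¹ ↔ Com a b := by rw [Com, Com, four_inv]

/-- The centralizer of the four group of `a` has order divisible by 64. -/
def Big (a : G) : Prop :=
  64 ∣ Nat.card (centralizer ((fourGroup a : Subgroup G) : Set G) : Subgroup G)

theorem big_conj (g a : G) : Big (g * a * g⁻¹) ↔ Big a := by
  unfold Big
  suffices h : Nat.card (centralizer ((fourGroup (g * a * g⁻¹) : Subgroup G) : Set G) : Subgroup G) =
      Nat.card (centralizer ((fourGroup a : Subgroup G) : Set G) : Subgroup G) by rw [h]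
  refine Nat.card_congr ((MulAut.conj g⁻¹).toEquiv.subtypeEquiv fun x => ?_)
  show x ∈ centralizer _ ↔ g⁻¹ * x * g⁻¹⁻¹ ∈ centralizer _
  simp only [mem_centralizer_iff, SetLike.mem_coe]
  constructor
  · intro h z hz
    have h1 := commute_conj g⁻¹ (show Commute (g * z * g⁻¹) x from h _ (conj_mem_four g hz))
    simpa [mul_assoc, Commute, SemiconjBy] using h1
  · intro h z hz
    have hz' : g⁻¹ * z * g⁻¹⁻¹ ∈ fourGroup a := by
      have := conj_mem_four g⁻¹ hz
      simpa [mul_assoc] using this
    have h1 := commute_conj g (show Commute (g⁻¹ * z * g⁻¹⁻¹) (g⁻¹ * x * g⁻¹⁻¹) from h _ hz')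
    simpa [mul_assoc, Commute, SemiconjBy] using h1

section

variable [IsSimpleGroup G] (hcard : Nat.card G = 443520) {t r : G} {R : Subgroup G}
  (ht : orderOf t = 2) (hR : Core t R) (hr : orderOf r = 3) (hrt : Commute r t)

include hcard ht hR hr hrt

theorem t_mem_four : t ∈ fourGroup r := by
  refine (exists_four hcard hr).2.2 t (mem_centralizer_singleton_iff.2 hrt.symm) 1 ?_
  rw [pow_one, ← ht, pow_orderOf_eq_one]

theorem centralizer_four_le :
    centralizer ((fourGroup r : Subgroup G) : Set G) ≤ centralizer ({t} : Set G) :=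
  fun _ hx => mem_centralizer_singleton_iff.2
    (mem_centralizer_iff.1 hx t (t_mem_four hcard ht hR hr hrt)).symm

theorem four_le_core : fourGroup r ≤ R := by
  refine hR.absorb r hr hrt _ (fun x hx => mem_centralizer_singleton_iff.2
    (four_comm hcard hr hx (t_mem_four hcard ht hR hr hrt))) ?_ fun x hx => ?_
  · exact IsPGroup.of_card (p := 2) (n := 2) (exists_four hcard hr).1
  · rw [← (mem_centralizer_singleton_iff.1 (four_le r hx)), mul_inv_cancel_right]
    exact hx

theorem isPGroup_core {T : Subgroup G} (hT : T ≤ R) : IsPGroup 2 T :=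
  (IsPGroup.of_card (p := 2) (n := 6) hR.card).to_le hT

/-- The fixed points of `r` on a subgroup of the core lie in the four group. -/
theorem inf_centralizer_le {T : Subgroup G} (hT : T ≤ R) :
    T ⊓ centralizer ({r} : Set G) ≤ fourGroup r :=
  four_absorb hcard hr inf_le_right (isPGroup_core hcard ht hR hr hrt (inf_le_left.trans hT))

/-- An `r`-invariant subgroup of the core through the four group has order `4`, `16` or `64`. -/
theorem card_invariant {T : Subgroup G} (hT : T ≤ R) (hD : fourGroup r ≤ T)
    (hrT : ∀ x ∈ T, r * x * r⁻¹ ∈ T) :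
    Nat.card T = 4 ∨ Nat.card T = 16 ∨ Nat.card T = 64 := by
  haveI : Fact (Nat.Prime 3) := ⟨Nat.prime_three⟩
  have hfix : T ⊓ centralizer ({r} : Set G) = fourGroup r :=
    le_antisymm (inf_centralizer_le hcard ht hR hr hrt hT) (le_inf hD (four_le r))
  have h := card_fixed_mod hr T (mem_normalizer_of_conj hrT)
  rw [hfix, (exists_four hcard hr).1] at h
  obtain ⟨k, hk, hkT⟩ := (Nat.dvd_prime_pow Nat.prime_two (m := 6)).1
    (hR.card ▸ card_dvd_of_le hT : Nat.card T ∣ 64)
  have hge := Nat.le_of_dvd Nat.card_pos ((exists_four hcard hr).1 ▸ card_dvd_of_le hD)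
  rw [hkT] at h hge ⊢
  interval_cases k <;> omega

theorem conj_mem_centralizer_four {g x : G} (hg : g ∈ normalizer (fourGroup r : Set G))
    (hx : x ∈ centralizer ((fourGroup r : Subgroup G) : Set G)) :
    g * x * g⁻¹ ∈ centralizer ((fourGroup r : Subgroup G) : Set G) := by
  rw [mem_centralizer_iff] at hx ⊢
  intro z hz
  have hz' : g⁻¹ * z * g ∈ fourGroup r := by
    refine (mem_normalizer_iff.1 hg _).2 ?_
    simpa [mul_assoc] using hz
  have h1 := commute_conj g (show Commute (g⁻¹ * z * g) x from hx _ hz')
  simpa [mul_assoc, Commute, SemiconjBy] using h1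

theorem commute_normalizes {a : G} (ha : Commute a r) : a ∈ normalizer (fourGroup r : Set G) :=
  mem_normalizer_of_conj fun x hx => by
    have := conj_mem_four a hx
    rwa [ha.eq, mul_inv_cancel_right] at this

/-- The four group is proper in its centralizer in the core. -/
theorem card_R0 :
    Nat.card (R ⊓ centralizer ((fourGroup r : Subgroup G) : Set G) : Subgroup G) = 16 ∨
      Nat.card (R ⊓ centralizer ((fourGroup r : Subgroup G) : Set G) : Subgroup G) = 64 := by
  classical
  set D := fourGroup r with hD
  set R0 := R ⊓ centralizer ((D : Subgroup G) : Set G) with hR0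
  have hDR : D ≤ R := four_le_core hcard ht hR hr hrt
  have hDR0 : D ≤ R0 := le_inf hDR fun x hx => mem_centralizer_iff.2 fun z hz =>
    four_comm hcard hr hz hx
  have hr0 : ∀ x ∈ R0, r * x * r⁻¹ ∈ R0 := fun x hx => mem_inf.2 ⟨hR.conj r hrt x (mem_inf.1 hx).1,
    conj_mem_centralizer_four hcard ht hR hr hrt (commute_normalizes hcard ht hR hr hrt rfl)
      (mem_inf.1 hx).2⟩
  rcases card_invariant hcard ht hR hr hrt inf_le_left hDR0 hr0 with h4 | h
  · exfalso
    set N := R ⊓ normalizer (D : Set G) with hN
    have hcD : Nat.card D = 4 := (exists_four hcard hr).1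
    have hDN : D ≤ N := le_inf hDR le_normalizer
    -- larger than the four group
    haveI : Fact (Nat.Prime 2) := ⟨Nat.prime_two⟩
    haveI : Group.IsNilpotent R := (isPGroup_core hcard ht hR hr hrt le_rfl).isNilpotent
    have hlt : D.subgroupOf R < ⊤ := by
      refine lt_top_iff_ne_top.2 fun e => ?_
      have h1 := Nat.card_congr (subgroupOfEquivOfLe hDR).toEquiv
      rw [e, card_top, hR.card, hcD] at h1
      omega
    obtain ⟨x, hxn, hxD⟩ := SetLike.exists_of_lt
      (normalizerCondition_of_isNilpotent (D.subgroupOf R) hlt)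
    have hxN : (x : G) ∈ N := mem_inf.2 ⟨x.2, mem_normalizer_of_conj fun y hy =>
      (mem_normalizer_iff.1 hxn ⟨y, hDR hy⟩).1 hy⟩
    have hrN : ∀ y ∈ N, r * y * r⁻¹ ∈ N := fun y hy => mem_inf.2 ⟨hR.conj r hrt y (mem_inf.1 hy).1,
      mul_mem (mul_mem (commute_normalizes hcard ht hR hr hrt rfl) (mem_inf.1 hy).2)
        (inv_mem (commute_normalizes hcard ht hR hr hrt rfl))⟩
    -- at most eight elements
    have hR0D : R0 = D := (eq_of_le_of_card_ge hDR0 (by rw [h4, hcD])).symm
    obtain ⟨u, huD, hu⟩ : ∃ u ∈ D, u ∉ zpowers t := by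
      by_contra hc
      push Not at hc
      have := card_dvd_of_le (show D ≤ zpowers t from hc)
      rw [hcD, Nat.card_zpowers, ht] at this
      omega
    have hcoset : ∀ y ∈ N, y * u * y⁻¹ = u → y ∈ D := by
      intro y hy hyu
      rw [← hR0D]
      refine mem_inf.2 ⟨(mem_inf.1 hy).1, ?_⟩
      have hyt : Commute y t := mem_centralizer_singleton_iff.1 (hR.le (mem_inf.1 hy).1)
      have hgen : closure ({t, u} : Set G) = D := by
        refine eq_of_le_of_card_ge ((closure_le _).2 ?_) ?_
        · rintro z (rfl | rfl)
          · exact t_mem_four hcard ht hR hr hrt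
          · exact huD
        · have h2 : zpowers t < closure ({t, u} : Set G) := lt_of_le_of_ne
            (zpowers_le.2 (subset_closure (Set.mem_insert _ _)))
            fun e => hu (e.symm ▸ subset_closure (Set.mem_insert_of_mem _ rfl))
          have h3 : Nat.card (zpowers t) ∣ Nat.card (closure ({t, u} : Set G)) := card_dvd_of_le h2.le
          have h5 : Nat.card (zpowers t) ≠ Nat.card (closure ({t, u} : Set G)) := fun e =>
            h2.ne (eq_of_le_of_card_ge h2.le e.symm.le)
          have h6 := Nat.le_of_dvd Nat.card_pos h3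
          rw [Nat.card_zpowers, ht] at h3 h5 h6
          rw [hcD]; omega
      rw [← hgen, centralizer_closure, mem_centralizer_iff]
      rintro z (rfl | rfl)
      · exact hyt.symm.eq
      · exact (mul_inv_eq_iff_eq_mul.1 hyu).symm
    have hval : ∀ y ∈ N, y * u * y⁻¹ = u ∨ y * u * y⁻¹ = t * u := by
      intro y hy
      have hm : y * u * y⁻¹ ∈ D := conj_mem_of_mem_normalizer (mem_inf.1 hy).2 huD
      have hsub : ({1, t, u, t * u} : Set G) ⊆ (D : Set G) := by
        rintro z (rfl | rfl | rfl | rfl)
        exacts [one_mem _, t_mem_four hcard ht hR hr hrt, huD,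
          mul_mem (t_mem_four hcard ht hR hr hrt) huD]
      have h1t : (1 : G) ≠ t := fun e => by rw [← e, orderOf_one] at ht; omega
      have h1u : (1 : G) ≠ u := fun e => hu (e ▸ one_mem _)
      have htu : t ≠ u := fun e => hu (e ▸ mem_zpowers t)
      have h1tu : (1 : G) ≠ t * u := fun e => hu (by
        rw [eq_inv_of_mul_eq_one_right e.symm]; exact inv_mem (mem_zpowers t))
      have hcard4 : ({1, t, u, t * u} : Set G).ncard = 4 := by
        rw [Set.ncard_insert_of_notMem (by simp [h1t, h1u, h1tu]),
          Set.ncard_insert_of_notMem (by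
            simp only [Set.mem_insert_iff, Set.mem_singleton_iff, not_or]
            exact ⟨htu, fun e => h1u ((mul_eq_left).1 e.symm).symm⟩),
          Set.ncard_pair (fun e => h1t ((mul_eq_right).1 e.symm).symm)]
      have heq : ({1, t, u, t * u} : Set G) = (D : Set G) := Set.eq_of_subset_of_ncard_le hsub
        (by rw [hcard4, ← Nat.card_coe_set_eq]; exact hcD.le)
      have hy' : y * u * y⁻¹ ∈ ({1, t, u, t * u} : Set G) := heq ▸ hm
      have hyt : y * t * y⁻¹ = t := by
        rw [(mem_centralizer_singleton_iff.1 (hR.le (mem_inf.1 hy).1)), mul_inv_cancel_right]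
      rcases hy' with e | e | e | e
      · exact absurd (conj_eq_one_iff.1 e).symm h1u
      · exact absurd (mul_left_cancel (mul_right_cancel (e.trans hyt.symm))).symm htu
      · exact Or.inl e
      · exact Or.inr e
    have hle8 : Nat.card N ≤ 8 := by
      by_cases hex : ∃ y₀ ∈ N, y₀ * u * y₀⁻¹ = t * u
      · obtain ⟨y₀, hy₀, he₀⟩ := hex
        have hsub : (N : Set G) ⊆ (D : Set G) ∪ (fun z => y₀ * z) '' (D : Set G) := by
          intro y hy
          rcases hval y hy with e | e
          · exact Or.inl (hcoset y hy e)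
          · refine Or.inr ⟨y₀⁻¹ * y, hcoset _ (mul_mem (inv_mem hy₀) hy) ?_, by simp⟩
            rw [← he₀] at e
            calc y₀⁻¹ * y * u * (y₀⁻¹ * y)⁻¹ = y₀⁻¹ * (y * u * y⁻¹) * y₀ := by group
              _ = u := by rw [e]; group
        have h1 := (Set.ncard_le_ncard hsub).trans (Set.ncard_union_le _ _)
        have h2 := Set.ncard_image_le (f := fun z => y₀ * z) (s := (D : Set G))
        simp only [SetLike.coe_sort_coe, ← Nat.card_coe_set_eq] at h1 h2
        omega
      · push Not at hex
        have := Nat.le_of_dvd Nat.card_pos (card_dvd_of_le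
          (show N ≤ D from fun y hy => hcoset y hy ((hval y hy).resolve_right (hex y hy))))
        omega
    have hcN : Nat.card N = 4 ∨ Nat.card N = 16 ∨ Nat.card N = 64 :=
      card_invariant hcard ht hR hr hrt inf_le_left hDN hrN
    rcases hcN with h | h | h
    · exact hxD ((eq_of_le_of_card_ge hDN (by rw [h, hcD])).symm ▸ hxN)
    · omega
    · omega
  · exact h

/-- The four group centralizer decides the order. -/
theorem big_iff :
    Big r ↔ Nat.card (R ⊓ centralizer ((fourGroup r : Subgroup G) : Set G) : Subgroup G) = 64 := by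
  set CD := centralizer ((fourGroup r : Subgroup G) : Set G) with hCD
  constructor
  · intro hbig
    rcases card_R0 hcard ht hR hr hrt with h | h
    · exfalso
      have hle := centralizer_four_le hcard ht hR hr hrt
      have h6 : R.relIndex (centralizer ({t} : Set G)) = 6 := by
        have := relIndex_mul_relIndex ⊥ R (centralizer ({t} : Set G)) bot_le hR.le
        rw [relIndex_bot_left, relIndex_bot_left, hR.card,
          show Nat.card (centralizer ({t} : Set G)) = 384 from cen_involution hcard ht] at this
        omega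
      have hrel : R.relIndex CD ≤ 6 := h6 ▸ relIndex_le_of_le_right hle (by omega)
      have hmul := relIndex_mul_relIndex ⊥ (R ⊓ CD) CD bot_le inf_le_right
      rw [relIndex_bot_left, relIndex_bot_left, h, inf_relIndex_right] at hmul
      obtain ⟨j, hj⟩ := hbig
      rw [← hCD] at hj
      have hpos := Nat.card_pos (α := CD)
      have h64 : Nat.card CD = 64 := by omega
      have hCDR : CD ≤ R := hR.absorb r hr hrt CD hle (IsPGroup.of_card (p := 2) (n := 6) h64)
        fun x hx => conj_mem_centralizer_four hcard ht hR hr hrt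
          (commute_normalizes hcard ht hR hr hrt rfl) hx
      rw [inf_eq_right.2 hCDR, h64] at h
      omega
    · exact h
  · intro h
    show 64 ∣ _
    rw [← h]
    exact card_dvd_of_le inf_le_right

end

end Cfsg.Agent.M22Order
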