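import Mathlib

/-!
# The model of the M22 graph on 77 points

`base` is joined to the 16 vectors of a symplectic space of dimension four over two elements, a
vector to the 15 totally isotropic affine planes through it, and two such planes are joined when
they are disjoint and their directions meet in a line.
-/

set_option autoImplicit false

namespace Cfsg.Agent.M22Order.Model

/-- The vectors. -/
abbrev Vec : Type := ZMod 2 × ZMod 2 × ZMod 2 × ZMod 2

/-- The symplectic form. -/
def form : Vec → Vec → ZMod 2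
  | (a₁, a₂, a₃, a₄), (b₁, b₂, b₃, b₄) => a₁ * b₂ + a₂ * b₁ + a₃ * b₄ + a₄ * b₃

/-- The direction of a set of vectors. -/
def dir (S : Finset Vec) : Finset Vec := (S ×ˢ S).image fun p => p.1 + p.2

/-- The totally isotropic affine planes. -/
def IsBlock (S : Finset Vec) : Prop :=
  S.card = 4 ∧ (dir S).card = 4 ∧ ∀ a ∈ dir S, ∀ b ∈ dir S, form a b = 0

instance : DecidablePred IsBlock := fun S => inferInstanceAs (Decidable (_ ∧ _ ∧ _))

/-- The planes. -/
abbrev Block : Type := {S : Finset Vec // IsBlock S}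

/-- The points. -/
abbrev Pt : Type := Unit ⊕ Vec ⊕ Block

/-- Adjacency. -/
def Adj : Pt → Pt → Prop
  | .inl _, .inr (.inl _) => True
  | .inr (.inl _), .inl _ => True
  | .inr (.inl v), .inr (.inr S) => v ∈ S.1
  | .inr (.inr S), .inr (.inl v) => v ∈ S.1
  | .inr (.inr S), .inr (.inr T) => Disjoint S.1 T.1 ∧ (dir S.1 ∩ dir T.1).card = 2
  | _, _ => False

/-- The automorphism group of the graph. -/
def autGroup : Subgroup (Equiv.Perm Pt) where
  carrier := {σ | ∀ x y, Adj (σ x) (σ y) ↔ Adj x y}
  one_mem' := fun _ _ => Iff.rfl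
  mul_mem' := fun {σ τ} hs ht x y => (hs (τ x) (τ y)).trans (ht x y)
  inv_mem' := fun {σ} hs x y => by
    simpa using (hs (σ⁻¹ x) (σ⁻¹ y)).symm

theorem mem_autGroup {σ : Equiv.Perm Pt} :
    σ ∈ autGroup ↔ ∀ x y, Adj (σ x) (σ y) ↔ Adj x y := Iff.rfl

end Cfsg.Agent.M22Order.Model
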