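import Cfsg.Agent.Lib.M22Order.Square

/-!
# Simple groups of order 443520: the four groups along a Sylow 3-subgroup form pairs
-/

set_option autoImplicit false
set_option linter.style.haveILetI false
set_option linter.unusedSectionVars false

namespace Cfsg.Agent.M22Order

open Subgroup
open Cfsg.Agent.M12Order (cen card_fixed_mod)

universe u

variable {G : Type u} [Group G] [Finite G]

theorem conj_mem_closure {S : Set G} {g : G} (hS : ∀ x ∈ S, g * x * g⁻¹ ∈ closure S) {x : G}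
    (hx : x ∈ closure S) : g * x * g⁻¹ ∈ closure S := by
  refine closure_induction hS (by simp) ?_ ?_ hx
  · intro a b _ _ ha hb
    simpa [mul_assoc] using mul_mem ha hb
  · intro a _ ha
    simpa [mul_assoc] using inv_mem ha

theorem four_of_mod {H : Subgroup G} {z : G} (hz : z ∈ H) (hz1 : z ≠ 1) (h4 : Nat.card H ∣ 4)
    (hmod : Nat.card H % 3 = 1) : Nat.card H = 4 := by
  rcases (show Nat.card H = 1 ∨ Nat.card H = 2 ∨ Nat.card H = 4 by
    obtain ⟨k, hk, e⟩ := (Nat.dvd_prime_pow Nat.prime_two (m := 2)).1 h4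
    interval_cases k <;> omega) with e | e | e
  · exact absurd (mem_bot.1 (eq_bot_of_card_eq _ e ▸ hz)) hz1
  · omega
  · exact e

section

variable [IsSimpleGroup G] (hcard : Nat.card G = 443520) {t r : G} {R : Subgroup G}
  (ht : orderOf t = 2) (hR : Core t R) (hr : orderOf r = 3) (hrt : Commute r t)
  {P : Subgroup G} (hP : Nat.card P = 9) (hrP : r ∈ P) (hPc : ∀ a ∈ P, ∀ b ∈ P, Commute a b)

include hcard ht hR hr hrt hP hrP hPc

theorem no_square {a b c : G} (haP : a ∈ P) (hbP : b ∈ P) (hcP : c ∈ P) (ha : orderOf a = 3)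
    (hb : orderOf b = 3) (hc : orderOf c = 3) (har : a ∉ zpowers r) (hbr : b ∉ zpowers r)
    (hcr : c ∉ zpowers r) (hra : Com r a) (hrb : Com r b) (hrc : ¬ Com r c) (hca : Com c a)
    (hcb : Com c b) (hab : ¬ Com a b)
    (hcover : ∀ x : G, ∀ p ∈ P, p ≠ 1 → Commute x p →
      Commute x r ∨ Commute x a ∨ Commute x b ∨ Commute x c) : False := by
  classical
  haveI : Fact (Nat.Prime 3) := ⟨Nat.prime_three⟩
  haveI : Fact (Nat.Prime 2) := ⟨Nat.prime_two⟩
  set D := fourGroup r with hD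
  set R0 := R ⊓ centralizer ((D : Subgroup G) : Set G) with hR0
  set M := closure ((fourGroup a : Set G) ∪ (fourGroup b : Set G)) with hM
  have hleA : fourGroup a ≤ R0 :=
    ((fixed_cases hcard ht hR hr hrt hP hrP hPc haP ha har).resolve_right fun h => h.1 hra).2
  have hleB : fourGroup b ≤ R0 :=
    ((fixed_cases hcard ht hR hr hrt hP hrP hPc hbP hb hbr).resolve_right fun h => h.1 hrb).2
  have hAM : fourGroup a ≤ M := fun x hx => subset_closure (Or.inl hx)
  have hBM : fourGroup b ≤ M := fun x hx => subset_closure (Or.inr hx)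
  have hMR0 : M ≤ R0 := (closure_le _).2 (Set.union_subset hleA hleB)
  have hMC : M ≤ centralizer ((fourGroup c : Subgroup G) : Set G) := by
    refine (closure_le _).2 (Set.union_subset ?_ ?_) <;> intro x hx
    · exact mem_centralizer_iff.2 fun z hz => hca z hz x hx
    · exact mem_centralizer_iff.2 fun z hz => hcb z hz x hx
  have hnorm : ∀ p ∈ P, ∀ d : G, d ∈ P → ∀ x ∈ fourGroup d, p * x * p⁻¹ ∈ fourGroup d :=
    fun p hp d hd x hx => by
      have := conj_mem_four p hx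
      rwa [(hPc p hp d hd).eq, mul_inv_cancel_right] at this
  -- `M` meets the four group trivially
  have hMD : M ⊓ D = ⊥ := by
    refine (eq_bot_iff_forall _).2 fun x hx => ?_
    by_contra hx1
    set S := D ⊓ centralizer ((fourGroup c : Subgroup G) : Set G) with hS
    have haS : a ∈ normalizer (S : Set G) := mem_normalizer_of_conj fun y hy => by
      refine mem_inf.2 ⟨hnorm a haP r hrP y (mem_inf.1 hy).1, mem_centralizer_iff.2 fun z hz => ?_⟩
      have hz' : a⁻¹ * z * a ∈ fourGroup c := by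
        have := hnorm a⁻¹ (inv_mem haP) c hcP z hz
        simpa using this
      have h1 := commute_conj a (show Commute (a⁻¹ * z * a) y from
        mem_centralizer_iff.1 (mem_inf.1 hy).2 _ hz')
      simpa [mul_assoc, Commute, SemiconjBy] using h1
    have hfix : S ⊓ centralizer ({a} : Set G) = ⊥ := (eq_bot_iff_forall _).2 fun y hy =>
      eq_one_of_mem_two hcard ht hR hr hrt hP hrP hPc haP har (mem_inf.1 (mem_inf.1 hy).1).1
        (mem_centralizer_singleton_iff.1 (mem_inf.1 hy).2)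
    have h := card_fixed_mod ha S haS
    rw [hfix, card_bot] at h
    have h4 : Nat.card S ∣ 4 := (exists_four hcard hr).1 ▸ card_dvd_of_le inf_le_left
    have hxS : x ∈ S := mem_inf.2 ⟨(mem_inf.1 hx).2, hMC (mem_inf.1 hx).1⟩
    have heq : S = D := eq_of_le_of_card_ge inf_le_left
      (by rw [four_of_mod hxS hx1 h4 (by omega)]; exact le_of_eq (exists_four hcard hr).1)
    refine hrc fun z hz w hw => ?_
    exact (mem_centralizer_iff.1 (mem_inf.1 ((SetLike.ext_iff.1 heq z).2 hz)).2 w hw).symm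
  have hinv : ∀ p ∈ P, ∀ x ∈ M, p * x * p⁻¹ ∈ M := fun p hp x hx => conj_mem_closure (fun y hy => by
    rcases hy with h | h
    · exact hAM (hnorm p hp a haP y h)
    · exact hBM (hnorm p hp b hbP y h)) hx
  have hMfix : ∀ K : Subgroup G, K ≤ M → K ⊓ centralizer ({r} : Set G) = ⊥ := fun K hK => le_bot_iff.1 (by
    rw [← hMD]
    exact le_inf (inf_le_left.trans hK)
      (inf_centralizer_le hcard ht hR hr hrt (hK.trans (hMR0.trans inf_le_left))))
  have hMmod := card_fixed_mod hr M (mem_normalizer_of_conj (hinv r hrP))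
  rw [hMfix M le_rfl, card_bot] at hMmod
  have hM16 : Nat.card M * 4 ≤ 64 := by
    have hinj : Function.Injective (fun z : M × D => (⟨(z.1 : G) * z.2,
        mul_mem (hMR0 z.1.2) (four_le_R0 hcard ht hR hr hrt hP hrP hPc z.2.2)⟩ : R0)) := by
      rintro ⟨⟨m, hm⟩, ⟨d, hd⟩⟩ ⟨⟨m', hm'⟩, ⟨d', hd'⟩⟩ h
      have h' : m * d = m' * d' := congrArg Subtype.val h
      have h1 : m'⁻¹ * m = d' * d⁻¹ := by
        rw [eq_mul_inv_iff_mul_eq, mul_assoc, h', inv_mul_cancel_left]
      have h2 : m'⁻¹ * m ∈ M ⊓ D :=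
        mem_inf.2 ⟨mul_mem (inv_mem hm') hm, h1 ▸ mul_mem hd' (inv_mem hd)⟩
      rw [hMD, mem_bot] at h2
      have hmm : m' = m := inv_mul_eq_one.1 h2
      subst hmm
      have hdd : d = d' := mul_left_cancel h'
      subst hdd
      rfl
    have h1 := Nat.card_le_card_of_injective _ hinj
    rw [Nat.card_prod, show Nat.card D = 4 from (exists_four hcard hr).1] at h1
    have h2 := card_R0 hcard ht hR hr hrt
    change Nat.card R0 = 16 ∨ Nat.card R0 = 64 at h2
    omega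
  have hMd : Nat.card M ∣ 64 := hR.card ▸ card_dvd_of_le (hMR0.trans inf_le_left)
  have hMge : 4 ≤ Nat.card M := (exists_four hcard ha).1 ▸ Nat.le_of_dvd Nat.card_pos (card_dvd_of_le hAM)
  have hcM : Nat.card M = 4 ∨ Nat.card M = 16 := by
    obtain ⟨k, hk, e⟩ := (Nat.dvd_prime_pow Nat.prime_two (m := 6)).1 hMd
    rw [e] at hMmod hM16 hMge ⊢
    interval_cases k <;> omega
  rcases hcM with h4 | h16
  · have heq : fourGroup a = M := eq_of_le_of_card_ge hAM (by rw [h4, (exists_four hcard ha).1])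
    exact hab fun z hz w hw => four_comm hcard ha hz ((SetLike.ext_iff.1 heq w).2 (hBM hw))
  -- the centre
  set Z := M ⊓ centralizer (M : Set G) with hZ
  haveI : Nontrivial M := (Finite.one_lt_card_iff_nontrivial).1 (by omega)
  haveI : Nontrivial (center M) :=
    (isPGroup_core hcard ht hR hr hrt (hMR0.trans inf_le_left)).center_nontrivial
  obtain ⟨⟨⟨z, hzM⟩, hzc⟩, hz1⟩ := exists_ne (1 : center M)
  have hzZ : z ∈ Z := mem_inf.2 ⟨hzM, mem_centralizer_iff.2 fun w hw =>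
    congrArg Subtype.val (mem_center_iff.1 hzc ⟨w, hw⟩)⟩
  have hz1' : z ≠ 1 := fun e => hz1 (Subtype.ext (Subtype.ext e))
  have hZinv : ∀ p ∈ P, ∀ x ∈ Z, p * x * p⁻¹ ∈ Z := fun p hp x hx =>
    mem_inf.2 ⟨hinv p hp x (mem_inf.1 hx).1, mem_centralizer_iff.2 fun w hw => by
      have hw' : p⁻¹ * w * p ∈ M := by
        have := hinv p⁻¹ (inv_mem hp) w hw
        simpa using this
      have h1 := commute_conj p (show Commute (p⁻¹ * w * p) x from
        mem_centralizer_iff.1 (mem_inf.1 hx).2 _ hw')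
      simpa [mul_assoc, Commute, SemiconjBy] using h1⟩
  have hZmod := card_fixed_mod hr Z (mem_normalizer_of_conj (hZinv r hrP))
  rw [hMfix Z inf_le_left, card_bot] at hZmod
  have hZd : Nat.card Z ∣ 16 := h16 ▸ card_dvd_of_le inf_le_left
  obtain ⟨k, hk, hkZ⟩ := (Nat.dvd_prime_pow Nat.prime_two (m := 4)).1 hZd
  have hk24 : k = 2 ∨ k = 4 := by
    rcases (show k = 0 ∨ k = 1 ∨ k = 2 ∨ k = 3 ∨ k = 4 by omega) with rfl | rfl | rfl | rfl | rfl
    · exact absurd (mem_bot.1 (eq_bot_of_card_eq _ (by simpa using hkZ) ▸ hzZ)) hz1'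
    · rw [hkZ] at hZmod; norm_num at hZmod
    · exact Or.inl rfl
    · rw [hkZ] at hZmod; norm_num at hZmod
    · exact Or.inr rfl
  have hfull : ¬ (fourGroup a ≤ Z) := fun h => hab fun x hx w hw =>
    (mem_centralizer_iff.1 (mem_inf.1 (h hx)).2 w (hBM hw)).symm
  have hfull' : ¬ (fourGroup b ≤ Z) := fun h => hab fun x hx w hw =>
    mem_centralizer_iff.1 (mem_inf.1 (h hw)).2 x (hAM hx)
  rcases hk24 with rfl | rfl
  swap
  · have : Z = M := eq_of_le_of_card_ge inf_le_left (by rw [hkZ, h16]; norm_num)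
    exact hfull (this ▸ hAM)
  -- pigeonhole
  obtain ⟨p, hp, hp1, hpz⟩ : ∃ p ∈ P, p ≠ 1 ∧ Commute z p := by
    by_contra hno
    push Not at hno
    have hinj : Function.Injective
        (fun p : P => (⟨(p : G) * z * (p : G)⁻¹, hZinv p p.2 z hzZ⟩ : Z)) := by
      rintro ⟨p, hp⟩ ⟨q, hq⟩ h
      have h' : p * z * p⁻¹ = q * z * q⁻¹ := congrArg Subtype.val h
      by_contra hne
      refine hno (q⁻¹ * p) (mul_mem (inv_mem hq) hp)
        (fun e => hne (Subtype.ext (inv_mul_eq_one.1 e).symm)) ?_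
      show z * (q⁻¹ * p) = q⁻¹ * p * z
      calc z * (q⁻¹ * p) = q⁻¹ * (q * z * q⁻¹) * p := by group
        _ = q⁻¹ * p * z := by rw [← h']; group
    have := Nat.card_le_card_of_injective _ hinj
    rw [hP, hkZ] at this
    norm_num at this
  have hsub : ∀ d : G, orderOf d = 3 → d ∈ P → d ∉ zpowers r → Commute z d → fourGroup d ≤ Z := by
    intro d hd hdP hdr hzd
    set S := Z ⊓ fourGroup d with hS
    have hrS : r ∈ normalizer (S : Set G) := mem_normalizer_of_conj fun x hx =>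
      mem_inf.2 ⟨hZinv r hrP x (mem_inf.1 hx).1, hnorm r hrP d hdP x (mem_inf.1 hx).2⟩
    have h := card_fixed_mod hr S hrS
    rw [hMfix S (inf_le_left.trans inf_le_left), card_bot] at h
    have hzS : z ∈ S := mem_inf.2 ⟨hzZ, four_absorb hcard hd (T := zpowers z)
      (zpowers_le.2 (mem_centralizer_singleton_iff.2 hzd))
      (isPGroup_core hcard ht hR hr hrt (zpowers_le.2 (mem_inf.1 (hMR0 hzM)).1)) (mem_zpowers z)⟩
    have h4 : Nat.card S ∣ 4 := (exists_four hcard hd).1 ▸ card_dvd_of_le inf_le_right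
    have heq : S = fourGroup d := eq_of_le_of_card_ge inf_le_right
      (by rw [four_of_mod hzS hz1' h4 (by omega), (exists_four hcard hd).1])
    exact heq ▸ inf_le_left
  rcases hcover z p hp hp1 hpz with h | h | h | h
  · refine hz1' (mem_bot.1 (hMD ▸ mem_inf.2 ⟨hzM, ?_⟩))
    exact mem_four_of_commute hcard ht hR hr hrt hP hrP hPc (hMR0 hzM) h
  · exact hfull (hsub a ha haP har h)
  · exact hfull' (hsub b hb hbP hbr h)
  · exact hz1' (((fixed_cases hcard ht hR hr hrt hP hrP hPc hcP hc hcr).resolve_left fun e =>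
      hrc e.1).2 z (hMR0 hzM) h)

end

/-- Four points with exactly two neighbours each among the others form a square. -/
theorem square_logic {A B C X Y Z : Prop}
    (k0 : (A ∧ B ∧ ¬ C) ∨ (A ∧ ¬ B ∧ C) ∨ (¬ A ∧ B ∧ C))
    (k1 : (A ∧ X ∧ ¬ Y) ∨ (A ∧ ¬ X ∧ Y) ∨ (¬ A ∧ X ∧ Y))
    (k2 : (B ∧ Z ∧ ¬ X) ∨ (B ∧ ¬ Z ∧ X) ∨ (¬ B ∧ Z ∧ X))
    (k3 : (C ∧ Y ∧ ¬ Z) ∨ (C ∧ ¬ Y ∧ Z) ∨ (¬ C ∧ Y ∧ Z)) :
    (A ∧ B ∧ ¬ C ∧ Y ∧ Z ∧ ¬ X) ∨ (A ∧ ¬ B ∧ C ∧ X ∧ Z ∧ ¬ Y) ∨ (¬ A ∧ B ∧ C ∧ X ∧ Y ∧ ¬ Z) := by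
  rcases k0 with ⟨a, b, c⟩ | ⟨a, b, c⟩ | ⟨a, b, c⟩ <;>
    simp only [a, b, c, true_and, false_and, not_true_eq_false, not_false_eq_true, false_or, or_false,
      and_false] at k1 k2 k3 ⊢ <;>
    tauto

section

variable [IsSimpleGroup G] (hcard : Nat.card G = 443520)

include hcard

theorem exists_sylow_nine {r : G} (hr : orderOf r = 3) :
    ∃ P : Subgroup G, Nat.card P = 9 ∧ r ∈ P ∧ ∀ a ∈ P, ∀ b ∈ P, Commute a b := by
  haveI : Fact (Nat.Prime 3) := ⟨Nat.prime_three⟩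
  obtain ⟨P, hP⟩ := (IsPGroup.of_card (p := 3) (n := 1)
    (by rw [Nat.card_zpowers, hr, pow_one]) : IsPGroup 3 (zpowers r)).exists_le_sylow
  have h9 := card_sylow_three hcard P
  letI := IsPGroup.commGroupOfCardEqPrimeSq (p := 3) (G := (P : Subgroup G)) (by rw [h9]; norm_num)
  exact ⟨P, h9, hP (mem_zpowers r), fun a ha b hb =>
    congrArg Subtype.val (mul_comm (⟨a, ha⟩ : (P : Subgroup G)) ⟨b, hb⟩)⟩

theorem exists_involution_of_three {r : G} (hr : orderOf r = 3) :
    ∃ t R, orderOf t = 2 ∧ Commute r t ∧ Core t R := by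
  obtain ⟨h4, -, -⟩ := exists_four hcard hr
  obtain ⟨t, ht, ht1⟩ : ∃ t ∈ fourGroup r, t ≠ 1 := by
    by_contra hno
    push Not at hno
    rw [(eq_bot_iff_forall _).2 hno, card_bot] at h4
    omega
  obtain ⟨ho, hc⟩ := four_involution hcard hr ht ht1
  obtain ⟨R, hR⟩ := exists_core hcard ho
  exact ⟨t, R, ho, hc, hR⟩

theorem big_iff_big {a b : G} (ha : orderOf a = 3) (hb : orderOf b = 3) : Big a ↔ Big b := by
  obtain ⟨g, rfl⟩ := isConj_iff.1 (isConj_three hcard ha hb)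
  exact (big_conj g a).symm

/-- **The centralizer of a four group `fourGroup r` is small.** -/
theorem not_big {r : G} (hr : orderOf r = 3) : ¬ Big r := by
  intro hbig
  obtain ⟨P, hP, hrP, hPc⟩ := exists_sylow_nine hcard hr
  obtain ⟨t, R, ht, hrt, hR⟩ := exists_involution_of_three hcard hr
  obtain ⟨y, hyP, hy, hyr⟩ := exists_second hcard ht hR hr hrt hP hrP hPc
  have hry : Commute r y := hPc r hrP y hyP
  have h3 : ∀ z : G, orderOf z = 3 → z ^ 3 = 1 := fun z hz => hz ▸ pow_orderOf_eq_one z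
  have hbr : r * y ∉ zpowers r := fun h => hyr (by simpa using mul_mem (inv_mem (mem_zpowers r)) h)
  have hcr : r⁻¹ * y ∉ zpowers r := fun h => hyr (by simpa using mul_mem (mem_zpowers r) h)
  have hb3 : orderOf (r * y) = 3 := orderOf_three_of_ne
    (by rw [hry.mul_pow, h3 r hr, h3 y hy, one_mul]) fun e => hbr (e ▸ one_mem _)
  have hc3 : orderOf (r⁻¹ * y) = 3 := orderOf_three_of_ne
    (by rw [hry.inv_left.mul_pow, inv_pow, h3 r hr, h3 y hy, inv_one, one_mul])
      fun e => hcr (e ▸ one_mem _)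
  have key : ∀ a, orderOf a = 3 → a ∈ P → a ∉ zpowers r →
      (Com a r ∧ Com a (a * r) ∧ ¬ Com a (a⁻¹ * r)) ∨ (Com a r ∧ ¬ Com a (a * r) ∧ Com a (a⁻¹ * r)) ∨
        (¬ Com a r ∧ Com a (a * r) ∧ Com a (a⁻¹ * r)) := by
    intro a ha haP har
    obtain ⟨s, S, hs, has, hS⟩ := exists_involution_of_three hcard ha
    exact (count_cases hcard hs hS ha has hP haP hPc hr hrP (not_mem_zpowers_symm hr ha har)).1
      ((big_iff_big hcard hr ha).1 hbig)
  have k0 := (count_cases hcard ht hR hr hrt hP hrP hPc hy hyP hyr).1 hbig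
  have k1 := key y hy hyP hyr
  have k2 := key (r * y) hb3 (mul_mem hrP hyP) hbr
  have k3 := key (r⁻¹ * y) hc3 (mul_mem (inv_mem hrP) hyP) hcr
  -- the names of the third vertices
  have e1 : y * r = r * y := hry.eq.symm
  have e2 : y⁻¹ * r = (r⁻¹ * y)⁻¹ := by rw [mul_inv_rev, inv_inv]
  have e3 : r * y * r = (r⁻¹ * y) := by
    rw [mul_assoc, ← hry.eq, ← mul_assoc]
    congr 1
    exact eq_inv_of_mul_eq_one_left (by rw [← pow_two, ← pow_succ]; exact h3 r hr)
  have e4 : (r * y)⁻¹ * r = y⁻¹ := by rw [mul_inv_rev, inv_mul_cancel_right]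
  have e5 : r⁻¹ * y * r = y := by rw [mul_assoc, ← hry.eq, inv_mul_cancel_left]
  have e6 : (r⁻¹ * y)⁻¹ * r = (r * y)⁻¹ := by
    rw [mul_inv_rev, inv_inv, mul_inv_rev, mul_assoc]
    congr 1
    exact eq_inv_of_mul_eq_one_left (by rw [← pow_two, ← pow_succ]; exact h3 r hr)
  rw [e1, e2, com_inv] at k1
  rw [e3, e4, com_inv] at k2
  rw [e5, e6, com_inv] at k3
  have sym : ∀ a b : G, Com a b ↔ Com b a := fun a b => ⟨Com.symm, Com.symm⟩
  simp only [sym y r, sym (r * y) r, sym (r * y) y, sym (r⁻¹ * y) r, sym (r⁻¹ * y) y,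
    sym (r⁻¹ * y) (r * y)] at k1 k2 k3
  have cov : ∀ x : G, ∀ p ∈ P, p ≠ 1 → Commute x p →
      Commute x r ∨ Commute x y ∨ Commute x (r * y) ∨ Commute x (r⁻¹ * y) := by
    intro x p hp hp1 hc
    rcases nine_cases hr hy hry hyr hP hrP hyP hp hp1 with e | e | e | e | e | e | e | e <;> subst e
    all_goals first
      | exact Or.inl hc
      | exact Or.inl (Commute.inv_right_iff.1 hc)
      | exact Or.inr (Or.inl hc)
      | exact Or.inr (Or.inl (Commute.inv_right_iff.1 hc))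
      | exact Or.inr (Or.inr (Or.inl hc))
      | exact Or.inr (Or.inr (Or.inl (Commute.inv_right_iff.1 hc)))
      | exact Or.inr (Or.inr (Or.inr hc))
      | exact Or.inr (Or.inr (Or.inr (Commute.inv_right_iff.1 hc)))
  have hbP := mul_mem hrP hyP
  have hcP := mul_mem (inv_mem hrP) hyP
  rcases square_logic k0 k1 k2 k3 with ⟨p1, p2, p3, q1, q2, q3⟩ | ⟨p1, p2, p3, q1, q2, q3⟩ |
    ⟨p1, p2, p3, q1, q2, q3⟩
  · exact no_square hcard ht hR hr hrt hP hrP hPc hyP hbP hcP hy hb3 hc3 hyr hbr hcr p1 p2 p3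
      q1.symm q2.symm q3 cov
  · exact no_square hcard ht hR hr hrt hP hrP hPc hyP hcP hbP hy hc3 hb3 hyr hcr hbr p1 p3 p2
      q1.symm q2 q3 fun x p hp h1 h2 => by
        rcases cov x p hp h1 h2 with h | h | h | h
        exacts [Or.inl h, Or.inr (Or.inl h), Or.inr (Or.inr (Or.inr h)), Or.inr (Or.inr (Or.inl h))]
  · exact no_square hcard ht hR hr hrt hP hrP hPc hbP hcP hyP hb3 hc3 hy hbr hcr hyr p2 p3 p1
      q1 q2 q3 fun x p hp h1 h2 => by
        rcases cov x p hp h1 h2 with h | h | h | h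
        exacts [Or.inl h, Or.inr (Or.inr (Or.inr h)), Or.inr (Or.inl h), Or.inr (Or.inr (Or.inl h))]

end

end Cfsg.Agent.M22Order
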