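import Cfsg.Agent.Lib.M22Order.Eleven
import Cfsg.Agent.Lib.Golay.M22Involution
import Cfsg.Agent.Lib.Golay.M22TwoBlock
import Cfsg.Agent.Lib.Coprime.Sylow
import Mathlib.GroupTheory.Transfer

/-!
# A group with the order and the element-order counts of M22 is simple

The number 80640 of elements of order 11 of M22 is the only count congruent to 10 modulo 11, so a
group with the same counts has 8064 Sylow 11-subgroups, and this forces simplicity.
-/

set_option autoImplicit false
set_option linter.style.haveILetI false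

namespace Cfsg.Agent.M22Order.Nse

open Subgroup

local instance fact11 : Fact (Nat.Prime 11) := ⟨by norm_num⟩

variable {G : Type*} [Group G] [Finite G]

/-- A `p`-group acting by conjugation on a set without fixed points divides its size by `p`. -/
theorem dvd_card_set {p : ℕ} [Fact p.Prime] {P : Subgroup G} (hP : IsPGroup p P) (T : Set G)
    (hT : ∀ a ∈ P, ∀ x ∈ T, a * x * a⁻¹ ∈ T)
    (hfix : ∀ x ∈ T, x ∉ centralizer (P : Set G)) : p ∣ Nat.card T := by
  letI : MulAction P T :=
    { smul := fun a x => ⟨(a : G) * x * (a : G)⁻¹, hT a a.2 x x.2⟩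
      one_smul := fun x => Subtype.ext (show (1 : G) * x * (1 : G)⁻¹ = x by group)
      mul_smul := fun a b x => Subtype.ext
        (show ((a : G) * b) * x * ((a : G) * b)⁻¹ = (a : G) * ((b : G) * x * (b : G)⁻¹) * (a : G)⁻¹ by
          group) }
  have h := hP.card_modEq_card_fixedPoints (α := T)
  haveI : IsEmpty (MulAction.fixedPoints P T) := ⟨fun x => hfix _ x.1.2 (by
    intro a ha
    have h2 : (a * (x.1 : G) * a⁻¹ : G) = x.1 := congrArg Subtype.val (x.2 ⟨a, ha⟩)
    calc a * (x.1 : G) = a * (x.1 : G) * a⁻¹ * a := by group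
      _ = (x.1 : G) * a := by rw [h2])⟩
  rw [Nat.card_of_isEmpty (α := MulAction.fixedPoints P T)] at h
  exact (Nat.modEq_zero_iff_dvd.1 h)

/-- The number of elements of order `p` when the Sylow `p`-subgroups have order `p`. -/
theorem card_order_eq {p : ℕ} [hp : Fact p.Prime] (hs : ∀ Q : Sylow p G, Nat.card Q = p) :
    Nat.card {y : G // orderOf y = p} = Nat.card (Sylow p G) * (p - 1) := by
  classical
  haveI := Fintype.ofFinite (Sylow p G)
  obtain ⟨P⟩ : Nonempty (Sylow p G) := inferInstance
  have hyo : ∀ (Q : Sylow p G) (a : (Q : Subgroup G)), a ≠ 1 → orderOf a = p := fun Q a ha =>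
    orderOf_eq_prime ((congrArg (a ^ ·) (hs Q).symm).trans pow_card_eq_one') ha
  have e : {y : G // orderOf y = p} ≃ Σ Q : Sylow p G, {y : (Q : Subgroup G) // y ≠ 1} :=
    { toFun := fun y =>
        ⟨Sylow.ofCard (zpowers y.1) (by
          rw [Nat.card_zpowers, y.2, ← P.card_eq_multiplicity, hs]),
          ⟨⟨y.1, mem_zpowers _⟩, fun he => by
            have := y.2
            rw [show y.1 = 1 from congrArg Subtype.val he, orderOf_one] at this
            exact hp.out.one_lt.ne this⟩⟩
      invFun := fun s => ⟨(s.2.1 : G), by rw [Subgroup.orderOf_coe]; exact hyo s.1 s.2.1 s.2.2⟩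
      left_inv := fun y => rfl
      right_inv := fun ⟨Q, a⟩ => by
        have hq : ∀ (Q₁ Q₂ : Sylow p G) (_ : Q₁ = Q₂) (a : {y : (Q₁ : Subgroup G) // y ≠ 1})
            (b : {y : (Q₂ : Subgroup G) // y ≠ 1}), (a.1 : G) = b.1 →
            (⟨Q₁, a⟩ : Σ Q : Sylow p G, {y : (Q : Subgroup G) // y ≠ 1}) = ⟨Q₂, b⟩ := by
          rintro Q₁ Q₂ rfl a b hab
          rw [Subtype.ext (Subtype.ext hab : a.1 = b.1)]
        refine hq _ _ (Sylow.ext ?_) _ _ rfl
        rw [Sylow.coe_ofCard]
        exact eq_of_le_of_card_ge (zpowers_le.2 a.1.2)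
          (by rw [Nat.card_zpowers, Subgroup.orderOf_coe, hyo Q a.1 a.2, hs]) }
  rw [Nat.card_congr e, Nat.card_sigma]
  have : ∀ Q : Sylow p G, Nat.card {y : (Q : Subgroup G) // y ≠ 1} = p - 1 := fun Q => by
    haveI := Fintype.ofFinite (Q : Subgroup G)
    rw [Nat.card_eq_fintype_card, Fintype.card_subtype_compl, Fintype.card_subtype_eq,
      ← Nat.card_eq_fintype_card, hs]
  rw [Finset.sum_congr rfl fun Q _ => this Q, Finset.sum_const, Finset.card_univ, smul_eq_mul,
    Nat.card_eq_fintype_card]

theorem card_sylow_prime (hc : Nat.card G = 443520) {q : ℕ} [Fact q.Prime]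
    (hq : q = 5 ∨ q = 11) (P : Sylow q G) : Nat.card P = q := by
  rw [P.card_eq_multiplicity, hc, Nat.factorization_def _ (Fact.out : q.Prime),
    show 443520 = q ^ 1 * (443520 / q) by rcases hq with rfl | rfl <;> norm_num,
    padicValNat.mul (pow_ne_zero _ (Fact.out : q.Prime).ne_zero)
      (by rcases hq with rfl | rfl <;> norm_num),
    padicValNat.prime_pow, padicValNat.eq_zero_of_not_dvd
      (by rcases hq with rfl | rfl <;> norm_num), pow_one]

theorem card_sylow_eleven (hc : Nat.card G = 443520) (P : Sylow 11 G) : Nat.card P = 11 :=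
  card_sylow_prime hc (Or.inr rfl) P

/-- The values of the counting function in a simple group of order 443520. -/
theorem count_cases [IsSimpleGroup G] (hc : Nat.card G = 443520) {c : ℕ}
    (hmem : 0 < c ∧ ∃ n : ℕ, c = Nat.card {g : G // orderOf g = n}) :
    c = 1 ∨ c = 80640 ∨ 11 ∣ c := by
  obtain ⟨-, n, rfl⟩ := hmem
  obtain ⟨P⟩ : Nonempty (Sylow 11 G) := inferInstance
  by_cases h11 : n = 11
  · subst h11
    obtain ⟨D, ht, hts⟩ := PrimeBlock.exists_pblock' (not_comm hc) (by norm_num) P
      (card_sylow_eleven hc P)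
    have hN := (sylow_eleven hc P D ht hts).2.2
    have h1 : Nat.card (Sylow 11 G) = 8064 := by
      rw [P.card_eq_index_normalizer, ← P.coe_coe]
      have h2 := card_mul_index (normalizer ((P : Subgroup G) : Set G))
      rw [hN, hc] at h2
      omega
    refine Or.inr (Or.inl ?_)
    rw [card_order_eq (card_sylow_eleven hc), h1]
  by_cases h1 : n = 1
  · subst h1
    refine Or.inl ?_
    simp [orderOf_eq_one_iff]
  refine Or.inr (Or.inr (dvd_card_set (P.isPGroup') {g : G | orderOf g = n} ?_ ?_))
  · intro a _ x hx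
    exact (MulEquiv.orderOf_eq (MulAut.conj a) x).trans hx
  · intro x hx hxC
    have hC : centralizer ((P : Subgroup G) : Set G) = (P : Subgroup G) := by
      haveI : IsMulCommutative (P : Subgroup G) :=
        have := isCyclic_of_prime_card (p := 11) (card_sylow_eleven hc P)
        inferInstance
      refine (eq_of_le_of_card_ge (Subgroup.le_centralizer _) ?_).symm
      rw [card_centralizer_eleven hc P, card_sylow_eleven hc P]
    rw [hC] at hxC
    have hd : orderOf x ∣ 11 := by
      have := Subgroup.orderOf_dvd_natCard _ hxC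
      rwa [card_sylow_eleven hc P] at this
    rcases (Nat.dvd_prime (by norm_num : Nat.Prime 11)).1 hd with h | h
    · exact h1 (hx.symm.trans h)
    · exact h11 (hx.symm.trans h)

section Main

variable (hc : Nat.card G = 443520)
  (hnse : {c : ℕ | 0 < c ∧ ∃ n : ℕ, c = Nat.card {g : G // orderOf g = n}} =
    {c : ℕ | 0 < c ∧ ∃ n : ℕ, c = Nat.card {g : ↥Cfsg.Spor.M22 // orderOf g = n}})

include hc hnse

omit hc in
theorem count_cases' {n : ℕ} (hn : 0 < Nat.card {g : G // orderOf g = n}) :
    Nat.card {g : G // orderOf g = n} = 1 ∨ Nat.card {g : G // orderOf g = n} = 80640 ∨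
      11 ∣ Nat.card {g : G // orderOf g = n} := by
  haveI := Golay.M22TwoBlock.isSimple
  have h : Nat.card {g : G // orderOf g = n} ∈
      {c : ℕ | 0 < c ∧ ∃ m : ℕ, c = Nat.card {g : G // orderOf g = m}} := ⟨hn, n, rfl⟩
  rw [hnse] at h
  exact count_cases Golay.M22Involution.card_M22 h

theorem card_normalizer_eleven (P : Sylow 11 G) :
    Nat.card (normalizer ((P : Subgroup G) : Set G)) = 55 ∧
      Nat.card {g : G // orderOf g = 11} = 80640 := by
  have hmod := card_sylow_modEq_one 11 G
  have hcnt := card_order_eq (card_sylow_eleven hc)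
  have hpos : 0 < Nat.card (Sylow 11 G) := Nat.card_pos
  have h := count_cases' hnse (n := 11) (by omega)
  have h1 : Nat.card (Sylow 11 G) = 8064 := by
    unfold Nat.ModEq at hmod
    rcases h with h | h | ⟨k, h⟩ <;> omega
  refine ⟨?_, by omega⟩
  have h2 := card_mul_index (normalizer ((P : Subgroup G) : Set G))
  rw [P.coe_coe, ← P.card_eq_index_normalizer, h1, hc] at h2
  rw [P.coe_coe]
  omega

/-- A normal subgroup of order prime to 11 is trivial. -/
theorem eq_bot_of_not_dvd (K : Subgroup G) [K.Normal] (hK : ¬ 11 ∣ Nat.card K) : K = ⊥ := by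
  obtain ⟨P⟩ : Nonempty (Sylow 11 G) := inferInstance
  have hPc := card_sylow_eleven hc P
  have main : ∀ q : ℕ, q.Prime → q ∣ Nat.card K → q = 5 := by
    intro q hq hqK
    by_contra hq5
    haveI : Fact q.Prime := ⟨hq⟩
    have hsolv : Group.IsSolvable (P : Subgroup G) := by
      haveI := isCyclic_of_prime_card (p := 11) hPc
      infer_instance
    obtain ⟨Q, hQ⟩ := Coprime.exists_invariant_sylow q (A := (P : Subgroup G)) (K := K)
      (by rw [normalizer_eq_top]; exact le_top)
      (by rw [hPc]; exact ((by norm_num : Nat.Prime 11).coprime_iff_not_dvd).2 hK) (Or.inl hsolv)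
    let Q' : Subgroup G := (Q : Subgroup K).map K.subtype
    have hQc : Nat.card Q' = q ^ (Nat.card K).factorization q := by
      rw [Subgroup.card_subtype, Q.card_eq_multiplicity]
    have hdvd : 11 ∣ Nat.card ((Q' : Set G) \ {1} : Set G) := by
      refine dvd_card_set P.isPGroup' _ ?_ ?_
      · rintro a ha x ⟨hx, hx1⟩
        exact ⟨(mem_normalizer_iff.1 (hQ ha) x).1 hx, fun h => hx1 (by
          rw [Set.mem_singleton_iff] at h ⊢
          calc x = a⁻¹ * (a * x * a⁻¹) * a := by group
            _ = 1 := by rw [h]; group)⟩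
      · rintro x ⟨hx, hx1⟩ hxC
        have h55 : orderOf x ∣ 55 := by
          have hxN : x ∈ normalizer ((P : Subgroup G) : Set G) :=
            centralizer_le_normalizer _ hxC
          have := Subgroup.orderOf_dvd_natCard _ hxN
          rwa [(card_normalizer_eleven hc hnse P).1] at this
        have hqp : orderOf x ∣ q ^ (Nat.card K).factorization q := by
          rw [← hQc]; exact Subgroup.orderOf_dvd_natCard _ hx
        have hcop : (q ^ (Nat.card K).factorization q).Coprime 55 := by
          refine Nat.Coprime.pow_left _ (hq.coprime_iff_not_dvd.2 fun h => ?_)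
          rcases hq.dvd_mul.1 (show q ∣ 5 * 11 from h) with h5 | h11
          · exact hq5 ((Nat.prime_dvd_prime_iff_eq hq (by norm_num)).1 h5)
          · rw [(Nat.prime_dvd_prime_iff_eq hq (by norm_num)).1 h11] at hqK
            exact hK hqK
        exact hx1 (orderOf_eq_one_iff.1 (Nat.eq_one_of_dvd_coprimes hcop hqp h55))
    rw [Nat.card_coe_set_eq, Set.ncard_diff_singleton_of_mem Q'.one_mem,
      ← Nat.card_coe_set_eq] at hdvd
    change 11 ∣ Nat.card Q' - 1 at hdvd
    rw [hQc] at hdvd
    have hk : 0 < (Nat.card K).factorization q :=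
      hq.factorization_pos_of_dvd Nat.card_pos.ne' hqK
    have hd : q ^ (Nat.card K).factorization q ∣ 443520 :=
      (Nat.ordProj_dvd _ _).trans (hc ▸ card_subgroup_dvd_card K)
    have hfin : ∀ a : ℕ, a ∈ ({2, 4, 8, 16, 32, 64, 128, 3, 9, 7} : List ℕ) → ¬ 11 ∣ a - 1 := by
      decide
    refine hfin _ ?_ hdvd
    have hq' : q ∣ 2 ^ 7 * (3 ^ 2 * (5 * (7 * 11))) :=
      (show (443520 : ℕ) = 2 ^ 7 * (3 ^ 2 * (5 * (7 * 11))) by norm_num) ▸
        (dvd_pow_self q hk.ne').trans hd
    have hpr : ∀ r : ℕ, r.Prime → q ∣ r → q = r := fun r hr h =>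
      (Nat.prime_dvd_prime_iff_eq hq hr).1 h
    have hcases : q = 2 ∨ q = 3 ∨ q = 7 := by
      rcases hq.dvd_mul.1 hq' with h | h
      · exact Or.inl (hpr 2 Nat.prime_two (hq.dvd_of_dvd_pow h))
      rcases hq.dvd_mul.1 h with h | h
      · exact Or.inr (Or.inl (hpr 3 Nat.prime_three (hq.dvd_of_dvd_pow h)))
      rcases hq.dvd_mul.1 h with h | h
      · exact absurd (hpr 5 (by norm_num) h) hq5
      rcases hq.dvd_mul.1 h with h | h
      · exact Or.inr (Or.inr (hpr 7 (by norm_num) h))
      · exact absurd (hpr 11 (by norm_num) h ▸ hqK) hK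
    generalize (Nat.card K).factorization q = k at hd hk ⊢
    rcases hcases with rfl | rfl | rfl
    · have : k ≤ 7 := by
        by_contra hlt
        have := (pow_dvd_pow 2 (show 8 ≤ k by omega)).trans hd
        norm_num at this
      interval_cases k <;> decide
    · have : k ≤ 2 := by
        by_contra hlt
        have := (pow_dvd_pow 3 (show 3 ≤ k by omega)).trans hd
        norm_num at this
      interval_cases k <;> decide
    · have : k ≤ 1 := by
        by_contra hlt
        have := (pow_dvd_pow 7 (show 2 ≤ k by omega)).trans hd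
        norm_num at this
      interval_cases k
      decide
  rw [eq_bot_iff_card]
  by_contra hne
  obtain ⟨r, hr, hrK⟩ := Nat.exists_prime_and_dvd hne
  have h5 : Nat.card K = 5 := by
    have hr5 := main r hr hrK
    subst hr5
    have hall : Nat.card K = 5 ^ (Nat.card K).primeFactorsList.length :=
      Nat.eq_prime_pow_of_unique_prime_dvd Nat.card_pos.ne' fun {d} hd1 hd2 => main d hd1 hd2
    have hd : Nat.card K ∣ 443520 := hc ▸ card_subgroup_dvd_card K
    generalize (Nat.card K).primeFactorsList.length = k at hall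
    rw [hall] at hd hne ⊢
    have hk1 : k ≤ 1 := by
      by_contra hlt
      have := (pow_dvd_pow 5 (show 2 ≤ k by omega)).trans hd
      norm_num at this
    interval_cases k <;> simp_all
  haveI : Fact (Nat.Prime 5) := ⟨by norm_num⟩
  have hs : ∀ S : Sylow 5 G, Nat.card S = 5 := fun S => card_sylow_prime hc (Or.inl rfl) S
  have huniq : Nat.card (Sylow 5 G) = 1 := by
    obtain ⟨S⟩ : Nonempty (Sylow 5 G) := inferInstance
    let SK : Sylow 5 G := Sylow.ofCard K (by rw [h5, ← S.card_eq_multiplicity, hs])
    haveI : (SK : Subgroup G).Normal := by rw [Sylow.coe_ofCard]; infer_instance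
    rw [SK.card_eq_index_normalizer, ← SK.coe_coe, normalizer_eq_top, index_top]
  have hcnt := card_order_eq hs
  rw [huniq] at hcnt
  rcases count_cases' hnse (n := 5) (by omega) with h | h | h <;> omega

theorem isSimpleGroup : IsSimpleGroup G := by
  haveI : Nontrivial G := by
    rw [← Finite.one_lt_card_iff_nontrivial, hc]; norm_num
  refine ⟨fun N hN => or_iff_not_imp_left.2 fun hbot => ?_⟩
  by_contra htop
  haveI := hN
  have h11 : 11 ∣ Nat.card N := by
    by_contra h
    exact hbot (eq_bot_of_not_dvd hc hnse N h)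
  obtain ⟨⟨x, hxN⟩, hx⟩ := exists_prime_orderOf_dvd_card' (G := N) 11 h11
  rw [Subgroup.orderOf_mk] at hx
  obtain ⟨P₀⟩ : Nonempty (Sylow 11 G) := inferInstance
  let P : Sylow 11 G := Sylow.ofCard (zpowers x) (by
    rw [Nat.card_zpowers, hx, ← P₀.card_eq_multiplicity, card_sylow_eleven hc])
  have hPN : (P : Subgroup G) ≤ N := by
    rw [Sylow.coe_ofCard, zpowers_le]; exact hxN
  obtain ⟨hNP, -⟩ := card_normalizer_eleven hc hnse P
  have hPc := card_sylow_eleven hc P
  have hsup : normalizer ((P : Subgroup G) : Set G) ⊔ N = ⊤ := P.normalizer_sup_eq_top' hPN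
  have hidx : N.index = 5 := by
    have h1 : N.relIndex (normalizer ((P : Subgroup G) : Set G)) = N.index := by
      rw [← relIndex_sup_right, hsup, relIndex_top_right]
    have h2 : (P : Subgroup G).relIndex (normalizer ((P : Subgroup G) : Set G)) = 5 := by
      have := relIndex_mul_relIndex ⊥ (P : Subgroup G) (normalizer ((P : Subgroup G) : Set G))
        bot_le le_normalizer
      rw [relIndex_bot_left, relIndex_bot_left, hPc, hNP] at this
      omega
    have h3 := relIndex_dvd_of_le_left (normalizer ((P : Subgroup G) : Set G)) hPN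
    rw [h1, h2] at h3
    exact ((Nat.dvd_prime (by norm_num)).1 h3).resolve_left fun h => htop (index_eq_one.1 h)
  have hcardN : Nat.card N = 88704 := by
    have := card_mul_index N
    rw [hidx, hc] at this
    omega
  -- the Sylow subgroup is self-normalising in `N`
  let S : Sylow 11 N := P.subtype hPN
  have hSc : Nat.card S = 11 := by
    change Nat.card ((P : Subgroup G).subgroupOf N) = 11
    rw [Nat.card_congr (subgroupOfEquivOfLe hPN).toEquiv, hPc]
  have hle : normalizer ((S : Subgroup N) : Set N) ≤ centralizer ((S : Subgroup N) : Set N) := by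
    have hS : normalizer ((S : Subgroup N) : Set N) = (S : Subgroup N) := by
      refine (eq_of_le_of_card_ge le_normalizer ?_).symm
      change Nat.card (normalizer ((P : Subgroup G).subgroupOf N : Set N)) ≤ Nat.card S
      rw [← subgroupOf_normalizer_eq hPN, hSc]
      have hd1 : Nat.card ((normalizer ((P : Subgroup G) : Set G)).subgroupOf N) ∣ 88704 :=
        hcardN ▸ card_subgroup_dvd_card _
      have hd2 : Nat.card ((normalizer ((P : Subgroup G) : Set G)).subgroupOf N) ∣ 55 := by
        rw [← hNP, ← inf_subgroupOf_right, Nat.card_congr (subgroupOfEquivOfLe inf_le_right).toEquiv]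
        exact card_dvd_of_le inf_le_left
      have := Nat.le_of_dvd (by norm_num) (Nat.dvd_gcd hd1 hd2)
      norm_num at this
      exact this
    rw [hS]
    haveI : IsMulCommutative (S : Subgroup N) :=
      have := isCyclic_of_prime_card (p := 11) hSc
      inferInstance
    exact Subgroup.le_centralizer _
  have hcompl := MonoidHom.ker_transferSylow_isComplement' S hle
  set K₀ := (MonoidHom.transferSylow S hle).ker
  have hK₀ : Nat.card K₀ = 8064 := by
    have := hcompl.card_mul
    rw [hSc, hcardN] at this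
    omega
  have hmem : ∀ y : N, y ∈ K₀ ↔ ¬ 11 ∣ orderOf y := by
    intro y
    constructor
    · intro hy h
      have := h.trans (Subgroup.orderOf_dvd_natCard _ hy)
      rw [hK₀] at this
      norm_num at this
    · intro hy
      have h1 : orderOf (QuotientGroup.mk' K₀ y) ∣ 11 := by
        have h : orderOf (QuotientGroup.mk' K₀ y) ∣ Nat.card (N ⧸ K₀) := orderOf_dvd_natCard _
        rwa [← index_eq_card, hcompl.symm.index_eq_card, hSc] at h
      have h2 := orderOf_map_dvd (QuotientGroup.mk' K₀) y
      rcases (Nat.dvd_prime (by norm_num : Nat.Prime 11)).1 h1 with h | h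
      · exact (QuotientGroup.eq_one_iff y).1 (orderOf_eq_one_iff.1 h)
      · exact absurd (h ▸ h2) hy
  haveI : (K₀.map N.subtype).Normal := by
    refine ⟨?_⟩
    rintro _ ⟨y, hy, rfl⟩ g
    refine ⟨⟨g * y * g⁻¹, hN.conj_mem _ y.2 g⟩, (hmem _).2 ?_, rfl⟩
    rw [Subgroup.orderOf_mk, show g * (y : G) * g⁻¹ = MulAut.conj g y from rfl,
      MulEquiv.orderOf_eq, Subgroup.orderOf_coe]
    exact (hmem y).1 hy
  have hKc : Nat.card (K₀.map N.subtype) = 8064 := by
    rw [Subgroup.card_subtype, hK₀]
  have := eq_bot_of_not_dvd hc hnse (K₀.map N.subtype) (by rw [hKc]; norm_num)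
  rw [this, card_bot] at hKc
  norm_num at hKc

end Main

/-- A group with the order and the counts of elements of each order of M22 is simple. -/
theorem isSimpleGroup_of_nse (hcard : Nat.card G = Nat.card ↥Cfsg.Spor.M22)
    (hnse : {c : ℕ | 0 < c ∧ ∃ n : ℕ, c = Nat.card {g : G // orderOf g = n}} =
      {c : ℕ | 0 < c ∧ ∃ n : ℕ, c = Nat.card {g : ↥Cfsg.Spor.M22 // orderOf g = n}}) :
    IsSimpleGroup G :=
  isSimpleGroup (hcard.trans Golay.M22Involution.card_M22) hnse

end Cfsg.Agent.M22Order.Nse
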