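import Cfsg.Agent.Lib.M22Order.Data

/-!
# Integer scans for the simple groups of order 443520
-/

set_option autoImplicit false

namespace Cfsg.Agent.M22Order

/-- Some value vector of the 11-row `M` has a member in the principal `q`-block. -/
def hasCommon (M : List ℤ) (q : ℕ) (Cs : List ℕ) : Bool :=
  Cs.any fun C => !all11 M C (singOK q) fun P => !commonOK q P

/-- Some value vector exists for some centralizer order in `Cs`. -/
def hasVec (M : List ℤ) (Cs : List ℕ) : Bool :=
  Cs.any fun C => !all11 M C (fun _ _ => true) fun _ => false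

/-- The degrees which may occur in the 7-row when `|C(P₇)| ≠ 7`. -/
def cands7 (c : ℕ) (U : List (ℕ × ℤ)) : List ℤ :=
  (candList 7 c).filter fun z => (z % 55 == 0) || U.any fun x => x.1 == z.natAbs

def last7 (C : ℕ) (U : List (ℕ × ℤ)) : Bool :=
  ec7.all fun ec => (rowsIn (cands7 ec.2 U) 7 ec.1 ec.2).all fun L =>
    allV (C - 1) (6 / ec.1) L (fun z => (opts1 C 55 U z).filter fun u => (z - u) % 7 == 0) fun P _ =>
      !csOK C (U ++ fresh 55 P)

def branchI (M : List ℤ) (B5 : List (List ℤ)) : Bool :=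
  B5.all fun L5 => !agree 11 5 (degs 2 M) (degs 1 L5) ||
    (cs7.filter fun C => C % 5 != 0).all fun C => all11 M C (singOK 7) fun P => !commonOK 7 P ||
      allV (C - 1) 1 L5 (fun z => (opts1 C 11 P z).filter (singOK 7 z)) fun P5 Q5 =>
        decide (Q5 < 0) || (Q5 % ((C : ℤ) * C) != 0) || !csOK C (P ++ fresh 11 P5) ||
          last7 C (P ++ fresh 11 P5)

def branchII (M : List ℤ) (B7 : List (List ℤ)) : Bool :=
  B7.all fun L7 => !agree 11 7 (degs 2 M) (degs 2 L7) ||
    (cs5.filter fun C => C % 7 != 0).all fun C => all11 M C (singOK 5) fun P => !commonOK 5 P ||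
      allV (C - 1) 2 L7 (fun z => opts1 C 11 P z) fun _ Q =>
        (Q != 0) || (L7.isPerm [-55, 120] && four.any fun L => M.isPerm L)

def branchIV (M : List ℤ) (B5 B7 : List (List ℤ)) : Bool :=
  B7.all fun L7 => !agree 11 7 (degs 2 M) (degs 2 L7) ||
    B5.all fun L5 => !agree 11 5 (degs 2 M) (degs 1 L5) || !agree 7 5 (degs 2 L7) (degs 1 L5) ||
      cs2.all fun C => all11 M C (fun _ _ => true) fun P =>
        allV (C - 1) 2 L7 (fun z => opts1 C 11 P z) fun P7 Q => (Q != 0) ||
          let U := P ++ fresh 11 P7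
          allV (C - 1) 1 L5 (fun z => opts1 C 77 U z) fun P5 Q5 =>
            decide (Q5 < 0) || (Q5 % ((C : ℤ) * C) != 0) || !csOK C (U ++ fresh 77 P5) ||
              ((C == 384) && (U ++ fresh 77 P5).isPerm target)

end Cfsg.Agent.M22Order
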