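import Cfsg.Agent.Lib.M22Order.Line

/-!
# Simple groups of order 443520: commuting four groups along a Sylow 3-subgroup
-/

set_option autoImplicit false
set_option linter.style.haveILetI false
set_option linter.unusedSectionVars false

namespace Cfsg.Agent.M22Order

open Subgroup
open Cfsg.Agent.M12Order (cen card_fixed_mod)

universe u

variable {G : Type u} [Group G] [Finite G]

theorem not_mem_zpowers_symm {r y : G} (hr : orderOf r = 3) (hy : orderOf y = 3) (h : y ∉ zpowers r) :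
    r ∉ zpowers y := fun hm => h (by
  rw [eq_of_le_of_card_ge (zpowers_le.2 hm) (by rw [Nat.card_zpowers, Nat.card_zpowers, hr, hy])]
  exact mem_zpowers y)

theorem orderOf_three_of_ne {x : G} (h : x ^ 3 = 1) (h1 : x ≠ 1) : orderOf x = 3 :=
  haveI : Fact (Nat.Prime 3) := ⟨Nat.prime_three⟩
  orderOf_eq_prime h h1

/-- Two commuting elements of order three spanning nine elements, inside a subgroup of order nine. -/
theorem nine_cases {r y : G} (hr : orderOf r = 3) (hy : orderOf y = 3) (hry : Commute r y)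
    (hyr : y ∉ zpowers r) {P : Subgroup G} (hP : Nat.card P = 9) (hrP : r ∈ P) (hyP : y ∈ P) {p : G}
    (hp : p ∈ P) (hp1 : p ≠ 1) :
    p = r ∨ p = r⁻¹ ∨ p = y ∨ p = y⁻¹ ∨ p = r * y ∨ p = (r * y)⁻¹ ∨ p = r⁻¹ * y ∨ p = (r⁻¹ * y)⁻¹ := by
  classical
  set f : Fin 3 × Fin 3 → P := fun q => ⟨r ^ (q.1 : ℕ) * y ^ (q.2 : ℕ),
    mul_mem (pow_mem hrP _) (pow_mem hyP _)⟩ with hf
  have hinj : Function.Injective f := by
    rintro ⟨i, j⟩ ⟨i', j'⟩ h
    have h' : r ^ (i : ℕ) * y ^ (j : ℕ) = r ^ (i' : ℕ) * y ^ (j' : ℕ) := congrArg Subtype.val h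
    have hy' : y ^ ((j : ℤ) - j') = r ^ ((i' : ℤ) - i) := by
      rw [zpow_sub, zpow_sub, zpow_natCast, zpow_natCast, zpow_natCast, zpow_natCast,
        eq_mul_inv_iff_mul_eq]
      calc y ^ (j : ℕ) * (y ^ (j' : ℕ))⁻¹ * r ^ (i : ℕ)
          = (r ^ (i : ℕ) * y ^ (j : ℕ)) * (y ^ (j' : ℕ))⁻¹ := by
            rw [mul_assoc, ← ((hry.pow_pow (i : ℕ) (j' : ℕ)).inv_right).eq, ← mul_assoc,
              ← (hry.pow_pow (i : ℕ) (j : ℕ)).eq]
        _ = r ^ (i' : ℕ) := by rw [h', mul_inv_cancel_right]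
    have hj : j = j' := by
      by_contra hne
      refine hyr ?_
      have hm : y ^ ((j : ℤ) - j') ∈ zpowers r := hy' ▸ zpow_mem (mem_zpowers r) _
      have hd : ((j : ℤ) - j') % 3 = 1 ∨ ((j : ℤ) - j') % 3 = 2 := by
        have := Fin.val_ne_of_ne hne
        omega
      have hmod : y ^ ((j : ℤ) - j') = y ^ (((j : ℤ) - j') % 3) := by
        conv_lhs => rw [← zpow_mod_orderOf y _, hy]
        norm_num
      rcases hd with e | e <;> rw [hmod, e] at hm
      · simpa using hm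
      · have : y = (y ^ (2 : ℤ))⁻¹ := by
          refine eq_inv_of_mul_eq_one_left ?_
          rw [zpow_ofNat, ← pow_succ']
          simpa [hy] using pow_orderOf_eq_one y
        rw [this]
        exact inv_mem hm
    subst hj
    rw [sub_self, zpow_zero] at hy'
    have hi : ((i' : ℤ) - i) % 3 = 0 := by
      have := orderOf_dvd_iff_zpow_eq_one.2 hy'.symm
      rw [hr] at this
      omega
    exact Prod.ext (Fin.ext (by show (i : ℕ) = i'; omega)) rfl
  obtain ⟨⟨i, j⟩, hij⟩ := (Nat.bijective_iff_injective_and_card f).2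
    ⟨hinj, by simp [hP]⟩ |>.2 ⟨p, hp⟩
  have hp' : r ^ (i : ℕ) * y ^ (j : ℕ) = p := congrArg Subtype.val hij
  subst hp'
  have hr2 : r ^ 2 = r⁻¹ := eq_inv_of_mul_eq_one_left (by
    rw [← pow_succ]; simpa [hr] using pow_orderOf_eq_one r)
  have hy2 : y ^ 2 = y⁻¹ := eq_inv_of_mul_eq_one_left (by
    rw [← pow_succ]; simpa [hy] using pow_orderOf_eq_one y)
  have e1 : (r * y)⁻¹ = r⁻¹ * y⁻¹ := by rw [hry.eq, mul_inv_rev]
  have e2 : (r⁻¹ * y)⁻¹ = r * y⁻¹ := by rw [(hry.inv_left).eq, mul_inv_rev, inv_inv]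
  fin_cases i <;> fin_cases j <;>
    simp only [hr2, hy2, e1, e2, pow_zero, pow_one, one_mul, mul_one] at hp1 ⊢ <;> tauto

section

variable [IsSimpleGroup G] (hcard : Nat.card G = 443520) {t r : G} {R : Subgroup G}
  (ht : orderOf t = 2) (hR : Core t R) (hr : orderOf r = 3) (hrt : Commute r t)
  {P : Subgroup G} (hP : Nat.card P = 9) (hrP : r ∈ P) (hPc : ∀ a ∈ P, ∀ b ∈ P, Commute a b)

include hcard ht hR hr hrt hP hrP hPc

local notation "R₀" => R ⊓ centralizer ((fourGroup r : Subgroup G) : Set G)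

theorem conj_mem_R0 {a x : G} (ha : Commute a r) (hx : x ∈ R₀) : a * x * a⁻¹ ∈ R₀ := by
  set K := R₀
  have hna := commute_normalizes hcard ht hR hr hrt ha
  have hK : K.map (MulAut.conj a).toMonoidHom ≤ R := by
    refine hR.absorb r hr hrt _ ?_ ?_ ?_
    · rintro _ ⟨z, hz, rfl⟩
      exact centralizer_four_le hcard ht hR hr hrt
        (conj_mem_centralizer_four hcard ht hR hr hrt hna (mem_inf.1 hz).2)
    · exact (isPGroup_core hcard ht hR hr hrt inf_le_left).map _
    · rintro _ ⟨z, hz, rfl⟩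
      refine ⟨r * z * r⁻¹, mem_inf.2 ⟨hR.conj r hrt z (mem_inf.1 hz).1,
        conj_mem_centralizer_four hcard ht hR hr hrt
          (commute_normalizes hcard ht hR hr hrt rfl) (mem_inf.1 hz).2⟩, ?_⟩
      show a * (r * z * r⁻¹) * a⁻¹ = r * (a * z * a⁻¹) * r⁻¹
      calc a * (r * z * r⁻¹) * a⁻¹ = (a * r) * z * (a * r)⁻¹ := by group
        _ = (r * a) * z * (r * a)⁻¹ := by rw [ha.eq]
        _ = _ := by group
  exact mem_inf.2 ⟨hK ⟨x, hx, rfl⟩, conj_mem_centralizer_four hcard ht hR hr hrt hna (mem_inf.1 hx).2⟩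

theorem eq_one_of_mem_two {a x : G} (ha : a ∈ P) (har : a ∉ zpowers r) (hx : x ∈ fourGroup r)
    (hxa : Commute x a) : x = 1 := by
  by_contra hx1
  obtain ⟨hx2, hrx⟩ := four_involution hcard hr hx hx1
  exact har (mem_zpowers_of_commute hcard hr hx2 hrx hP hrP (fun b hb => hPc b hb r hrP) ha hxa.symm)

theorem four_inf_four {a : G} (ha : a ∈ P) (har : a ∉ zpowers r) :
    fourGroup r ⊓ fourGroup a = ⊥ := (eq_bot_iff_forall _).2 fun x hx =>
  eq_one_of_mem_two hcard ht hR hr hrt hP hrP hPc ha har (mem_inf.1 hx).1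
    (mem_centralizer_singleton_iff.1 (four_le a (mem_inf.1 hx).2))

/-- The points of `R₀` fixed by `a`. -/
theorem fixed_cases {a : G} (ha : a ∈ P) (ha3 : orderOf a = 3) (har : a ∉ zpowers r) :
    (Com r a ∧ fourGroup a ≤ R₀) ∨ (¬ Com r a ∧ ∀ x ∈ R₀, Commute x a → x = 1) := by
  classical
  haveI : Fact (Nat.Prime 3) := ⟨Nat.prime_three⟩
  have hra : Commute r a := hPc r hrP a ha
  have hrD : r ∈ normalizer (fourGroup a : Set G) := mem_normalizer_of_conj fun x hx => by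
    have := conj_mem_four r hx
    rwa [hra.eq, mul_inv_cancel_right] at this
  by_cases hcom : Com r a
  · refine Or.inl ⟨hcom, le_inf ?_ fun x hx => mem_centralizer_iff.2 fun z hz => hcom z hz x hx⟩
    refine hR.absorb r hr hrt _ (fun x hx => mem_centralizer_singleton_iff.2
      (hcom t (t_mem_four hcard ht hR hr hrt) x hx).symm.eq) ?_ fun x hx =>
        conj_mem_of_mem_normalizer hrD hx
    exact IsPGroup.of_card (p := 2) (n := 2) (exists_four hcard ha3).1
  · refine Or.inr ⟨hcom, ?_⟩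
    set S := R₀ ⊓ fourGroup a with hS
    have hrS : r ∈ normalizer (S : Set G) := mem_normalizer_of_conj fun x hx => mem_inf.2
      ⟨conj_mem_R0 hcard ht hR hr hrt hP hrP hPc rfl (mem_inf.1 hx).1,
        conj_mem_of_mem_normalizer hrD (mem_inf.1 hx).2⟩
    have hfix : S ⊓ centralizer ({r} : Set G) = ⊥ := le_bot_iff.1 (by
      rw [← four_inf_four hcard ht hR hr hrt hP hrP hPc ha har]
      exact le_inf (inf_centralizer_le hcard ht hR hr hrt (inf_le_left.trans inf_le_left))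
        (inf_le_left.trans inf_le_right))
    have h := card_fixed_mod hr S hrS
    rw [hfix, card_bot] at h
    have hd : Nat.card S ∣ 4 := (exists_four hcard ha3).1 ▸ card_dvd_of_le inf_le_right
    have hle := Nat.le_of_dvd (by norm_num) hd
    have hne : Nat.card S ≠ 4 := fun e => hcom fun z hz x hx => by
      have hxS : x ∈ S := (SetLike.ext_iff.1 (eq_of_le_of_card_ge (inf_le_right : S ≤ fourGroup a)
        (by rw [e, (exists_four hcard ha3).1])) x).2 hx
      exact mem_centralizer_iff.1 (mem_inf.1 (mem_inf.1 hxS).1).2 z hz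
    have h1 : Nat.card S = 1 := by
      rcases (show Nat.card S = 1 ∨ Nat.card S = 2 ∨ Nat.card S = 4 by
        obtain ⟨k, hk, e⟩ := (Nat.dvd_prime_pow Nat.prime_two (m := 2)).1 hd
        interval_cases k <;> omega) with e | e | e
      · exact e
      · omega
      · exact absurd e hne
    intro x hx hxa
    refine mem_bot.1 (eq_bot_of_card_eq _ h1 ▸ mem_inf.2 ⟨hx, ?_⟩)
    refine four_absorb hcard ha3 (T := zpowers x) (zpowers_le.2 (mem_centralizer_singleton_iff.2 hxa))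
      (isPGroup_core hcard ht hR hr hrt (zpowers_le.2 (mem_inf.1 hx).1)) (mem_zpowers x)

theorem ncard_fixed {a : G} (ha : a ∈ P) (ha3 : orderOf a = 3) (har : a ∉ zpowers r) :
    (Com r a ∧ {x : G | x ∈ R₀ ∧ x ≠ 1 ∧ Commute x a}.ncard = 3) ∨
      (¬ Com r a ∧ {x : G | x ∈ R₀ ∧ x ≠ 1 ∧ Commute x a}.ncard = 0) := by
  rcases fixed_cases hcard ht hR hr hrt hP hrP hPc ha ha3 har with ⟨h, hle⟩ | ⟨h, h1⟩
  · refine Or.inl ⟨h, ?_⟩
    have heq : {x : G | x ∈ R₀ ∧ x ≠ 1 ∧ Commute x a} = (fourGroup a : Set G) \ {1} := by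
      ext x
      simp only [Set.mem_setOf_eq, Set.mem_sdiff, Set.mem_singleton_iff, SetLike.mem_coe]
      constructor
      · rintro ⟨hx, hx1, hxa⟩
        exact ⟨four_absorb hcard ha3 (T := zpowers x)
          (zpowers_le.2 (mem_centralizer_singleton_iff.2 hxa))
          (isPGroup_core hcard ht hR hr hrt (zpowers_le.2 (mem_inf.1 hx).1)) (mem_zpowers x), hx1⟩
      · rintro ⟨hx, hx1⟩
        exact ⟨hle hx, hx1, mem_centralizer_singleton_iff.1 (four_le a hx)⟩
    rw [heq, Set.ncard_sdiff_singleton_of_mem (one_mem _), ← Nat.card_coe_set_eq]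
    exact congrArg (· - 1) (exists_four hcard ha3).1
  · refine Or.inr ⟨h, (Set.ncard_eq_zero).2 (Set.eq_empty_iff_forall_notMem.2 ?_)⟩
    rintro x ⟨hx, hx1, hxa⟩
    exact hx1 (h1 x hx hxa)

theorem ncard_free :
    9 ∣ {x : G | x ∈ R₀ ∧ ∀ p ∈ P, p ≠ 1 → ¬ Commute x p}.ncard := by
  rw [← hP]
  refine dvd_card_of_free_conj P _ ?_ ?_
  · rintro p hp x ⟨hx, hfree⟩
    refine ⟨conj_mem_R0 hcard ht hR hr hrt hP hrP hPc (hPc p hp r hrP) hx, fun q hq hq1 hc => hfree q hq hq1 ?_⟩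
    have h := commute_conj p⁻¹ hc
    have e1 : p⁻¹ * (p * x * p⁻¹) * p⁻¹⁻¹ = x := by group
    have e2 : p⁻¹ * q * p⁻¹⁻¹ = q := by
      rw [inv_inv, mul_assoc, (hPc q hq p hp).eq, inv_mul_cancel_left]
    rwa [e1, e2] at h
  · rintro p hp x ⟨-, hfree⟩ hfix
    by_contra hp1
    exact hfree p hp hp1 (mul_inv_eq_iff_eq_mul.1 hfix).symm

theorem ncard_four : ((fourGroup r : Subgroup G) : Set G).ncard = 4 := by
  rw [← Nat.card_coe_set_eq]; exact (exists_four hcard hr).1

theorem mem_four_of_commute {x : G} (hx : x ∈ R₀) (hxr : Commute x r) : x ∈ fourGroup r :=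
  inf_centralizer_le hcard ht hR hr hrt (inf_le_left : R₀ ≤ R)
    (mem_inf.2 ⟨hx, mem_centralizer_singleton_iff.2 hxr⟩)

theorem four_le_R0 : fourGroup r ≤ R₀ :=
  le_inf (four_le_core hcard ht hR hr hrt) fun _ hx => mem_centralizer_iff.2 fun _ hz =>
    four_comm hcard hr hz hx

/-- There is an element of order three outside `⟨r⟩`: the Sylow subgroup is elementary. -/
theorem exists_second : ∃ y ∈ P, orderOf y = 3 ∧ y ∉ zpowers r := by
  classical
  by_contra hcon
  push Not at hcon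
  have heq : {x : G | x ∈ R₀ ∧ ∀ p ∈ P, p ≠ 1 → ¬ Commute x p} =
      ((R₀ : Subgroup G) : Set G) \ (fourGroup r : Set G) := by
    ext x
    simp only [Set.mem_setOf_eq, Set.mem_sdiff, SetLike.mem_coe]
    constructor
    · rintro ⟨hx, hf⟩
      refine ⟨hx, fun hD => hf r hrP (fun e => by rw [e, orderOf_one] at hr; omega) ?_⟩
      exact mem_centralizer_singleton_iff.1 (four_le r hD)
    · rintro ⟨hx, hD⟩
      refine ⟨hx, fun p hp hp1 hc => hD (mem_four_of_commute hcard ht hR hr hrt hP hrP hPc hx ?_)⟩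
      haveI : Fact (Nat.Prime 3) := ⟨Nat.prime_three⟩
      have hd : orderOf p ∣ 3 ^ 2 := by
        have := orderOf_dvd_natCard (⟨p, hp⟩ : P)
        rwa [Subgroup.orderOf_mk, hP] at this
      obtain ⟨k, hk, e⟩ := (Nat.dvd_prime_pow Nat.prime_three).1 hd
      obtain ⟨q, hq, hqc⟩ : ∃ q : G, (q ∈ P ∧ orderOf q = 3) ∧ Commute x q := by
        interval_cases k
        · exact absurd (orderOf_eq_one_iff.1 (by simpa using e)) hp1
        · exact ⟨p, ⟨hp, by simpa using e⟩, hc⟩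
        · exact ⟨p ^ 3, ⟨pow_mem hp 3, by rw [orderOf_pow, e]; rfl⟩, hc.pow_right 3⟩
      have hqz := hcon q hq.1 hq.2
      have : zpowers q = zpowers r := eq_of_le_of_card_ge (zpowers_le.2 hqz)
        (by rw [Nat.card_zpowers, Nat.card_zpowers, hr, hq.2])
      obtain ⟨n, hn⟩ := mem_zpowers_iff.1 (this.symm ▸ mem_zpowers r : r ∈ zpowers q)
      exact hn ▸ hqc.zpow_right n
  have h := ncard_free hcard ht hR hr hrt hP hrP hPc
  rw [heq, Set.ncard_sdiff (SetLike.coe_subset_coe.2 (four_le_R0 hcard ht hR hr hrt hP hrP hPc)),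
    ncard_four hcard ht hR hr hrt hP hrP hPc, ← Nat.card_coe_set_eq] at h
  rcases card_R0 hcard ht hR hr hrt with e | e <;>
  · rw [show Nat.card ((R₀ : Subgroup G) : Set G) = _ from e] at h
    omega

/-- The count: exactly one commuting four group, or exactly two when the centralizer is large. -/
theorem count_cases {y : G} (hy : orderOf y = 3) (hyP : y ∈ P) (hyr : y ∉ zpowers r) :
    (Big r → (Com r y ∧ Com r (r * y) ∧ ¬ Com r (r⁻¹ * y)) ∨
      (Com r y ∧ ¬ Com r (r * y) ∧ Com r (r⁻¹ * y)) ∨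
      (¬ Com r y ∧ Com r (r * y) ∧ Com r (r⁻¹ * y))) ∧
    (¬ Big r → (Com r y ∧ ¬ Com r (r * y) ∧ ¬ Com r (r⁻¹ * y)) ∨
      (¬ Com r y ∧ Com r (r * y) ∧ ¬ Com r (r⁻¹ * y)) ∨
      (¬ Com r y ∧ ¬ Com r (r * y) ∧ Com r (r⁻¹ * y))) := by
  classical
  have hry : Commute r y := hPc r hrP y hyP
  set b := r * y with hbdef
  set c := r⁻¹ * y with hcdef
  have hbP : b ∈ P := mul_mem hrP hyP
  have hcP : c ∈ P := mul_mem (inv_mem hrP) hyP
  have hbr : b ∉ zpowers r := fun h => hyr (by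
    have := mul_mem (inv_mem (mem_zpowers r)) h
    simpa [hbdef] using this)
  have hcr : c ∉ zpowers r := fun h => hyr (by
    have := mul_mem (mem_zpowers r) h
    simpa [hcdef] using this)
  have h3 : ∀ z : G, orderOf z = 3 → z ^ 3 = 1 := fun z hz => hz ▸ pow_orderOf_eq_one z
  have hb3 : orderOf b = 3 := orderOf_three_of_ne
    (by rw [hbdef, hry.mul_pow, h3 r hr, h3 y hy, one_mul]) fun e => hbr (e ▸ one_mem _)
  have hc3 : orderOf c = 3 := orderOf_three_of_ne
    (by rw [hcdef, hry.inv_left.mul_pow, inv_pow, h3 r hr, h3 y hy, inv_one, one_mul])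
      fun e => hcr (e ▸ one_mem _)
  set S : G → Set G := fun a => {x : G | x ∈ R₀ ∧ x ≠ 1 ∧ Commute x a} with hS
  set X := {x : G | x ∈ R₀ ∧ ∀ p ∈ P, p ≠ 1 → ¬ Commute x p} with hX
  have hr1 : r ≠ 1 := fun e => by rw [e, orderOf_one] at hr; omega
  -- the partition
  have hdec : ((R₀ : Subgroup G) : Set G) \ (fourGroup r : Set G) = S y ∪ S b ∪ S c ∪ X := by
    ext x
    simp only [hS, hX, Set.mem_sdiff, SetLike.mem_coe, Set.mem_union, Set.mem_setOf_eq]
    constructor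
    · rintro ⟨hx, hxD⟩
      have hx1 : x ≠ 1 := fun e => hxD (e ▸ one_mem _)
      by_cases hfix : ∀ p ∈ P, p ≠ 1 → ¬ Commute x p
      · exact Or.inr ⟨hx, hfix⟩
      · push Not at hfix
        obtain ⟨p, hp, hp1, hc⟩ := hfix
        rcases nine_cases hr hy hry hyr hP hrP hyP hp hp1 with
          e | e | e | e | e | e | e | e <;> subst e
        · exact absurd (mem_four_of_commute hcard ht hR hr hrt hP hrP hPc hx hc) hxD
        · exact absurd (mem_four_of_commute hcard ht hR hr hrt hP hrP hPc hx (by simpa using hc.inv_right)) hxD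
        · exact Or.inl (Or.inl (Or.inl ⟨hx, hx1, hc⟩))
        · exact Or.inl (Or.inl (Or.inl ⟨hx, hx1, by simpa using hc.inv_right⟩))
        · exact Or.inl (Or.inl (Or.inr ⟨hx, hx1, hc⟩))
        · exact Or.inl (Or.inl (Or.inr ⟨hx, hx1, by simpa using hc.inv_right⟩))
        · exact Or.inl (Or.inr ⟨hx, hx1, hc⟩)
        · exact Or.inl (Or.inr ⟨hx, hx1, by simpa using hc.inv_right⟩)
    · intro h
      have key : ∀ a ∈ P, a ∉ zpowers r → x ∈ R₀ → x ≠ 1 → Commute x a → x ∉ fourGroup r :=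
        fun a ha har _ hx1 hxa hxD => hx1 (eq_one_of_mem_two hcard ht hR hr hrt hP hrP hPc ha har hxD hxa)
      rcases h with ((⟨hx, hx1, hc⟩ | ⟨hx, hx1, hc⟩) | ⟨hx, hx1, hc⟩) | ⟨hx, hf⟩
      · exact ⟨hx, key y hyP hyr hx hx1 hc⟩
      · exact ⟨hx, key b hbP hbr hx hx1 hc⟩
      · exact ⟨hx, key c hcP hcr hx hx1 hc⟩
      · exact ⟨hx, fun hD => hf r hrP hr1 (mem_centralizer_singleton_iff.1 (four_le r hD))⟩
  -- pairwise disjoint
  have two : ∀ x : G, x ∈ R₀ → x ≠ 1 → Commute x r → Commute x y → False := fun x hx hx1 h h' =>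
    hx1 (eq_one_of_mem_two hcard ht hR hr hrt hP hrP hPc hyP hyr
      (mem_four_of_commute hcard ht hR hr hrt hP hrP hPc hx h) h')
  have hd1 : Disjoint (S y) (S b) := Set.disjoint_left.2 fun x ⟨hx, hx1, h⟩ ⟨_, _, h'⟩ =>
    two x hx hx1 (by have := h'.mul_right h.inv_right; simpa [hbdef] using this) h
  have hd2 : Disjoint (S y ∪ S b) (S c) := Set.disjoint_left.2 fun x h' ⟨hx, hx1, h⟩ => by
    rcases h' with ⟨-, -, h'⟩ | ⟨-, -, h'⟩
    · refine two x hx hx1 ?_ h'
      have := (h.mul_right h'.inv_right).inv_right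
      simpa [hcdef] using this
    · have h2 : Commute x (r * r) := by
        have := h'.mul_right h.inv_right
        simpa [hbdef, hcdef, mul_assoc] using this
      have hr' : Commute x r := by
        have h4 := h2.mul_right h2
        rwa [show r * r * (r * r) = r ^ 3 * r by simp [pow_succ, mul_assoc], h3 r hr, one_mul] at h4
      refine two x hx hx1 hr' ?_
      have := hr'.inv_right.mul_right h'
      simpa [hbdef] using this
  have hd3 : Disjoint (S y ∪ S b ∪ S c) X := Set.disjoint_left.2 fun x h' ⟨_, hf⟩ => by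
    have ne : ∀ a : G, orderOf a = 3 → a ≠ 1 := fun a ha e => by rw [e, orderOf_one] at ha; omega
    rcases h' with (⟨-, -, h'⟩ | ⟨-, -, h'⟩) | ⟨-, -, h'⟩
    · exact hf y hyP (ne y hy) h'
    · exact hf b hbP (ne b hb3) h'
    · exact hf c hcP (ne c hc3) h'
  have hsum := congrArg Set.ncard hdec
  rw [Set.ncard_union_eq hd3, Set.ncard_union_eq hd2, Set.ncard_union_eq hd1,
    Set.ncard_sdiff (SetLike.coe_subset_coe.2 (four_le_R0 hcard ht hR hr hrt hP hrP hPc)),
    ncard_four hcard ht hR hr hrt hP hrP hPc, ← Nat.card_coe_set_eq] at hsum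
  have h9 : 9 ∣ X.ncard := ncard_free hcard ht hR hr hrt hP hrP hPc
  have ea : (Com r y ∧ (S y).ncard = 3) ∨ (¬ Com r y ∧ (S y).ncard = 0) :=
    ncard_fixed hcard ht hR hr hrt hP hrP hPc hyP hy hyr
  have eb : (Com r b ∧ (S b).ncard = 3) ∨ (¬ Com r b ∧ (S b).ncard = 0) :=
    ncard_fixed hcard ht hR hr hrt hP hrP hPc hbP hb3 hbr
  have ec : (Com r c ∧ (S c).ncard = 3) ∨ (¬ Com r c ∧ (S c).ncard = 0) :=
    ncard_fixed hcard ht hR hr hrt hP hrP hPc hcP hc3 hcr
  have hbig : Big r ↔ Nat.card (R₀ : Subgroup G) = 64 := big_iff hcard ht hR hr hrt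
  have h1664 := card_R0 hcard ht hR hr hrt
  simp only [SetLike.coe_sort_coe] at hsum
  rcases ea with ⟨a1, a2⟩ | ⟨a1, a2⟩ <;> rcases eb with ⟨b1, b2⟩ | ⟨b1, b2⟩ <;>
    rcases ec with ⟨c1, c2⟩ | ⟨c1, c2⟩ <;> rw [a2, b2, c2] at hsum <;>
    refine ⟨fun hb => ?_, fun hb => ?_⟩ <;> rw [hbig] at hb <;>
    first
      | (exfalso; omega)
      | tauto

end

end Cfsg.Agent.M22Order
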