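import Cfsg.Agent.Lib.M22Order.Chars

/-!
# Simple groups of order 443520: elements of order three
-/

set_option autoImplicit false
set_option linter.style.haveILetI false
set_option linter.unusedSectionVars false

namespace Cfsg.Agent.M22Order

open Subgroup
open Cfsg.Agent.Characters Cfsg.Agent.Blocks Cfsg.Agent.PrimeBlock
open Cfsg.Agent.SmallSimple
open Cfsg.Agent.M12Order (cen cls iv iv_spec cong_int)
open scoped ComplexConjugate

universe u

/-- The order of the centralizer, in terms of two values. -/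
def colNorm (a g : ℤ) : ℤ :=
  2 + a * a + g * g + 3 * ((1 - a + g) * (1 - a + g)) + (g - 2 * a) * (g - 2 * a) +
    (3 * a - 3 * g - 2) * (3 * a - 3 * g - 2)

/-- The inner product of two such columns. -/
def colProd (a g a' g' : ℤ) : ℤ :=
  2 + a * a' + g * g' + 3 * ((1 - a + g) * (1 - a' + g')) + (g - 2 * a) * (g' - 2 * a') +
    (3 * a - 3 * g - 2) * (3 * a' - 3 * g' - 2)

theorem colNorm_scan : ∀ i ∈ (List.range 23).map (fun i : ℕ => 3 * ((i : ℤ) - 11)),
    ∀ j ∈ (List.range 23).map (fun i : ℕ => 3 * ((i : ℤ) - 11)),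
      colNorm i j ∈ ([9, 18, 36, 72, 144, 288, 576, 1152] : List ℤ) →
        (i, j) ∈ ([(0, 0), (3, 3), (-3, -3)] : List (ℤ × ℤ)) := by
  decide +kernel

theorem colNorm_six : ∀ i ∈ ([-4, -3, -2, -1, 0, 1, 2, 3, 4] : List ℤ),
    ∀ j ∈ ([-4, -3, -2, -1, 0, 1, 2, 3, 4] : List ℤ), i % 3 = 2 → j % 3 = 2 →
      colNorm i j ≤ 12 → colNorm i j = 12 := by
  decide +kernel

theorem colProd_ne : ∀ x ∈ ([(0, 0), (3, 3), (-3, -3)] : List (ℤ × ℤ)),
    ∀ y ∈ ([(0, 0), (3, 3), (-3, -3)] : List (ℤ × ℤ)), colProd x.1 x.2 y.1 y.2 ≠ 0 := by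
  decide +kernel

theorem div_1152 : (divs.all fun C => (C % 9 != 0) || (C % 5 == 0) || (C % 7 == 0) || (C % 11 == 0) ||
    ([9, 18, 36, 72, 144, 288, 576, 1152] : List ℕ).contains C) = true := by decide +kernel

variable {G : Type u} [Group G] [Finite G]

set_option maxHeartbeats 800000

/-- The members of a row of a prime for which `|C(P)| = p`. -/
theorem Chars.row_mem (T : Chars G) {p : ℕ} [Fact p.Prime] {P : Sylow p G} {D : PBlock P} (R : PRow D)
    (hC : Nat.card (centralizer ((P : Subgroup G) : Set G)) = p) {χ : Cfsg.IrrCharacter G}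
    (hd1 : deg χ ≠ 1) (hd : ¬ p ∣ deg χ) : χ ∈ R.all :=
  R.mem_all_of_not_dvd hC (Chars.ne_triv_of_deg hd1) hd

theorem perm_of_mem {α : Type*} {l m : List α} (hl : l.Nodup) (hm : m.Nodup)
    (h : ∀ x, x ∈ l ↔ x ∈ m) : l.Perm m :=
  (List.perm_ext_iff_of_nodup hl hm).2 h

section

variable [IsSimpleGroup G] (hcard : Nat.card G = 443520) (T : Chars G)

include hcard

theorem Chars.mem_deg_cases {χ : Cfsg.IrrCharacter G} (hne : χ ≠ trivIrr G) :
    χ ∈ [T.a, T.b, T.b', T.c, T.d, T.e, T.g, T.h, T.k, T.k', T.w] := by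
  have := T.all_mem χ
  simp only [List.mem_cons, List.not_mem_nil, or_false] at this ⊢
  exact this.resolve_left hne

/-- The relation of the 11-block. -/
theorem Chars.rel_eleven {x : G} (hx : ¬ 11 ∣ orderOf x) :
    (T.k : G → ℂ) x = 1 - (T.a : G → ℂ) x + (T.b : G → ℂ) x + (T.b' : G → ℂ) x + (T.g : G → ℂ) x ∧
    (T.k' : G → ℂ) x = (T.k : G → ℂ) x := by
  classical
  obtain ⟨P⟩ : Nonempty (Sylow 11 G) := inferInstance
  obtain ⟨D, ht, hts⟩ := exists_pblock' (not_comm hcard) (by norm_num) P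
    (card_sylow hcard (Or.inr (Or.inr rfl)) P)
  obtain ⟨he, hC, -⟩ := sylow_eleven hcard P D ht hts
  obtain ⟨R⟩ := exists_prow' ht hts
  have hall : ∀ χ, χ ∈ R.all ↔ χ ∈ [T.a, T.b, T.b', T.g, T.k, T.k'] := by
    intro χ
    constructor
    · intro h
      have h1 := T.mem_deg_cases hcard (R.ne_triv h)
      have h2 := R.not_dvd_deg h
      simp only [List.mem_cons, List.not_mem_nil, or_false] at h1 ⊢
      rcases h1 with e | e | e | e | e | e | e | e | e | e | e <;> subst e
      all_goals first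
        | (simp only [true_or, or_true]; done)
        | (norm_num [T.dc, T.dd, T.de, T.dh, T.dw] at h2; done)
    · intro h
      simp only [List.mem_cons, List.not_mem_nil, or_false] at h
      rcases h with e | e | e | e | e | e <;> subst e <;>
        refine T.row_mem R hC ?_ ?_ <;>
        norm_num [T.da, T.db, T.db', T.dg, T.dk, T.dk']
  have hys : ∀ θ ∈ R.ys, deg θ = 280 ∧ R.δ = 1 := by
    intro θ hθ
    have h1 := (hall θ).1 (List.mem_append_right _ hθ)
    have h2 := R.cong_ys θ hθ
    rw [he] at h2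
    simp only [List.mem_cons, List.not_mem_nil, or_false] at h1
    rcases h1 with e | e | e | e | e | e <;> subst e <;> rcases R.δ_eq with d | d <;>
      first
        | (norm_num [d, T.da, T.db, T.db', T.dg, T.dk, T.dk'] at h2; done)
        | norm_num [d, T.da, T.db, T.db', T.dg, T.dk, T.dk']
  have hcs280 : ∀ χ ∈ R.cs, deg χ ≠ 280 := by
    intro χ hχ e
    have h := R.cong_cs χ hχ
    rcases R.w_eq χ hχ with d | d <;> rw [d, e] at h <;> norm_num at h
  have hnd : [T.a, T.b, T.b', T.g].Nodup :=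
    T.nodup.sublist (.cons _ (.cons_cons _ (.cons_cons _ (.cons_cons _ (.cons _ (.cons _ (.cons _ (.cons_cons _ (List.nil_sublist _)))))))))
  have hcs : R.cs.Perm [T.a, T.b, T.b', T.g] := by
    refine perm_of_mem (List.nodup_append.1 R.nodup).1
      hnd fun χ => ?_
    constructor
    · intro h
      have h1 := (hall χ).1 (List.mem_append_left _ h)
      have h2 := hcs280 χ h
      simp only [List.mem_cons, List.not_mem_nil, or_false] at h1 ⊢
      rcases h1 with e | e | e | e | e | e <;> subst e <;> first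
        | (simp only [true_or, or_true]; done)
        | exact absurd T.dk h2
        | exact absurd T.dk' h2
    · intro h
      simp only [List.mem_cons, List.not_mem_nil, or_false] at h
      rcases List.mem_append.1 ((hall χ).2 (by
        simp only [List.mem_cons, List.not_mem_nil, or_false]; tauto)) with h' | h'
      · exact h'
      · have := (hys χ h').1
        rcases h with e | e | e | e <;> subst e <;> simp only [T.da, T.db, T.db', T.dg] at this <;> omega
  have hk : ∀ χ : Cfsg.IrrCharacter G, deg χ = 280 → χ ∈ R.ys := by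
    intro χ hd
    have h : χ ∈ R.all := T.row_mem R hC (by rw [hd]; norm_num) (by rw [hd]; norm_num)
    exact (List.mem_append.1 h).resolve_left fun h' => hcs280 χ h' hd
  have hw : ∀ χ ∈ R.cs, R.w χ = if deg χ = 21 then -1 else 1 := by
    intro χ hχ
    have h := R.cong_cs χ hχ
    have h1 := hcs.subset hχ
    simp only [List.mem_cons, List.not_mem_nil, or_false] at h1
    rcases h1 with e | e | e | e <;> subst e <;> rcases R.w_eq _ hχ with d | d <;>
      first
        | (norm_num [d, T.da, T.db, T.db', T.dg] at h; done)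
        | norm_num [d, T.da, T.db, T.db', T.dg]
  have hval : ∀ θ ∈ R.ys, (θ : G → ℂ) x =
      1 - (T.a : G → ℂ) x + (T.b : G → ℂ) x + (T.b' : G → ℂ) x + (T.g : G → ℂ) x := by
    intro θ hθ
    have h := R.relC θ hθ x hx
    rw [(hys θ hθ).2, List.map_congr_left
      (g := fun χ => ((if deg χ = 21 then -1 else 1 : ℤ) : ℂ) * (χ : G → ℂ) x) fun χ hχ => by
        rw [hw χ hχ], (hcs.map _).sum_eq] at h
    simp only [List.map_cons, List.map_nil, List.sum_cons, List.sum_nil, T.da, T.db, T.db', T.dg] at h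
    push_cast at h
    norm_num at h
    linear_combination h
  exact ⟨hval _ (hk _ T.dk), (hval _ (hk _ T.dk')).trans (hval _ (hk _ T.dk)).symm⟩

/-- The relation of the 7-block. -/
theorem Chars.rel_seven {x : G} (hx : ¬ 7 ∣ orderOf x) :
    (T.b : G → ℂ) x = 1 - (T.c : G → ℂ) x + (T.d : G → ℂ) x := by
  classical
  obtain ⟨P⟩ : Nonempty (Sylow 7 G) := inferInstance
  obtain ⟨D, ht, hts⟩ := exists_pblock' (not_comm hcard) (by norm_num) P
    (card_sylow hcard (Or.inr (Or.inl rfl)) P)
  have hC := card_seven hcard P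
  have he : D.e = 3 := by
    rcases sylow_seven hcard P D ht hts with ⟨h, -, -⟩ | ⟨c, hc, h, -⟩
    · exact h
    · rw [hC] at h
      simp only [ec7, List.mem_cons, List.not_mem_nil, or_false, Prod.mk.injEq] at hc
      omega
  obtain ⟨R⟩ := exists_prow' ht hts
  have hall : ∀ χ, χ ∈ R.all ↔ χ ∈ [T.b, T.b', T.c, T.d] := by
    intro χ
    constructor
    · intro h
      have h1 := T.mem_deg_cases hcard (R.ne_triv h)
      have h2 := R.not_dvd_deg h
      simp only [List.mem_cons, List.not_mem_nil, or_false] at h1 ⊢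
      rcases h1 with e | e | e | e | e | e | e | e | e | e | e <;> subst e
      all_goals first
        | (simp only [true_or, or_true]; done)
        | (norm_num [T.da, T.de, T.dg, T.dh, T.dk, T.dk', T.dw] at h2; done)
    · intro h
      simp only [List.mem_cons, List.not_mem_nil, or_false] at h
      rcases h with e | e | e | e <;> subst e <;>
        refine T.row_mem R hC ?_ ?_ <;>
        norm_num [T.db, T.db', T.dc, T.dd]
  have hys : ∀ θ ∈ R.ys, deg θ = 45 ∧ R.δ = 1 := by
    intro θ hθ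
    have h1 := (hall θ).1 (List.mem_append_right _ hθ)
    have h2 := R.cong_ys θ hθ
    rw [he] at h2
    simp only [List.mem_cons, List.not_mem_nil, or_false] at h1
    rcases h1 with e | e | e | e <;> subst e <;> rcases R.δ_eq with d | d <;>
      first
        | (norm_num [d, T.db, T.db', T.dc, T.dd] at h2; done)
        | norm_num [d, T.db, T.db', T.dc, T.dd]
  have hcs45 : ∀ χ ∈ R.cs, deg χ ≠ 45 := by
    intro χ hχ e
    have h := R.cong_cs χ hχ
    rcases R.w_eq χ hχ with d | d <;> rw [d, e] at h <;> norm_num at h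
  have hnd : [T.c, T.d].Nodup := T.nodup.sublist (.cons _ (.cons _ (.cons _ (.cons _ (.cons_cons _ (.cons_cons _ (List.nil_sublist _)))))))
  have hcs : R.cs.Perm [T.c, T.d] := by
    refine perm_of_mem (List.nodup_append.1 R.nodup).1 hnd fun χ => ?_
    constructor
    · intro h
      have h1 := (hall χ).1 (List.mem_append_left _ h)
      have h2 := hcs45 χ h
      simp only [List.mem_cons, List.not_mem_nil, or_false] at h1 ⊢
      rcases h1 with e | e | e | e <;> subst e <;> first
        | (simp only [true_or, or_true]; done)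
        | exact absurd T.db h2
        | exact absurd T.db' h2
    · intro h
      simp only [List.mem_cons, List.not_mem_nil, or_false] at h
      rcases List.mem_append.1 ((hall χ).2 (by
        simp only [List.mem_cons, List.not_mem_nil, or_false]; tauto)) with h' | h'
      · exact h'
      · have := (hys χ h').1
        rcases h with e | e <;> subst e <;> simp only [T.dc, T.dd] at this <;> omega
  have hw : ∀ χ ∈ R.cs, R.w χ = if deg χ = 55 then -1 else 1 := by
    intro χ hχ
    have h := R.cong_cs χ hχ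
    have h1 := hcs.subset hχ
    simp only [List.mem_cons, List.not_mem_nil, or_false] at h1
    rcases h1 with e | e <;> subst e <;> rcases R.w_eq _ hχ with d | d <;>
      first
        | (norm_num [d, T.dc, T.dd] at h; done)
        | norm_num [d, T.dc, T.dd]
  have hb : T.b ∈ R.ys := (List.mem_append.1 ((hall _).2 (by simp))).resolve_left fun h =>
    hcs45 _ h T.db
  have h := R.relC _ hb x hx
  rw [(hys _ hb).2, List.map_congr_left
    (g := fun χ => ((if deg χ = 55 then -1 else 1 : ℤ) : ℂ) * (χ : G → ℂ) x) fun χ hχ => by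
      rw [hw χ hχ], (hcs.map _).sum_eq] at h
  simp only [List.map_cons, List.map_nil, List.sum_cons, List.sum_nil, T.dc, T.dd] at h
  push_cast at h
  norm_num at h
  linear_combination h

/-- The relation of the 5-block. -/
theorem Chars.rel_five {x : G} (hx : ¬ 5 ∣ orderOf x) :
    1 + (T.a : G → ℂ) x - (T.d : G → ℂ) x - (T.e : G → ℂ) x + (T.h : G → ℂ) x = 0 := by
  classical
  obtain ⟨P⟩ : Nonempty (Sylow 5 G) := inferInstance
  obtain ⟨D, ht, hts⟩ := exists_pblock' (not_comm hcard) (by norm_num) P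
    (card_sylow hcard (Or.inl rfl) P)
  have hC := card_five hcard P
  have he : D.e = 4 := by
    rcases sylow_five hcard P D with ⟨h, -, -⟩ | ⟨c, h2, h, -⟩
    · exact h
    · rw [hC] at h; omega
  obtain ⟨R⟩ := exists_prow' ht hts
  have hnd : [T.a, T.d, T.e, T.h].Nodup :=
    T.nodup.sublist (.cons _ (.cons_cons _ (.cons _ (.cons _ (.cons _ (.cons_cons _ (.cons_cons _ (.cons _ (.cons_cons _ (List.nil_sublist _))))))))))
  have hall : R.all.Perm [T.a, T.d, T.e, T.h] := by
    refine perm_of_mem R.nodup hnd fun χ => ?_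
    constructor
    · intro h
      have h1 := T.mem_deg_cases hcard (R.ne_triv h)
      have h2 := R.not_dvd_deg h
      simp only [List.mem_cons, List.not_mem_nil, or_false] at h1 ⊢
      rcases h1 with e | e | e | e | e | e | e | e | e | e | e <;> subst e
      all_goals first
        | (simp only [true_or, or_true]; done)
        | (norm_num [T.db, T.db', T.dc, T.dg, T.dk, T.dk', T.dw] at h2; done)
    · intro h
      simp only [List.mem_cons, List.not_mem_nil, or_false] at h
      rcases h with e | e | e | e <;> subst e <;>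
        refine T.row_mem R hC ?_ ?_ <;>
        norm_num [T.da, T.dd, T.de, T.dh]
  set W : Cfsg.IrrCharacter G → ℤ := fun χ => if χ ∈ R.cs then R.w χ else -R.δ with hWdef
  have hW : ∀ χ ∈ R.all, W χ = if deg χ % 5 = 1 then 1 else -1 := by
    intro χ hχ
    have h1 := hall.subset hχ
    have hcong : (5 : ℤ) ∣ W χ * (deg χ : ℤ) - 1 := by
      by_cases h : χ ∈ R.cs
      · simp only [hWdef, if_pos h]; exact R.cong_cs χ h
      · simp only [hWdef, if_neg h]
        have h' := R.cong_ys χ ((List.mem_append.1 hχ).resolve_left h)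
        rw [he] at h'
        push_cast at h'
        rw [neg_mul]
        omega
    have hWe : W χ = 1 ∨ W χ = -1 := by
      by_cases h : χ ∈ R.cs
      · simp only [hWdef, if_pos h]; exact R.w_eq χ h
      · simp only [hWdef, if_neg h]; rcases R.δ_eq with d | d <;> simp [d]
    simp only [List.mem_cons, List.not_mem_nil, or_false] at h1
    rcases h1 with e | e | e | e <;> subst e <;> rcases hWe with d | d <;>
      first
        | (norm_num [d, T.da, T.dd, T.de, T.dh] at hcong; done)
        | norm_num [d, T.da, T.dd, T.de, T.dh]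
  have hsum : (R.all.map fun χ => (W χ : ℂ) * (χ : G → ℂ) x).sum = -1 := by
    obtain ⟨θ, hθ⟩ := List.length_eq_one_iff.1 (show R.ys.length = 1 by rw [R.len_ys, he])
    have hθc : θ ∉ R.cs := fun h =>
      (List.nodup_append.1 R.nodup).2.2 θ h θ (by simp [hθ]) rfl
    rw [Row.all, hθ, List.map_append, List.sum_append, List.map_singleton, List.sum_singleton,
      List.map_congr_left (g := fun χ => (R.w χ : ℂ) * (χ : G → ℂ) x) fun χ hχ => by
        simp [hWdef, hχ],
      show W θ = -R.δ by simp [hWdef, hθc]]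
    have h := R.relC θ (by simp [hθ]) x hx
    push_cast
    linear_combination -h
  rw [List.map_congr_left
    (g := fun χ => ((if deg χ % 5 = 1 then 1 else -1 : ℤ) : ℂ) * (χ : G → ℂ) x) fun χ hχ => by
      rw [hW χ hχ], (hall.map _).sum_eq] at hsum
  simp only [List.map_cons, List.map_nil, List.sum_cons, List.sum_nil, T.da, T.dd, T.de, T.dh] at hsum
  push_cast at hsum
  norm_num at hsum
  linear_combination hsum

/-- The column of a 3-singular element without part of order 5, 7, 11. -/
theorem Chars.column {x : G} (h3 : 3 ∣ orderOf x) (h5 : ¬ 5 ∣ orderOf x) (h7 : ¬ 7 ∣ orderOf x)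
    (h11 : ¬ 11 ∣ orderOf x) : ∃ a g : ℤ, (T.a : G → ℂ) x = (a : ℂ) ∧ (T.g : G → ℂ) x = (g : ℂ) ∧
      (T.b : G → ℂ) x = 0 ∧ (T.b' : G → ℂ) x = 0 ∧ (T.c : G → ℂ) x = 1 ∧ (T.d : G → ℂ) x = 0 ∧
      (T.e : G → ℂ) x = ((1 - a + g : ℤ) : ℂ) ∧ (T.h : G → ℂ) x = ((g - 2 * a : ℤ) : ℂ) ∧
      (T.k : G → ℂ) x = ((1 - a + g : ℤ) : ℂ) ∧ (T.k' : G → ℂ) x = ((1 - a + g : ℤ) : ℂ) ∧
      (T.w : G → ℂ) x = ((3 * a - 3 * g - 2 : ℤ) : ℂ) := by
  classical
  haveI := Fintype.ofFinite (Cfsg.IrrCharacter G)
  obtain ⟨t, ht, -⟩ := exists_central_two hcard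
  obtain ⟨a, ha⟩ := T.exists_int (χ := T.a) (by rw [T.da]; norm_num) (by rw [T.da]; norm_num) x
  obtain ⟨g, hg⟩ := T.exists_int (χ := T.g) (by rw [T.dg]; norm_num) (by rw [T.dg]; norm_num) x
  have hb := nine_zero hcard T.b (by rw [T.db]; norm_num) h3
  have hb' := nine_zero hcard T.b' (by rw [T.db']; norm_num) h3
  have hd := nine_zero hcard T.d (by rw [T.dd]; norm_num) h3
  have hc : (T.c : G → ℂ) x = 1 := by
    have := T.rel_seven hcard h7; rw [hb, hd] at this; linear_combination this
  obtain ⟨hk, hkk⟩ := T.rel_eleven hcard h11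
  rw [ha, hg, hb, hb'] at hk
  have h5r := T.rel_five hcard h5
  rw [ha, hd] at h5r
  have hx1 : ¬ IsConj x 1 := fun hc => by
    rw [isConj_one_left.1 hc, orderOf_one] at h3; omega
  have hxt : ¬ IsConj x t := fun hc => by
    obtain ⟨u, hu⟩ := isConj_iff.1 hc
    have : orderOf t = orderOf x := hu ▸ MulEquiv.orderOf_eq (MulAut.conj u) x
    rw [ht] at this
    omega
  have o1 := second_orthogonality (G := G) x 1
  rw [if_neg hx1, T.sum_all] at o1
  simp only [← deg_cast, map_natCast, trivIrr_coe, deg_trivIrr, T.da, T.db, T.db', T.dc, T.dd, T.de,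
    T.dg, T.dh, T.dk, T.dk', T.dw, ha, hg, hb, hb', hc, hd, hkk, hk] at o1
  have o2 := second_orthogonality (G := G) x t
  rw [if_neg hxt, T.sum_all] at o2
  have hv : ∀ χ : Cfsg.IrrCharacter G, deg χ ≠ 1 → conj ((χ : G → ℂ) t) = (valOf (deg χ) : ℂ) :=
    fun χ h => by rw [T.inv_val t ht χ (Chars.ne_triv_of_deg h), map_intCast]
  rw [hv T.a (by rw [T.da]; norm_num), hv T.b (by rw [T.db]; norm_num),
    hv T.b' (by rw [T.db']; norm_num), hv T.c (by rw [T.dc]; norm_num),
    hv T.d (by rw [T.dd]; norm_num), hv T.e (by rw [T.de]; norm_num),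
    hv T.g (by rw [T.dg]; norm_num), hv T.h (by rw [T.dh]; norm_num),
    hv T.k (by rw [T.dk]; norm_num), hv T.k' (by rw [T.dk']; norm_num),
    hv T.w (by rw [T.dw]; norm_num)] at o2
  simp only [trivIrr_coe, map_one, T.da, T.db, T.db', T.dc, T.dd, T.de, T.dg, T.dh, T.dk, T.dk', T.dw,
    ha, hg, hb, hb', hc, hd, hkk, hk, valOf] at o2
  norm_num at o1 o2
  refine ⟨a, g, ha, hg, hb, hb', hc, hd, ?_, ?_, ?_, ?_, ?_⟩
  · push_cast
    linear_combination (1 / 16 : ℂ) * o2 - (1 / 6160 : ℂ) * o1 - (2 / 5 : ℂ) * h5r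
  · push_cast
    linear_combination (1 / 16 : ℂ) * o2 - (1 / 6160 : ℂ) * o1 + (3 / 5 : ℂ) * h5r
  · rw [hk]; push_cast; ring
  · rw [hkk, hk]; push_cast; ring
  · push_cast
    linear_combination -(1 / 16 : ℂ) * o2 + (17 / 6160 : ℂ) * o1 - (1 / 5 : ℂ) * h5r

/-- The norm of the column. -/
theorem Chars.cen_column {x : G} {a g : ℤ} (ha : (T.a : G → ℂ) x = (a : ℂ))
    (hg : (T.g : G → ℂ) x = (g : ℂ)) (hb : (T.b : G → ℂ) x = 0) (hb' : (T.b' : G → ℂ) x = 0)
    (hc : (T.c : G → ℂ) x = 1) (hd : (T.d : G → ℂ) x = 0)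
    (he : (T.e : G → ℂ) x = ((1 - a + g : ℤ) : ℂ)) (hh : (T.h : G → ℂ) x = ((g - 2 * a : ℤ) : ℂ))
    (hk : (T.k : G → ℂ) x = ((1 - a + g : ℤ) : ℂ)) (hk' : (T.k' : G → ℂ) x = ((1 - a + g : ℤ) : ℂ))
    (hw : (T.w : G → ℂ) x = ((3 * a - 3 * g - 2 : ℤ) : ℂ)) : (cen x : ℤ) = colNorm a g := by
  classical
  haveI := Fintype.ofFinite (Cfsg.IrrCharacter G)
  have o := second_orthogonality (G := G) x x
  rw [if_pos (IsConj.refl x), T.sum_all] at o
  simp only [trivIrr_coe, ha, hg, hb, hb', hc, hd, he, hh, hk, hk', hw, map_intCast, map_one, map_zero] at o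
  have : ((cen x : ℤ) : ℂ) = (colNorm a g : ℂ) := by
    rw [colNorm]; push_cast at o ⊢; linear_combination -o
  exact_mod_cast this

theorem cen_le_sq {x : G} {χ : Cfsg.IrrCharacter G} (hne : χ ≠ trivIrr G) {v : ℤ}
    (hv : (χ : G → ℂ) x = (v : ℂ)) : v * v < (cen x : ℤ) := by
  have h := sq_le (l := [χ]) (by simp) (by simpa using hne.symm) x (f := fun _ => v)
    fun ψ hψ => by rw [List.mem_singleton.1 hψ]; exact hv
  simp only [List.map_singleton, List.sum_singleton] at h
  omega

/-- The centralizer of an element of order three, and its column. -/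
theorem Chars.order_three {r : G} (hr : orderOf r = 3) :
    (cen r = 9 ∨ cen r = 36) ∧ ∃ p ∈ ([(0, 0), (3, 3), (-3, -3)] : List (ℤ × ℤ)),
      (T.a : G → ℂ) r = (p.1 : ℂ) ∧ (T.g : G → ℂ) r = (p.2 : ℂ) := by
  classical
  have hr1 : r ≠ 1 := fun h => by rw [h, orderOf_one] at hr; omega
  obtain ⟨a, g, ha, hg, hb, hb', hc, hd, he, hh, hk, hk', hw⟩ := T.column hcard (x := r)
    (by rw [hr]) (by rw [hr]; norm_num) (by rw [hr]; norm_num) (by rw [hr]; norm_num)
  have hn := T.cen_column hcard ha hg hb hb' hc hd he hh hk hk' hw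
  obtain ⟨M, hM⟩ := BlockCharsA.DefectZeroVanish.exists_modular Nat.prime_three
  have hcong : ∀ (χ : Cfsg.IrrCharacter G) (v : ℤ), (χ : G → ℂ) r = (v : ℂ) → (3 : ℤ) ∣ v - deg χ :=
    fun χ v hv => cong_int hM χ (Commute.one_right r) (k := 1)
      (by rw [pow_one, ← hr, pow_orderOf_eq_one]) (by simp) (by rw [mul_one]; exact hv)
      (by rw [← deg_cast]; simp)
  have ha3 := hcong _ _ ha
  have hg3 := hcong _ _ hg
  rw [T.da] at ha3; rw [T.dg] at hg3
  obtain ⟨P, hP⟩ := (IsPGroup.of_card (p := 3) (n := 1)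
    (by rw [Nat.card_zpowers, hr, pow_one]) : IsPGroup 3 (zpowers r)).exists_le_sylow
  have h9 : 9 ∣ cen r := by
    have hP9 := card_sylow_three hcard P
    haveI : Fact (Nat.Prime 3) := ⟨Nat.prime_three⟩
    letI := IsPGroup.commGroupOfCardEqPrimeSq (p := 3) (G := (P : Subgroup G)) (by rw [hP9]; norm_num)
    rw [← hP9]
    refine card_dvd_of_le fun y hy => mem_centralizer_singleton_iff.2 ?_
    exact congrArg Subtype.val (mul_comm (⟨y, hy⟩ : (P : Subgroup G)) ⟨r, hP (mem_zpowers r)⟩)
  have hmem : cen r ∈ ([9, 18, 36, 72, 144, 288, 576, 1152] : List ℕ) := by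
    have key := List.all_eq_true.1 div_1152 _ (cen_mem_divs hcard r)
    simpa [Nat.mod_eq_zero_of_dvd h9, ← Nat.dvd_iff_mod_eq_zero,
      not_dvd_cen_five hcard hr1 (by rw [hr]; norm_num),
      not_dvd_cen_seven hcard hr1 (by rw [hr]; norm_num),
      not_dvd_cen_eleven hcard hr1 (by rw [hr]; norm_num)] using key
  have hle : (cen r : ℤ) ≤ 1152 := by
    simp only [List.mem_cons, List.not_mem_nil, or_false] at hmem; omega
  have hrange : ∀ v : ℤ, v * v < (cen r : ℤ) → (3 : ℤ) ∣ v →
      v ∈ (List.range 23).map (fun i : ℕ => 3 * ((i : ℤ) - 11)) := by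
    intro v hv h3
    obtain ⟨k, rfl⟩ := h3
    have h1 : k ≤ 11 := by by_contra; nlinarith
    have h2 : -11 ≤ k := by by_contra; nlinarith
    exact List.mem_map.2 ⟨(k + 11).toNat, List.mem_range.2 (by omega), by
      rw [Int.toNat_of_nonneg (by omega)]; ring⟩
  have hp := colNorm_scan a (hrange a (cen_le_sq hcard (Chars.ne_triv_of_deg (by rw [T.da]; norm_num)) ha)
      (by push_cast at ha3; omega)) g
    (hrange g (cen_le_sq hcard (Chars.ne_triv_of_deg (by rw [T.dg]; norm_num)) hg)
      (by push_cast at hg3; omega))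
    (by
      rw [← hn]
      simp only [List.mem_cons, List.not_mem_nil, or_false] at hmem ⊢
      omega)
  refine ⟨?_, (a, g), hp, ha, hg⟩
  simp only [List.mem_cons, List.not_mem_nil, or_false, Prod.mk.injEq] at hp
  rcases hp with ⟨rfl, rfl⟩ | ⟨rfl, rfl⟩ | ⟨rfl, rfl⟩ <;> norm_num [colNorm] at hn <;> omega

/-- **There is one class of elements of order three.** -/
theorem isConj_three {r s : G} (hr : orderOf r = 3) (hs : orderOf s = 3) : IsConj r s := by
  classical
  haveI := Fintype.ofFinite (Cfsg.IrrCharacter G)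
  obtain ⟨T⟩ := exists_chars hcard
  by_contra hne
  obtain ⟨a, g, ha, hg, hb, hb', hc, hd, he, hh, hk, hk', hw⟩ := T.column hcard (x := r)
    (by rw [hr]) (by rw [hr]; norm_num) (by rw [hr]; norm_num) (by rw [hr]; norm_num)
  obtain ⟨a₂, g₂, ha₂, hg₂, hb₂, hb₂', hc₂, hd₂, he₂, hh₂, hk₂, hk₂', hw₂⟩ := T.column hcard (x := s)
    (by rw [hs]) (by rw [hs]; norm_num) (by rw [hs]; norm_num) (by rw [hs]; norm_num)
  obtain ⟨-, p, hp, hpa, hpg⟩ := T.order_three hcard hr
  obtain ⟨-, q, hq, hqa, hqg⟩ := T.order_three hcard hs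
  obtain rfl : a = p.1 := by exact_mod_cast ha.symm.trans hpa
  obtain rfl : g = p.2 := by exact_mod_cast hg.symm.trans hpg
  obtain rfl : a₂ = q.1 := by exact_mod_cast ha₂.symm.trans hqa
  obtain rfl : g₂ = q.2 := by exact_mod_cast hg₂.symm.trans hqg
  have o := second_orthogonality (G := G) r s
  rw [if_neg hne, T.sum_all] at o
  simp only [trivIrr_coe, ha, hg, hb, hb', hc, hd, he, hh, hk, hk', hw, ha₂, hg₂, hb₂, hb₂', hc₂, hd₂,
    he₂, hh₂, hk₂, hk₂', hw₂, map_intCast, map_one, map_zero] at o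
  have : ((colProd p.1 p.2 q.1 q.2 : ℤ) : ℂ) = ((0 : ℤ) : ℂ) := by
    rw [colProd]; push_cast at o ⊢; linear_combination o
  exact colProd_ne p hp q hq (by exact_mod_cast this)

/-- **The centralizer of an element of order three has order 36.** -/
theorem cen_three {r : G} (hr : orderOf r = 3) : cen r = 36 := by
  obtain ⟨T⟩ := exists_chars hcard
  obtain ⟨t, ht, -⟩ := exists_central_two hcard
  obtain ⟨⟨s, hst⟩, hs⟩ := exists_prime_orderOf_dvd_card' (G := centralizer ({t} : Set G)) 3
    (by change 3 ∣ cen t; rw [cen_involution hcard ht]; norm_num)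
  rw [Subgroup.orderOf_mk] at hs
  have h36 : cen s = 36 := by
    rcases (T.order_three hcard hs).1 with h | h
    · have hm : t ∈ centralizer ({s} : Set G) :=
        mem_centralizer_singleton_iff.2 (mem_centralizer_singleton_iff.1 hst).symm
      have := orderOf_dvd_natCard (⟨t, hm⟩ : centralizer ({s} : Set G))
      rw [Subgroup.orderOf_mk, ht] at this
      change 2 ∣ cen s at this
      omega
    · exact h
  obtain ⟨x, hx⟩ := isConj_iff.1 (isConj_three hcard hs hr)
  rw [← h36, cen, cen]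
  refine Nat.card_congr ((MulAut.conj x⁻¹).toEquiv.subtypeEquiv fun y => ?_)
  show y ∈ centralizer ({r} : Set G) ↔ x⁻¹ * y * x⁻¹⁻¹ ∈ centralizer ({s} : Set G)
  rw [mem_centralizer_singleton_iff, mem_centralizer_singleton_iff, ← hx, inv_inv]
  constructor <;> intro h
  · calc x⁻¹ * y * x * s = x⁻¹ * (y * (x * s * x⁻¹)) * x := by group
      _ = x⁻¹ * ((x * s * x⁻¹) * y) * x := by rw [h]
      _ = s * (x⁻¹ * y * x) := by group
  · calc y * (x * s * x⁻¹) = x * ((x⁻¹ * y * x) * s) * x⁻¹ := by group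
      _ = x * (s * (x⁻¹ * y * x)) * x⁻¹ := by rw [h]
      _ = x * s * x⁻¹ * y := by group

/-- **An element of order three commuting with an involution: the common centralizer has order 12.** -/
theorem cen_three_inf_involution {r t : G} (hr : orderOf r = 3) (ht : orderOf t = 2) (hc : Commute r t) :
    Nat.card (centralizer ({r} : Set G) ⊓ centralizer ({t} : Set G) : Subgroup G) = 12 := by
  classical
  obtain ⟨T⟩ := exists_chars hcard
  have hcop : (orderOf r).Coprime (orderOf t) := by rw [hr, ht]; norm_num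
  have ho : orderOf (r * t) = 6 := by rw [hc.orderOf_mul_eq_mul_orderOf_of_coprime hcop, hr, ht]
  have hx1 : r * t ≠ 1 := fun h => by rw [h, orderOf_one] at ho; omega
  have hC : centralizer ({r * t} : Set G) = centralizer ({r} : Set G) ⊓ centralizer ({t} : Set G) := by
    have h3 : (r * t) ^ 4 = r := by
      rw [hc.mul_pow, ← pow_mod_orderOf r 4, ← pow_mod_orderOf t 4, hr, ht]
      norm_num
    have h2 : (r * t) ^ 3 = t := by
      rw [hc.mul_pow, ← pow_mod_orderOf r 3, ← pow_mod_orderOf t 3, hr, ht]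
      norm_num
    ext y
    simp only [mem_inf, mem_centralizer_singleton_iff]
    constructor
    · intro h
      exact ⟨by rw [← h3]; exact (Commute.pow_right h 4).eq, by rw [← h2]; exact (Commute.pow_right h 3).eq⟩
    · rintro ⟨h, h'⟩
      exact ((show Commute y r from h).mul_right h').eq
  obtain ⟨a, g, ha, hg, hb, hb', hc', hd, he, hh, hk, hk', hw⟩ := T.column hcard (x := r * t)
    (by rw [ho]; norm_num) (by rw [ho]; norm_num) (by rw [ho]; norm_num) (by rw [ho]; norm_num)
  have hn := T.cen_column hcard ha hg hb hb' hc' hd he hh hk hk' hw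
  have hd36 : cen (r * t) ∣ 36 := by
    rw [← cen_three hcard hr, cen, cen, hC]; exact card_dvd_of_le inf_le_left
  have hd384 : cen (r * t) ∣ 384 := by
    rw [← cen_involution hcard ht, cen, cen, hC]; exact card_dvd_of_le inf_le_right
  have h12 : cen (r * t) ∣ 12 := by simpa using Nat.dvd_gcd hd36 hd384
  obtain ⟨M, hM⟩ := BlockCharsA.DefectZeroVanish.exists_modular Nat.prime_three
  have hcong : ∀ (χ : Cfsg.IrrCharacter G) (v : ℤ), χ ≠ trivIrr G → (χ : G → ℂ) (r * t) = (v : ℂ) →
      (3 : ℤ) ∣ v - valOf (deg χ) :=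
    fun χ v hne hv => cong_int hM χ hc (k := 1) (by rw [pow_one, ← hr, pow_orderOf_eq_one])
      (by rw [ht]; norm_num) hv (T.inv_val t ht χ hne)
  have ha3 := hcong _ _ (Chars.ne_triv_of_deg (by rw [T.da]; norm_num)) ha
  have hg3 := hcong _ _ (Chars.ne_triv_of_deg (by rw [T.dg]; norm_num)) hg
  rw [T.da] at ha3; rw [T.dg] at hg3
  simp only [valOf] at ha3 hg3
  norm_num at ha3 hg3
  have hle := Nat.le_of_dvd (by norm_num) h12
  have hsmall : ∀ v : ℤ, v * v < (cen (r * t) : ℤ) →
      v ∈ ([-4, -3, -2, -1, 0, 1, 2, 3, 4] : List ℤ) := by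
    intro v hv
    have h1 : v ≤ 4 := by by_contra; nlinarith
    have h2 : -4 ≤ v := by by_contra; nlinarith
    simp only [List.mem_cons, List.not_mem_nil, or_false]
    omega
  have := colNorm_six a (hsmall a (cen_le_sq hcard (Chars.ne_triv_of_deg (by rw [T.da]; norm_num)) ha)) g
    (hsmall g (cen_le_sq hcard (Chars.ne_triv_of_deg (by rw [T.dg]; norm_num)) hg)) (by omega) (by omega)
    (by rw [← hn]; exact_mod_cast hle)
  rw [← hn] at this
  rw [← hC]
  exact_mod_cast this

end

end Cfsg.Agent.M22Order
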