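import Cfsg.Agent.Lib.M22Order.Basic
import Cfsg.Agent.Lib.M22Order.Sound

/-!
# Simple groups of order 443520: principal blocks as rows of integers
-/

set_option autoImplicit false
set_option linter.style.haveILetI false
set_option linter.unusedSectionVars false

namespace Cfsg.Agent.M22Order

open Subgroup
open Cfsg.Agent.Characters Cfsg.Agent.Blocks Cfsg.Agent.PrimeBlock
open Cfsg.Agent.SmallSimple
open Cfsg.Agent.M12Order (cen cls iv iv_eq iv_spec iv_four iv_lt iv_triv cong_int norm_sum_le)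
open scoped ComplexConjugate

universe u

variable {G : Type u} [Group G] [Finite G]

/-- The principal block of a Sylow subgroup of prime order, without the trivial character. -/
structure PRow {p : ℕ} [Fact p.Prime] {P : Sylow p G} (D : PBlock P)
    extends Row (Cfsg.IrrCharacter G) (fun χ => deg χ) where
  mem : ∀ χ, χ ∈ cs ++ ys ↔ χ ∈ Cfsg.principalBlock D.M G ∧ χ ≠ trivIrr G
  len_cs : cs.length = D.e - 1
  len_ys : ys.length = (p - 1) / D.e
  relC : ∀ θ ∈ ys, ∀ g : G, ¬ p ∣ orderOf g →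
    (δ : ℂ) * (θ : G → ℂ) g = 1 + (cs.map fun χ => (w χ : ℂ) * (χ : G → ℂ) g).sum
  val_cs : ∀ χ ∈ cs, ∀ x ∈ (P : Subgroup G), x ≠ 1 → (χ : G → ℂ) x = (w χ : ℂ)
  val_ys : ∀ x ∈ (P : Subgroup G), x ≠ 1 → (ys.map fun θ : Cfsg.IrrCharacter G => (θ : G → ℂ) x).sum = -(δ : ℂ)
  cong_cs : ∀ χ ∈ cs, (p : ℤ) ∣ w χ * (deg χ : ℤ) - 1
  cong_ys : ∀ θ ∈ ys, (p : ℤ) ∣ δ * (deg θ : ℤ) - (D.e : ℤ)

section

variable {p : ℕ} [Fact p.Prime] {P : Sylow p G} {D : PBlock P}

theorem exists_prow' (ht : trivIrr G ∈ D.X) (hts : D.sgn (trivIrr G) = 1) : Nonempty (PRow D) := by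
  classical
  have hYne : D.Y.toList ≠ [] := by
    rw [ne_eq, Finset.toList_eq_nil]; exact D.Y_nonempty.ne_empty
  have hmem : ∀ χ, χ ∈ (D.X.erase (trivIrr G)).toList ++ D.Y.toList ↔
      χ ∈ Cfsg.principalBlock D.M G ∧ χ ≠ trivIrr G := fun χ => by
    rw [List.mem_append, Finset.mem_toList, Finset.mem_toList, Finset.mem_erase, D.mem_block]
    constructor
    · rintro (⟨h1, h2⟩ | h)
      · exact ⟨Or.inl h2, h1⟩
      · exact ⟨Or.inr h, fun e => Finset.disjoint_left.1 D.disj ht (e ▸ h)⟩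
    · rintro ⟨h | h, h1⟩
      · exact Or.inl ⟨h1, h⟩
      · exact Or.inr h
  refine ⟨{
    cs := (D.X.erase (trivIrr G)).toList, ys := D.Y.toList, w := D.sgn, δ := D.ε
    nodup := List.nodup_append.2 ⟨Finset.nodup_toList _, Finset.nodup_toList _, fun a ha b hb e => by
      rw [Finset.mem_toList, Finset.mem_erase] at ha
      rw [Finset.mem_toList] at hb
      exact Finset.disjoint_left.1 D.disj ha.2 (e ▸ hb)⟩
    w_eq := fun χ hχ => D.sgn_eq χ (Finset.mem_erase.1 (Finset.mem_toList.1 hχ)).2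
    δ_eq := D.ε_eq
    ys_ne := hYne
    rel := fun θ hθ => ?_
    pos := fun χ _ => charDegree_pos χ
    mem := hmem
    len_cs := by rw [Finset.length_toList, Finset.card_erase_of_mem ht, D.card_X]
    len_ys := by rw [Finset.length_toList, D.card_Y]
    relC := fun θ hθ g hg => ?_
    val_cs := fun χ hχ x hx hx1 => D.val_X' (Finset.mem_erase.1 (Finset.mem_toList.1 hχ)).2 hx hx1
    val_ys := fun x hx hx1 => by rw [Finset.sum_map_toList]; exact D.sum_Y hx hx1
    cong_cs := fun χ hχ => ?_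
    cong_ys := fun θ hθ => ?_ }⟩
  · rw [D.rel_one (Finset.mem_toList.1 hθ), ← Finset.add_sum_erase _ _ ht, hts, deg_trivIrr,
      Finset.sum_map_toList]
    simp
  · rw [D.rel θ (Finset.mem_toList.1 hθ) g hg, ← Finset.add_sum_erase _ _ ht, hts,
      Finset.sum_map_toList]
    simp [trivIrr_coe]
  · have hX := (Finset.mem_erase.1 (Finset.mem_toList.1 hχ)).2
    have h := Int.modEq_iff_dvd.1 (D.deg_X χ hX)
    rcases D.sgn_eq χ hX with e | e <;> rw [e] at h ⊢
    · exact (dvd_neg.2 h).trans (dvd_of_eq (by ring))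
    · exact h.trans (dvd_of_eq (by ring))
  · have h := Int.modEq_iff_dvd.1 (D.deg_Y θ (Finset.mem_toList.1 hθ))
    rcases D.ε_eq with e | e <;> rw [e] at h ⊢
    · exact (dvd_neg.2 h).trans (dvd_of_eq (by ring))
    · exact h.trans (dvd_of_eq (by ring))

namespace PRow

variable (R : PRow D)

theorem ne_triv {χ : Cfsg.IrrCharacter G} (h : χ ∈ R.all) : χ ≠ trivIrr G := ((R.mem χ).1 h).2

theorem mem_block {χ : Cfsg.IrrCharacter G} (h : χ ∈ R.all) :
    χ ∈ Cfsg.principalBlock D.M G := ((R.mem χ).1 h).1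

theorem not_dvd_deg {χ : Cfsg.IrrCharacter G} (h : χ ∈ R.all) : ¬ p ∣ deg χ := by
  intro hd
  have hd' : (p : ℤ) ∣ (deg χ : ℤ) := by exact_mod_cast hd
  have hp : p.Prime := Fact.out
  rcases List.mem_append.1 h with h | h
  · have := (dvd_sub_right (hd'.mul_left (R.w χ))).1 (R.cong_cs χ h)
    exact hp.ne_one (Nat.dvd_one.1 (by exact_mod_cast this))
  · have := (dvd_sub_right (hd'.mul_left R.δ)).1 (R.cong_ys χ h)
    have h2 : p ∣ D.e := by exact_mod_cast this
    exact absurd (Nat.le_of_dvd D.e_pos h2) (not_le.2 D.e_lt)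

theorem relV {g : G} (hg : ¬ p ∣ orderOf g) {f : Cfsg.IrrCharacter G → ℤ}
    (hf : ∀ χ ∈ R.all, (χ : G → ℂ) g = (f χ : ℂ)) : R.RelV f := by
  intro θ hθ
  have h := R.relC θ hθ g hg
  rw [hf θ (by simp [Row.all, hθ]),
    List.map_congr_left (g := fun χ => ((R.w χ * f χ : ℤ) : ℂ)) fun χ hχ => by
      rw [hf χ (by simp [Row.all, hχ])]; push_cast; rfl] at h
  have hs : ((R.cs.map fun χ => R.w χ * f χ).sum : ℂ) =
      ((R.cs.map fun χ => ((R.w χ * f χ : ℤ) : ℂ))).sum := by
    rw [Int.cast_list_sum, List.map_map]; rfl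
  rw [← hs] at h
  show R.δ * f θ = 1 + (R.cs.map fun χ => R.w χ * f χ).sum
  exact_mod_cast h

/-- Rearranging. -/
noncomputable def perm {l : List (Cfsg.IrrCharacter G)} (h : l.Perm R.cs) : PRow D where
  toRow := R.toRow.permCs h
  mem := fun χ => ((h.append_right _).mem_iff).trans (R.mem χ)
  len_cs := h.length_eq.trans R.len_cs
  len_ys := R.len_ys
  relC := fun θ hθ g hg => (R.relC θ hθ g hg).trans (by
    show _ = 1 + (l.map fun χ => (R.w χ : ℂ) * (χ : G → ℂ) g).sum
    rw [(h.map _).sum_eq])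
  val_cs := fun χ hχ => R.val_cs χ (h.mem_iff.1 hχ)
  val_ys := R.val_ys
  cong_cs := fun χ hχ => R.cong_cs χ (h.mem_iff.1 hχ)
  cong_ys := R.cong_ys

/-- With a single exceptional member, any member may play its part. -/
theorem exists_pivot (hK : R.ys.length = 1) (he : D.e + 1 = p) {χ₀ : Cfsg.IrrCharacter G}
    (h₀ : χ₀ ∈ R.all) : ∃ R' : PRow D, R'.ys = [χ₀] := by
  classical
  obtain ⟨θ, hθ⟩ := List.length_eq_one_iff.1 hK
  have hθm : θ ∈ R.ys := by simp [hθ]
  by_cases hys : χ₀ = θ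
  · exact ⟨R, hys ▸ hθ⟩
  have hcs : χ₀ ∈ R.cs := by
    rcases List.mem_append.1 h₀ with h | h
    · exact h
    · rw [hθ, List.mem_singleton] at h; exact absurd h hys
  have hnd := List.nodup_append.1 R.nodup
  have hθcs : θ ∉ R.cs := fun h => hnd.2.2 θ h θ hθm rfl
  obtain ⟨l, hl⟩ : ∃ l, R.cs.Perm (χ₀ :: l) := ⟨_, List.perm_cons_erase hcs⟩
  let w' : Cfsg.IrrCharacter G → ℤ := fun χ => if χ = θ then -R.δ else R.w χ
  have hw' : ∀ χ ∈ l, w' χ = R.w χ := fun χ hχ => by
    simp [w', show χ ≠ θ from fun e => hθcs (e ▸ hl.symm.subset (List.mem_cons_of_mem _ hχ))]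
  have hwθ : w' θ = -R.δ := by simp [w']
  have hperm : ((l ++ [θ]) ++ [χ₀]).Perm (R.cs ++ R.ys) := by
    rw [hθ]
    refine List.Perm.trans ?_ (hl.symm.append_right _)
    rw [List.cons_append]
    exact (List.perm_append_comm (l₂ := [χ₀]))
  refine ⟨{
    cs := l ++ [θ], ys := [χ₀], w := w', δ := -R.w χ₀
    nodup := hperm.nodup_iff.2 R.nodup
    w_eq := fun χ hχ => ?_
    δ_eq := ?_
    ys_ne := by simp
    rel := fun χ hχ => ?_
    pos := fun χ _ => charDegree_pos χ
    mem := fun χ => hperm.mem_iff.trans (R.mem χ)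
    len_cs := ?_
    len_ys := by rw [← R.len_ys, hK]; rfl
    relC := fun χ hχ g hg => ?_
    val_cs := fun χ hχ x hx hx1 => ?_
    val_ys := fun x hx hx1 => ?_
    cong_cs := fun χ hχ => ?_
    cong_ys := fun χ hχ => ?_ }, rfl⟩
  · rcases List.mem_append.1 hχ with h | h
    · rw [hw' χ h]; exact R.w_eq χ (hl.symm.subset (List.mem_cons_of_mem _ h))
    · rw [List.mem_singleton.1 h, hwθ]; rcases R.δ_eq with e | e <;> simp [e]
  · rcases R.w_eq χ₀ hcs with e | e <;> simp [e]
  · rw [List.mem_singleton.1 hχ]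
    have h := R.rel θ hθm
    rw [(hl.map _).sum_eq, List.map_cons, List.sum_cons] at h
    rw [List.map_append, List.sum_append,
      List.map_congr_left fun ψ hψ => by rw [hw' ψ hψ], List.map_singleton, List.sum_singleton, hwθ]
    linarith
  · simpa [List.length_append] using hl.length_eq.symm.trans R.len_cs
  · rw [List.mem_singleton.1 hχ]
    have h := R.relC θ hθm g hg
    rw [(hl.map _).sum_eq, List.map_cons, List.sum_cons] at h
    rw [List.map_append, List.sum_append,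
      List.map_congr_left fun ψ hψ => by rw [hw' ψ hψ], List.map_singleton, List.sum_singleton, hwθ]
    push_cast
    linear_combination h
  · rcases List.mem_append.1 hχ with h | h
    · rw [hw' χ h]; exact R.val_cs χ (hl.symm.subset (List.mem_cons_of_mem _ h)) x hx hx1
    · rw [List.mem_singleton.1 h, hwθ]
      have := R.val_ys x hx hx1
      rw [hθ, List.map_singleton, List.sum_singleton] at this
      rw [this]; push_cast; rfl
  · rw [List.map_singleton, List.sum_singleton, R.val_cs χ₀ hcs x hx hx1]; push_cast; ring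
  · rcases List.mem_append.1 hχ with h | h
    · rw [hw' χ h]; exact R.cong_cs χ (hl.symm.subset (List.mem_cons_of_mem _ h))
    · rw [List.mem_singleton.1 h, hwθ]
      have h1 := R.cong_ys θ hθm
      have h2 : (p : ℤ) = (D.e : ℤ) + 1 := by exact_mod_cast he.symm
      obtain ⟨k, hk⟩ := h1
      exact ⟨-k - 1, by linear_combination -hk + h2⟩
  · rw [List.mem_singleton.1 hχ]
    have h2 : (p : ℤ) = (D.e : ℤ) + 1 := by exact_mod_cast he.symm
    obtain ⟨k, hk⟩ := R.cong_cs χ₀ hcs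
    exact ⟨-k - 1, by linear_combination -hk + h2⟩

end PRow

end

theorem exists_perm_map {α β : Type*} {m : List β} {l : List α} {g : α → β} (h : m.Perm (l.map g)) :
    ∃ l' : List α, l'.Perm l ∧ l'.map g = m := by
  induction m generalizing l with
  | nil => exact ⟨l, List.Perm.refl _, by simpa using h.symm⟩
  | cons a m ih =>
    obtain ⟨x, hx, hxa⟩ := List.mem_map.1 (h.subset List.mem_cons_self)
    obtain ⟨l₁, l₂, rfl⟩ := List.append_of_mem hx
    have hp : (l₁ ++ x :: l₂).Perm (x :: (l₁ ++ l₂)) := List.perm_middle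
    have h2 := h.trans (hp.map g)
    rw [List.map_cons, hxa] at h2
    obtain ⟨l', hl', hm⟩ := ih h2.cons_inv
    exact ⟨x :: l', (hl'.cons x).trans hp.symm, by rw [List.map_cons, hxa, hm]⟩

/-- `d` divides `|g^G| v` for an integral value `v`. -/
theorem deg_dvd_cls' (χ : Cfsg.IrrCharacter G) {g : G} {v : ℤ} (hv : (χ : G → ℂ) g = (v : ℂ)) :
    (deg χ : ℤ) ∣ (cls g : ℤ) * v := by
  obtain ⟨n, ρ, hρ, hchar⟩ := χ.2
  haveI := hρ
  have h := class_central_char_isIntegral ρ g
  have hn : (Module.finrank ℂ (Fin n → ℂ) : ℂ) = (deg χ : ℂ) := by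
    rw [deg_cast, ← hchar, ρ.char_one]
  rw [hchar, hv, hn] at h
  obtain ⟨c, hc⟩ := exists_int_of_isIntegral_ratCast
    (q := ((((cls g : ℤ) * v : ℤ) : ℚ) / ((deg χ : ℕ) : ℚ))) (by push_cast; exact h)
  refine ⟨c, ?_⟩
  have hd : ((deg χ : ℕ) : ℚ) ≠ 0 := Nat.cast_ne_zero.2 (charDegree_pos χ).ne'
  replace hc := Rat.cast_injective (hc.trans (Rat.cast_intCast c).symm)
  rw [div_eq_iff hd] at hc
  have : (((cls g : ℤ) * v : ℤ) : ℚ) = (((deg χ : ℕ) : ℤ) * c : ℤ) := by
    push_cast at hc ⊢; linear_combination hc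
  exact_mod_cast this

/-- The squares over distinct non-trivial characters. -/
theorem sq_le {l : List (Cfsg.IrrCharacter G)} (hnd : l.Nodup) (ht : trivIrr G ∉ l) (g : G)
    {f : Cfsg.IrrCharacter G → ℤ} (hf : ∀ χ ∈ l, (χ : G → ℂ) g = (f χ : ℂ)) :
    1 + (l.map fun χ => f χ * f χ).sum ≤ (cen g : ℤ) := by
  classical
  have h := norm_sum_le (insert (trivIrr G) l.toFinset) g
  rw [Finset.sum_insert (by simpa using ht),
    Finset.sum_congr rfl (g := fun χ => ((f χ * f χ : ℤ) : ℝ)) fun χ hχ => by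
      rw [hf χ (List.mem_toFinset.1 hχ), show ((f χ : ℤ) : ℂ) = (((f χ : ℤ) : ℝ) : ℂ) by push_cast; rfl,
        Complex.normSq_ofReal]
      push_cast; rfl,
    trivIrr_coe, Complex.normSq_one, List.sum_toFinset _ hnd] at h
  have e : ((l.map fun χ => f χ * f χ).sum : ℝ) = (l.map fun χ => ((f χ * f χ : ℤ) : ℝ)).sum := by
    rw [Int.cast_list_sum, List.map_map]; rfl
  rw [← e] at h
  exact_mod_cast h

section

variable [IsSimpleGroup G] (hcard : Nat.card G = 443520)

include hcard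

theorem cen_one : cen (1 : G) = 443520 := by
  rw [← hcard]
  have : centralizer ({(1 : G)} : Set G) = ⊤ := by ext x; simp [mem_centralizer_singleton_iff]
  rw [cen, this, card_top]

theorem deg_sq_le {l : List (Cfsg.IrrCharacter G)} (hnd : l.Nodup) (ht : trivIrr G ∉ l) :
    1 + (l.map fun χ => (deg χ : ℤ) * (deg χ : ℤ)).sum ≤ ord := by
  have h := sq_le hnd ht (1 : G) (f := fun χ => (deg χ : ℤ)) fun χ _ => by simp [← deg_cast]
  rwa [cen_one hcard] at h

theorem cen_lt {t : G} (ht : t ≠ 1) : cen t < 262144 := by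
  have h := cen_dvd hcard t
  by_contra hlt
  obtain ⟨k, hk⟩ := h
  have hk1 : k = 1 := by
    rcases k with _ | _ | k
    · omega
    · rfl
    · have : cen t * 2 ≤ cen t * (k + 1 + 1) := Nat.mul_le_mul_left _ (by omega)
      omega
  rw [hk1, mul_one] at hk
  refine ht (Subgroup.mem_bot.1 ((Basic.center_eq_bot (not_comm hcard)) ▸ ?_))
  refine Subgroup.mem_center_iff.2 fun a => mem_centralizer_singleton_iff.1 ?_
  have htop : centralizer ({t} : Set G) = ⊤ := eq_top_of_card_eq _ (by rw [hcard]; exact hk.symm)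
  rw [htop]; trivial

theorem opts_iv {t : G} (ht : orderOf t = 2) {χ : Cfsg.IrrCharacter G} (hne : χ ≠ trivIrr G) {s : ℤ}
    (hs : s = 1 ∨ s = -1) : s * iv t χ ∈ opts (cen t) (s * (deg χ : ℤ)) := by
  have hG := not_comm hcard
  have ht1 : t ≠ 1 := fun h => by rw [h, orderOf_one] at ht; omega
  refine mem_opts (cen_lt hcard ht1) ?_ ?_ ?_ ?_
  · rw [← mul_sub]; exact (iv_four hG ht χ).mul_left s
  · rw [abs_mul, abs_mul]
    rcases hs with rfl | rfl <;> simpa using iv_lt hG ht hne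
  · have h := sq_le (l := [χ]) (by simp) (by simpa using hne.symm) t (f := iv t)
      fun ψ _ => iv_spec hG ht ψ
    simp only [List.map_singleton, List.sum_singleton] at h
    rcases hs with rfl | rfl <;> nlinarith
  · rw [show 443520 / cen t = cls t by
      rw [← cen_mul_cls hcard t, Nat.mul_div_cancel_left _ (Nat.card_pos (α := centralizer ({t} : Set G)))]]
    rw [mul_left_comm]
    exact mul_dvd_mul_left s (deg_dvd_cls' χ (iv_spec hG ht χ))

/-- Values at an involution commuting with an element of order `q`. -/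
theorem singOK_iv {q : ℕ} [Fact q.Prime] (hq : q = 5 ∨ q = 7 ∨ q = 11) {t x : G} (ht : orderOf t = 2)
    (hx : orderOf x = q) (hc : Commute x t) (χ : Cfsg.IrrCharacter G) {s : ℤ} :
    singOK (q : ℤ) (s * (deg χ : ℤ)) (s * iv t χ) = true := by
  simp only [singOK, Bool.or_eq_true, bne_iff_ne, ne_eq, beq_iff_eq]
  by_cases hd : (q : ℤ) ∣ s * (deg χ : ℤ)
  · right
    refine Int.emod_eq_zero_of_dvd ?_
    rcases (Nat.prime_iff_prime_int.1 (Fact.out : q.Prime)).dvd_or_dvd hd with h | h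
    · exact h.mul_right _
    · have hd' : q ∣ deg χ := by exact_mod_cast h
      obtain ⟨M, hM⟩ := BlockCharsA.DefectZeroVanish.exists_modular (Fact.out : q.Prime)
      have hq2 : ¬ q ∣ orderOf t := by rw [ht]; rcases hq with rfl | rfl | rfl <;> norm_num
      have hcop : (orderOf x).Coprime (orderOf t) := by
        rw [hx, (Fact.out : q.Prime).coprime_iff_not_dvd]; exact hq2
      have hz : (χ : G → ℂ) (x * t) = ((0 : ℤ) : ℂ) := by
        rw [zero_of_singular hcard hq χ hd' (by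
          rw [hc.orderOf_mul_eq_mul_orderOf_of_coprime hcop, hx]; exact dvd_mul_right _ _)]
        simp
      have := cong_int hM χ hc (k := 1) (by rw [pow_one, ← hx, pow_orderOf_eq_one]) hq2 hz
        (iv_spec (not_comm hcard) ht χ)
      rw [zero_sub, dvd_neg] at this
      exact this.mul_left _
  · left; exact fun h => hd (Int.dvd_of_emod_eq_zero h)

theorem csOK_iv {t : G} (ht : orderOf t = 2) {l : List (Cfsg.IrrCharacter G)} (hnd : l.Nodup)
    (htr : trivIrr G ∉ l) : csOK (cen t) (l.map fun χ => (deg χ, iv t χ)) = true := by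
  classical
  have hG := not_comm hcard
  have ht1 : t ≠ 1 := fun h => by rw [h, orderOf_one] at ht; omega
  refine csOK_apply (sq_le hnd htr t fun χ _ => iv_spec hG ht χ) (deg_sq_le hcard hnd htr) ?_
  have hnc : ¬ IsConj (1 : G) t := fun h => ht1 (isConj_one_right.1 h)
  obtain ⟨h, -⟩ := cauchy_rest hnc (insert (trivIrr G) l.toFinset) (fun χ => (deg χ : ℤ)) (iv t)
    (fun χ _ => by simp [← deg_cast]) fun χ _ => iv_spec hG ht χ
  simp only [Finset.sum_insert (show trivIrr G ∉ l.toFinset by simpa using htr),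
    List.sum_toFinset _ hnd, deg_trivIrr, iv_triv, cen_one hcard] at h
  simpa [ord] using h

/-- Value vectors at an involution are found by the search. -/
theorem allV_iv {p : ℕ} [Fact p.Prime] (hp : p ≠ 2) {P : Sylow p G} {D : PBlock P} (R : PRow D)
    {t : G} (ht : orderOf t = 2) {K : ℕ} (hK : R.ys.length = K) {op : ℤ → List ℤ}
    {good : List (ℕ × ℤ) → ℤ → Bool} (h : allV (cen t - 1) K R.M op good = true)
    (hop : ∀ χ ∈ R.all, ∀ s : ℤ, (s = 1 ∨ s = -1) → s * iv t χ ∈ op (s * (deg χ : ℤ))) :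
    good (R.all.map fun χ => (deg χ, iv t χ)) (quad R.M (R.us (iv t))) = true := by
  subst hK
  have hG := not_comm hcard
  refine Row.allV_apply (dg := fun χ => deg χ) R.toRow h
    (R.relV (by rw [ht]; exact fun hd => hp ((Nat.prime_dvd_prime_iff_eq Fact.out Nat.prime_two).1 hd))
      fun χ _ => iv_spec hG ht χ) hop ?_
  have h1 := sq_le (l := R.cs) (List.nodup_append.1 R.nodup).1
    (fun h => R.ne_triv (List.mem_append_left _ h) rfl) t (f := iv t) fun χ _ => iv_spec hG ht χ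
  have : 0 < cen t := Nat.card_pos
  omega

theorem dOK_of_mem {p : ℕ} [Fact p.Prime] {P : Sylow p G}
    (D : PBlock P) {c : ℕ} (hC : Nat.card (centralizer ((P : Subgroup G) : Set G)) = p * c)
    (hpc : ¬ p ∣ c) {χ : Cfsg.IrrCharacter G} (hχ : χ ∈ Cfsg.principalBlock D.M G)
    (hne : χ ≠ trivIrr G) : dOK p c (deg χ) = true := by
  have key : ∀ q f : ℕ, q.Prime → q ^ (Nat.card G).factorization q = f →
      c % q ≠ 0 ∨ deg χ % f ≠ 0 := by
    intro q f hq hf
    by_cases hd : q ∣ c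
    · right
      rw [← hf]
      intro h
      refine D.not_full hq (fun e => hpc (e ▸ hd)) (hC ▸ hd.mul_left p) hχ ?_
      exact Nat.dvd_of_mod_eq_zero h
    · left; exact fun h => hd (Nat.dvd_of_mod_eq_zero h)
  simp only [dOK, List.all_cons, List.all_nil, Bool.and_true, Bool.and_eq_true, Bool.or_eq_true,
    bne_iff_ne, ne_eq, beq_iff_eq, decide_eq_true_eq]
  refine ⟨⟨key 2 128 Nat.prime_two ?_, key 3 9 Nat.prime_three ?_, key 5 5 (by norm_num) ?_,
    key 7 7 (by norm_num) ?_, key 11 11 (by norm_num) ?_⟩, ?_⟩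
  · obtain ⟨S⟩ : Nonempty (Sylow 2 G) := inferInstance
    rw [← Basic.card_sylow_eq S, card_sylow_two hcard S]
  · rw [factorization_three hcard]; norm_num
  · rw [factorization_one hcard (Or.inl rfl), pow_one]
  · rw [factorization_one hcard (Or.inr (Or.inl rfl)), pow_one]
  · rw [factorization_one hcard (Or.inr (Or.inr rfl)), pow_one]
  · by_contra h
    push Not at h
    have := card_centralizer_of_lt_two_mul (not_comm hcard) D hχ hne h.2
    rw [hC] at this
    exact h.1 (Nat.eq_of_mul_eq_mul_left (Fact.out : p.Prime).pos (this.trans (mul_one p).symm))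

theorem mem_candList {p c : ℕ} {χ : Cfsg.IrrCharacter G} (hne : χ ≠ trivIrr G)
    (hd : dOK p c (deg χ) = true) {s : ℤ} (hs : s = 1 ∨ s = -1)
    (hm : (s * (deg χ : ℤ)) % (p : ℤ) = 1) : s * (deg χ : ℤ) ∈ candList p c := by
  refine List.mem_filter.2 ⟨List.mem_flatMap.2 ⟨deg χ, List.mem_filter.2 ⟨deg_mem hcard hne, hd⟩, ?_⟩,
    by simpa using hm⟩
  rcases hs with rfl | rfl <;> simp

/-- The row of the principal block, in the order of the list of candidates. -/
theorem exists_prow {p : ℕ} [Fact p.Prime] (hp : p = 5 ∨ p = 7 ∨ p = 11) {P : Sylow p G}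
    {D : PBlock P} (ht : trivIrr G ∈ D.X) (hts : D.sgn (trivIrr G) = 1) {c : ℕ}
    (hC : Nat.card (centralizer ((P : Subgroup G) : Set G)) = p * c) (hpc : ¬ p ∣ c) (X : List ℤ)
    (hX : ∀ χ ∈ Cfsg.principalBlock D.M G, χ ≠ trivIrr G → ∀ s : ℤ, (s = 1 ∨ s = -1) →
      s * (deg χ : ℤ) ∈ candList p c → s * (deg χ : ℤ) ∈ X) :
    ∃ R : PRow D, R.M ∈ rowsIn X p D.e c := by
  classical
  obtain ⟨R₀⟩ := exists_prow' ht hts
  have hpp : p.Prime := Fact.out
  have hone : ∀ z : ℤ, (p : ℤ) ∣ z - 1 → z % (p : ℤ) = 1 := fun z h => by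
    obtain ⟨k, hk⟩ := h
    rw [show z = 1 + (p : ℤ) * k by linarith, Int.add_mul_emod_self_left]
    exact Int.emod_eq_of_lt (by norm_num) (by exact_mod_cast hpp.one_lt)
  have hok : ∀ (R : PRow D), ∀ χ ∈ R.all, dOK p c (deg χ) = true := fun R χ hχ =>
    dOK_of_mem hcard D hC hpc (R.mem_block hχ) (R.ne_triv hχ)
  have hMX : ∀ (R : PRow D), ∀ z ∈ R.M, z ∈ X := fun R z hz => by
    obtain ⟨χ, hχ, rfl⟩ := List.mem_map.1 hz
    have hm : χ ∈ R.all := List.mem_append_left _ hχ
    exact hX χ (R.mem_block hm) (R.ne_triv hm) _ (R.w_eq χ hχ)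
      (mem_candList hcard (R.ne_triv hm) (hok R χ hm) (R.w_eq χ hχ) (hone _ (R.cong_cs χ hχ)))
  have hcanon : ∀ R : PRow D, ∃ R' : PRow D, R'.M ∈ combs X (D.e - 1) ∧ R'.M.Perm R.M ∧
      R'.ys = R.ys ∧ R'.δ = R.δ := fun R => by
    obtain ⟨M', hM', hperm⟩ := combs_complete X R.M (hMX R)
    obtain ⟨l, hl, hm⟩ := exists_perm_map (m := M') (l := R.cs) hperm
    rw [show R.M.length = D.e - 1 by rw [Row.M, List.length_map, R.len_cs]] at hM'
    refine ⟨R.perm hl, ?_, ?_, rfl, rfl⟩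
    · show l.map (fun χ => R.w χ * (deg χ : ℤ)) ∈ _; rw [hm]; exact hM'
    · show (l.map fun χ => R.w χ * (deg χ : ℤ)).Perm _; rw [hm]; exact hperm
  have hF : ∀ (R : PRow D), ∀ θ ∈ R.ys, 1 + R.M.sum = R.δ * (deg θ : ℤ) := fun R θ hθ => (R.rel θ hθ).symm
  have hsq : ∀ (R : PRow D), ∀ θ ∈ R.ys,
      1 + sqSum R.M + (R.ys.length : ℤ) * ((1 + R.M.sum) * (1 + R.M.sum)) ≤ ord := by
    intro R θ hθ
    have h := deg_sq_le hcard (l := R.all) R.nodup fun h => R.ne_triv h rfl
    rw [Row.all, List.map_append, List.sum_append] at h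
    rw [show (R.ys.map fun χ => (deg χ : ℤ) * (deg χ : ℤ)) =
        List.replicate R.ys.length ((deg θ : ℤ) * (deg θ : ℤ)) from
      List.eq_replicate_iff.2 ⟨List.length_map _, fun b hb => by
      obtain ⟨θ', hθ', rfl⟩ := List.mem_map.1 hb
      show _ = (deg θ : ℤ) * (deg θ : ℤ)
      have e1 := hF R θ hθ
      have e2 := hF R θ' hθ'
      rw [e1] at e2
      rcases R.δ_eq with e | e <;> rw [e] at e2 <;> simp at e2 <;> rw [e2]⟩] at h
    rw [List.sum_replicate, nsmul_eq_mul] at h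
    rw [sqSum, Row.M, List.map_map, ← Row.M, hF R θ hθ]
    rw [List.map_congr_left (g := fun χ => (deg χ : ℤ) * (deg χ : ℤ)) fun χ hχ => by
      rcases R.w_eq χ hχ with e | e <;> simp [e]]
    rcases R.δ_eq with e | e <;> rw [e] <;> linarith
  by_cases he : D.e + 1 = p
  · have hK : R₀.ys.length = 1 := by
      rw [R₀.len_ys, show p - 1 = D.e by omega, Nat.div_self D.e_pos]
    obtain ⟨χ₀, h₀, hmax⟩ := Finset.exists_max_image R₀.all.toFinset (fun χ => deg χ)
      (List.toFinset_nonempty_iff _ |>.2 fun h => by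
        have := congrArg List.length h
        simp [Row.all, hK] at this)
    obtain ⟨R₁, h1⟩ := R₀.exists_pivot hK he (List.mem_toFinset.1 h₀)
    obtain ⟨R, hR, -, hys, -⟩ := hcanon R₁
    rw [h1] at hys
    have hχ₀ : χ₀ ∈ R.ys := by simp [hys]
    have hF0 := hF R χ₀ hχ₀
    have hmem : χ₀ ∈ R.all := List.mem_append_right _ hχ₀
    refine ⟨R, ?_⟩
    rw [rowsIn, if_pos he, List.mem_filter]
    simp only [Bool.and_eq_true, List.all_eq_true, Nat.ble_eq, decide_eq_true_eq,
      List.contains_iff_mem]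
    have hneg : -1 - R.M.sum = -R.δ * (deg χ₀ : ℤ) := by linear_combination -hF0
    have hns : -R.δ = 1 ∨ -R.δ = -1 := by rcases R.δ_eq with e | e <;> simp [e]
    refine ⟨hR, ⟨?_, fun z hz => ?_⟩, ?_⟩
    · rw [hneg]
      refine hX χ₀ (R.mem_block hmem) (R.ne_triv hmem) _ hns
        (mem_candList hcard (R.ne_triv hmem) (hok R χ₀ hmem) hns (hone _ ?_))
      obtain ⟨k, hk⟩ := R.cong_ys χ₀ hχ₀
      have h2 : (p : ℤ) = (D.e : ℤ) + 1 := by exact_mod_cast he.symm
      exact ⟨-k - 1, by linear_combination -hk + h2⟩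
    · obtain ⟨χ, hχ, rfl⟩ := List.mem_map.1 hz
      rw [hneg, Row.natAbs_signed (R.w_eq χ hχ), Row.natAbs_signed hns, Int.natAbs_natCast,
        Int.natAbs_natCast]
      refine hmax χ (List.mem_toFinset.2 ((R₀.mem χ).2 ((R.mem χ).1 (List.mem_append_left _ hχ))))
    · have h := hsq R χ₀ hχ₀
      rw [hys, List.length_singleton] at h
      push_cast at h
      linarith [show (-1 - R.M.sum) * (-1 - R.M.sum) = (1 + R.M.sum) * (1 + R.M.sum) by ring]
  · obtain ⟨R, hR, -, -, -⟩ := hcanon R₀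
    refine ⟨R, ?_⟩
    obtain ⟨θ, hθ⟩ := List.exists_mem_of_ne_nil _ R.ys_ne
    have hmem : θ ∈ R.all := List.mem_append_right _ hθ
    have habs : (1 + R.M.sum).natAbs = deg θ := by
      rw [hF R θ hθ, Row.natAbs_signed R.δ_eq, Int.natAbs_natCast]
    rw [rowsIn, if_neg he, List.mem_filter]
    simp only [Bool.and_eq_true, decide_eq_true_eq, beq_iff_eq, List.contains_iff_mem, habs]
    refine ⟨hR, ⟨⟨deg_mem hcard (R.ne_triv hmem), hok R θ hmem⟩, ?_⟩, ?_⟩
    · rw [hF R θ hθ]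
      exact Int.emod_eq_zero_of_dvd (R.cong_ys θ hθ)
    · have h := hsq R θ hθ
      rwa [R.len_ys] at h

end

end Cfsg.Agent.M22Order
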